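import Mathlib.RingTheory.PiTensorProduct
import Mathlib.RingTheory.TensorProduct.Maps
import Mathlib.LinearAlgebra.PiTensorProduct.Basic
import Mathlib.Logic.Equiv.Fin.Basic
import Mathlib.Data.Fin.Tuple.Basic

/-!
Algebra equivalences for tensor powers and finite tensor products of algebras.
-/

set_option autoImplicit false

universe u v w x

open scoped TensorProduct
open PiTensorProduct

namespace Groth.Agent.CSA

variable {R : Type u} [CommRing R]

section Congr

variable {ι : Type x} {A : ι → Type v} {B : ι → Type w} [∀ i, Ring (A i)] [∀ i, Algebra R (A i)]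
  [∀ i, Ring (B i)] [∀ i, Algebra R (B i)]

/-- Functoriality of finite tensor products of algebras. -/
noncomputable def piMap (f : ∀ i, A i →ₐ[R] B i) : (⨂[R] i, A i) →ₐ[R] ⨂[R] i, B i :=
  AlgHom.ofLinearMap (PiTensorProduct.map fun i => (f i).toLinearMap)
    (by
      show PiTensorProduct.map _ (tprod R 1) = 1
      rw [map_tprod]
      exact congrArg (tprod R) (funext fun i => map_one (f i)))
    ((LinearMap.map_mul_iff _).mpr (by ext a b; simp; rfl))

theorem piMap_tprod (f : ∀ i, A i →ₐ[R] B i) (a : ∀ i, A i) :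
    piMap f (tprod R a) = tprod R fun i => f i (a i) := map_tprod _ a

/-- Finite tensor products of isomorphic algebras are isomorphic. -/
noncomputable def piCongr (e : ∀ i, A i ≃ₐ[R] B i) : (⨂[R] i, A i) ≃ₐ[R] ⨂[R] i, B i :=
  AlgEquiv.ofAlgHom (piMap fun i => (e i).toAlgHom) (piMap fun i => (e i).symm.toAlgHom)
    (AlgHom.toLinearMap_injective (PiTensorProduct.ext (MultilinearMap.ext fun b => by simp [piMap_tprod])))
    (AlgHom.toLinearMap_injective (PiTensorProduct.ext (MultilinearMap.ext fun b => by simp [piMap_tprod])))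

end Congr

section Power

variable (A : Type v) [Ring A] [Algebra R A]

/-- Reindexing a tensor power. -/
noncomputable def powReindex {ι : Type w} {κ : Type x} (e : ι ≃ κ) :
    (⨂[R] _ : ι, A) ≃ₐ[R] ⨂[R] _ : κ, A :=
  AlgEquiv.ofLinearEquiv (PiTensorProduct.reindex R (fun _ => A) e)
    (by
      show PiTensorProduct.reindex R (fun _ => A) e (tprod R 1) = 1
      rw [reindex_tprod]; rfl)
    ((LinearMap.map_mul_iff (PiTensorProduct.reindex R (fun _ => A) e).toLinearMap).mpr (by
      ext a b
      simp
      rfl))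

/-- Splitting a tensor power over a sum of index types. -/
noncomputable def powSum (ι : Type w) (κ : Type x) :
    (⨂[R] _ : ι, A) ⊗[R] (⨂[R] _ : κ, A) ≃ₐ[R] ⨂[R] _ : ι ⊕ κ, A :=
  AlgEquiv.ofLinearEquiv (PiTensorProduct.tmulEquiv R A)
    (by
      show PiTensorProduct.tmulEquiv R A (tprod R 1 ⊗ₜ tprod R 1) = 1
      rw [show (1 : ι → A) = fun _ => 1 from rfl, show (1 : κ → A) = fun _ => 1 from rfl, tmulEquiv_apply]
      exact congrArg (tprod R) (funext fun i => by cases i <;> rfl))
    ((LinearMap.map_mul_iff (PiTensorProduct.tmulEquiv R A).toLinearMap).mpr (by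
      ext a b c d
      simp only [LinearMap.compr₂_apply, LinearMap.compl₁₂_apply, TensorProduct.AlgebraTensorModule.curry_apply,
        TensorProduct.curry_apply, LinearMap.coe_restrictScalars, LinearMap.compMultilinearMap_apply,
        LinearMap.mul_apply', LinearEquiv.coe_coe, LinearMap.compl₂_apply, LinearMap.comp_apply,
        Algebra.TensorProduct.tmul_mul_tmul, tprod_mul_tprod, tmulEquiv_apply]
      exact congrArg (tprod R) (funext fun i => by cases i <;> rfl)))

/-- The tensor power over an empty index type. -/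
noncomputable def powEmpty (ι : Type w) [IsEmpty ι] : (⨂[R] _ : ι, A) ≃ₐ[R] R :=
  AlgEquiv.ofLinearEquiv (PiTensorProduct.isEmptyEquiv ι)
    (by
      show PiTensorProduct.isEmptyEquiv ι (tprod R 1) = 1
      simp [PiTensorProduct.isEmptyEquiv, MultilinearMap.constOfIsEmpty])
    ((LinearMap.map_mul_iff (PiTensorProduct.isEmptyEquiv ι : (⨂[R] _ : ι, A) ≃ₗ[R] R).toLinearMap).mpr (by
      ext a b
      simp [PiTensorProduct.isEmptyEquiv, MultilinearMap.constOfIsEmpty]))

/-- The tensor power over a one-element index type. -/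
noncomputable def powUnique (ι : Type w) [Unique ι] : (⨂[R] _ : ι, A) ≃ₐ[R] A :=
  AlgEquiv.ofLinearEquiv (PiTensorProduct.subsingletonEquiv (default : ι))
    (by
      show PiTensorProduct.subsingletonEquiv (default : ι) (tprod R 1) = 1
      simp [PiTensorProduct.subsingletonEquiv])
    ((LinearMap.map_mul_iff (PiTensorProduct.subsingletonEquiv (default : ι) :
        (⨂[R] _ : ι, A) ≃ₗ[R] A).toLinearMap).mpr (by
      ext a b
      simp [PiTensorProduct.subsingletonEquiv]))

/-- `A^{⊗ m} ⊗ A^{⊗ n} ≅ A^{⊗ (m + n)}`. -/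
noncomputable def powAdd (m n : ℕ) :
    (⨂[R] _ : Fin m, A) ⊗[R] (⨂[R] _ : Fin n, A) ≃ₐ[R] ⨂[R] _ : Fin (m + n), A :=
  (powSum A (Fin m) (Fin n)).trans (powReindex A finSumFinEquiv)

end Power

end Groth.Agent.CSA
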