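import Groth.Agent.CSA.Subfield
import Groth.Agent.CSA.Tpow
import Groth.Prelude.Def_GSzCSA

/-!
Brauer equivalence over a field, index, tensor powers.
-/

set_option autoImplicit false

universe u v w x y z

open scoped TensorProduct

namespace Groth.Agent.CSA

/-- Brauer equivalence of algebras, across universes. -/
def BrEq (k : Type u) [Field k] (A : Type v) [Ring A] [Algebra k A] (B : Type w) [Ring B] [Algebra k B] : Prop :=
  ∃ n m : ℕ, n ≠ 0 ∧ m ≠ 0 ∧ Nonempty (Matrix (Fin n) (Fin n) A ≃ₐ[k] Matrix (Fin m) (Fin m) B)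

section CSAInstances

variable (k : Type u) [Field k] (A : Type v) [Ring A] [Algebra k A]

/-- The three hypotheses bundled. -/
structure IsCSA : Prop where
  central : Algebra.IsCentral k A
  simple : IsSimpleRing A
  findim : FiniteDimensional k A

theorem IsCSA.of [Algebra.IsCentral k A] [IsSimpleRing A] [FiniteDimensional k A] : IsCSA k A :=
  ⟨inferInstance, inferInstance, inferInstance⟩

theorem IsCSA.self : IsCSA k k := ⟨inferInstance, inferInstance, inferInstance⟩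

variable {k A}

theorem IsCSA.of_algEquiv {B : Type w} [Ring B] [Algebra k B] (h : IsCSA k A) (e : A ≃ₐ[k] B) : IsCSA k B := by
  obtain ⟨h1, h2, h3⟩ := h
  refine ⟨⟨fun x hx => ?_⟩, IsSimpleRing.of_ringEquiv e.toRingEquiv h2, Module.Finite.equiv e.toLinearEquiv⟩
  obtain ⟨c, hc⟩ := (Algebra.IsCentral.mem_center_iff k).1 ((MulEquivClass.apply_mem_center_iff e.symm).2 hx)
  exact Algebra.mem_bot.2 ⟨c, e.symm.injective (by rw [hc, AlgEquiv.commutes])⟩

theorem IsCSA.tensor {B : Type w} [Ring B] [Algebra k B] (hA : IsCSA k A) (hB : IsCSA k B) :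
    IsCSA k (A ⊗[k] B) := by
  obtain ⟨h1, h2, h3⟩ := hA
  obtain ⟨h4, h5, h6⟩ := hB
  exact ⟨isCentral_tensor, isSimpleRing_tensor_right, inferInstance⟩

theorem IsCSA.matrix (h : IsCSA k A) (n : ℕ) (hn : n ≠ 0) : IsCSA k (Matrix (Fin n) (Fin n) A) := by
  obtain ⟨h1, h2, h3⟩ := h
  have : NeZero n := ⟨hn⟩
  have : Nonempty (Fin n) := ⟨0⟩
  exact ⟨inferInstance, inferInstance, inferInstance⟩

theorem IsCSA.op (h : IsCSA k A) : IsCSA k Aᵐᵒᵖ := by
  obtain ⟨h1, h2, h3⟩ := h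
  exact ⟨inferInstance, inferInstance, inferInstance⟩

theorem IsCSA.baseChange (h : IsCSA k A) (K : Type w) [Field K] [Algebra k K] : IsCSA K (K ⊗[k] A) := by
  obtain ⟨h1, h2, h3⟩ := h
  exact ⟨isCentral_baseChange, isSimpleRing_tensor_right, inferInstance⟩

theorem IsCSA.tpow (h : IsCSA k A) : ∀ e : ℕ, IsCSA k (CSAGal.tpow k A e)
  | 0 => (IsCSA.self k).of_algEquiv (powEmpty A (Fin 0)).symm
  | e + 1 => ((IsCSA.tpow h e).tensor (h.of_algEquiv (powUnique A (Fin 1)).symm)).of_algEquiv (powAdd A e 1)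

end CSAInstances

section BrEq

variable {k : Type u} [Field k] {A : Type v} [Ring A] [Algebra k A] {B : Type w} [Ring B] [Algebra k B]
  {C : Type x} [Ring C] [Algebra k C] {D : Type y} [Ring D] [Algebra k D]

theorem BrEq.of_algEquiv (e : A ≃ₐ[k] B) : BrEq k A B := ⟨1, 1, one_ne_zero, one_ne_zero, ⟨e.mapMatrix⟩⟩

theorem BrEq.refl : BrEq k A A := .of_algEquiv AlgEquiv.refl

theorem BrEq.symm (h : BrEq k A B) : BrEq k B A := by
  obtain ⟨n, m, hn, hm, ⟨e⟩⟩ := h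
  exact ⟨m, n, hm, hn, ⟨e.symm⟩⟩

theorem BrEq.matrix (n : ℕ) (hn : n ≠ 0) : BrEq k (Matrix (Fin n) (Fin n) A) A :=
  ⟨1, n, one_ne_zero, hn, ⟨matrixOne⟩⟩

theorem BrEq.trans (h : BrEq k A B) (h' : BrEq k B C) : BrEq k A C := by
  obtain ⟨n, m, hn, hm, ⟨e⟩⟩ := h
  obtain ⟨p, q, hp, hq, ⟨f⟩⟩ := h'
  refine ⟨p * n, m * q, Nat.mul_ne_zero hp hn, Nat.mul_ne_zero hm hq, ⟨?_⟩⟩
  exact ((matrixMatrix p n).symm.trans (e.mapMatrix.trans ((matrixMatrix p m).trans
    ((matrixCast (Nat.mul_comm p m)).trans ((matrixMatrix m p).symm.trans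
      (f.mapMatrix.trans (matrixMatrix m q)))))))

theorem BrEq.of_matrix {n : ℕ} (e : A ≃ₐ[k] Matrix (Fin n) (Fin n) B) (hn : n ≠ 0) : BrEq k A B :=
  (BrEq.of_algEquiv e).trans (.matrix n hn)

theorem BrEq.tensor (h : BrEq k A B) (h' : BrEq k C D) : BrEq k (A ⊗[k] C) (B ⊗[k] D) := by
  obtain ⟨n, m, hn, hm, ⟨e⟩⟩ := h
  obtain ⟨p, q, hp, hq, ⟨f⟩⟩ := h'
  exact ⟨n * p, m * q, Nat.mul_ne_zero hn hp, Nat.mul_ne_zero hm hq,
    ⟨(matrixTensor (k := k) (A := A) (B := C) n p).symm.trans ((Algebra.TensorProduct.congr e f).trans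
      (matrixTensor (k := k) (A := B) (B := D) m q))⟩⟩

theorem BrEq.baseChange (h : BrEq k A B) (K : Type z) [Field K] [Algebra k K] :
    BrEq K (K ⊗[k] A) (K ⊗[k] B) := by
  obtain ⟨n, m, hn, hm, ⟨e⟩⟩ := h
  exact ⟨n, m, hn, hm, ⟨(baseChangeMatrix (k := k) (A := A) K (Fin n)).symm.trans
    ((Algebra.TensorProduct.congr AlgEquiv.refl e).trans (baseChangeMatrix (k := k) (A := B) K (Fin m)))⟩⟩

theorem BrEq.tensor_op (h : IsCSA k A) : BrEq k (A ⊗[k] Aᵐᵒᵖ) k := by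
  obtain ⟨h1, h2, h3⟩ := h
  exact .of_matrix ((AlgEquiv.ofBijective _ mulLeftRight_bijective).trans (algEquivMatrix (Module.finBasis k A)))
    (Module.finrank_pos (R := k) (M := A)).ne'

theorem BrEq.tensor_right_base : BrEq k (A ⊗[k] k) A := .of_algEquiv (Algebra.TensorProduct.rid k k A)

theorem BrEq.tensor_left_base : BrEq k (k ⊗[k] A) A := .of_algEquiv (Algebra.TensorProduct.lid k A)

theorem BrEq.tensor_comm : BrEq k (A ⊗[k] B) (B ⊗[k] A) := .of_algEquiv (Algebra.TensorProduct.comm k A B)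

theorem BrEq.tensor_assoc : BrEq k ((A ⊗[k] B) ⊗[k] C) (A ⊗[k] (B ⊗[k] C)) :=
  .of_algEquiv (Algebra.TensorProduct.assoc k k k A B C)

/-- Brauer equivalent algebras have isomorphic division parts. -/
theorem BrEq.divisionPart {E : Type y} [DivisionRing E] [Algebra k E] {F : Type z} [DivisionRing F] [Algebra k F]
    {a b : ℕ} [NeZero a] [NeZero b] (eA : A ≃ₐ[k] Matrix (Fin a) (Fin a) E)
    (eB : B ≃ₐ[k] Matrix (Fin b) (Fin b) F) (h : BrEq k A B) : Nonempty (E ≃ₐ[k] F) := by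
  obtain ⟨n, m, hn, hm, ⟨e⟩⟩ := h
  have : NeZero (n * a) := ⟨Nat.mul_ne_zero hn (NeZero.ne a)⟩
  have : NeZero (m * b) := ⟨Nat.mul_ne_zero hm (NeZero.ne b)⟩
  exact nonempty_algEquiv_of_matrix ((matrixMatrix n a).symm.trans (eA.symm.mapMatrix.trans
    (e.trans (eB.mapMatrix.trans (matrixMatrix m b)))))

theorem BrEq.isCSA (h : BrEq k A B) (hB : IsCSA k B) :
    ∃ n : ℕ, n ≠ 0 ∧ IsCSA k (Matrix (Fin n) (Fin n) A) := by
  obtain ⟨n, m, hn, hm, ⟨e⟩⟩ := h
  exact ⟨n, hn, (hB.matrix m hm).of_algEquiv e.symm⟩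

theorem algEquiv_matrix_of_brEq_self (hA : IsCSA k A) (h : BrEq k A k) :
    ∃ n : ℕ, n ≠ 0 ∧ Nonempty (A ≃ₐ[k] Matrix (Fin n) (Fin n) k) := by
  obtain ⟨h1, h2, h3⟩ := hA
  obtain ⟨a, ha, E, _, _, _, _, ⟨eA⟩⟩ := exists_algEquiv_matrix_divisionRing k A
  obtain ⟨φ⟩ := BrEq.divisionPart (b := 1) eA (matrixOne (k := k) (A := k)).symm h
  exact ⟨a, NeZero.ne a, ⟨eA.trans φ.mapMatrix⟩⟩

theorem splits_iff_brEq (hA : IsCSA k A) (K : Type z) [Field K] [Algebra k K] :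
    Curves.Splits k A K ↔ BrEq K (K ⊗[k] A) K :=
  ⟨fun ⟨_, hn, ⟨e⟩⟩ => .of_matrix e hn, fun h => algEquiv_matrix_of_brEq_self (hA.baseChange K) h⟩

theorem splits_self_iff_brEq (hA : IsCSA k A) : Curves.Splits k A k ↔ BrEq k A k :=
  (splits_iff_brEq hA k).trans ⟨fun h => BrEq.tensor_left_base.symm.trans h, fun h => BrEq.tensor_left_base.trans h⟩

theorem BrEq.splits_iff (hA : IsCSA k A) (hB : IsCSA k B) (h : BrEq k A B) (K : Type z) [Field K] [Algebra k K] :
    Curves.Splits k A K ↔ Curves.Splits k B K := by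
  rw [splits_iff_brEq hA K, splits_iff_brEq hB K]
  exact ⟨fun h' => (h.baseChange K).symm.trans h', fun h' => (h.baseChange K).trans h'⟩

theorem BrEq.algEquiv_of_finrank (hA : IsCSA k A) (hB : IsCSA k B) (h : BrEq k A B)
    (hd : Module.finrank k A = Module.finrank k B) : Nonempty (A ≃ₐ[k] B) := by
  obtain ⟨h1, h2, h3⟩ := hA
  obtain ⟨h4, h5, h6⟩ := hB
  obtain ⟨a, ha, E, _, _, _, _, ⟨eA⟩⟩ := exists_algEquiv_matrix_divisionRing k A
  obtain ⟨b, hb, F, _, _, _, _, ⟨eB⟩⟩ := exists_algEquiv_matrix_divisionRing k B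
  obtain ⟨φ⟩ := h.divisionPart eA eB
  rw [eA.toLinearEquiv.finrank_eq, eB.toLinearEquiv.finrank_eq, Module.finrank_matrix, Module.finrank_matrix,
    ← φ.toLinearEquiv.finrank_eq, Fintype.card_fin, Fintype.card_fin] at hd
  have hab : a = b := Nat.mul_self_inj.mp (Nat.eq_of_mul_eq_mul_right Module.finrank_pos hd)
  exact ⟨eA.trans (φ.mapMatrix.trans ((matrixCast hab).trans eB.symm))⟩

end BrEq

section Index

variable (k : Type u) [Field k] (A : Type v) [Ring A] [Algebra k A]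

/-- `A` is a matrix algebra over a division algebra of degree `d`. -/
def HasDivisionPartOfDeg (d : ℕ) : Prop :=
  ∃ (n : ℕ) (_ : NeZero n) (D : Type v) (_ : DivisionRing D) (_ : Algebra k D),
    Module.finrank k D = d ^ 2 ∧ Nonempty (A ≃ₐ[k] Matrix (Fin n) (Fin n) D)

open Classical in
/-- The index of a central simple algebra: the degree of its division part. -/
noncomputable def ind : ℕ :=
  if h : ∃ d, HasDivisionPartOfDeg k A d then h.choose else 0

theorem ind_eq_deg (n : ℕ) [NeZero n] (D : Type w) [DivisionRing D] [Algebra k D]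
    (e : A ≃ₐ[k] Matrix (Fin n) (Fin n) D) (hA : IsCSA k A) : ind k A = deg k D := by
  obtain ⟨h1, h2, h3⟩ := hA
  obtain ⟨a, ha, E, i1, i2, _, _, hE⟩ := exists_algEquiv_matrix_divisionRing k A
  have h : ∃ d, HasDivisionPartOfDeg k A d := ⟨deg k E, a, ha, E, i1, i2, finrank_eq_deg_sq k E, hE⟩
  rw [ind, dif_pos h]
  obtain ⟨b, _, F, _, _, hF, ⟨e'⟩⟩ := h.choose_spec
  obtain ⟨φ⟩ := BrEq.divisionPart e' e BrEq.refl
  exact (deg_eq_of_finrank k D (φ.toLinearEquiv.finrank_eq.symm.trans hF)).symm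

variable {k A}

theorem exists_divisionPart (hA : IsCSA k A) :
    ∃ (n : ℕ) (_ : NeZero n) (D : Type v) (_ : DivisionRing D) (_ : Algebra k D),
      FiniteDimensional k D ∧ Algebra.IsCentral k D ∧ Module.finrank k D = ind k A ^ 2 ∧
        Nonempty (A ≃ₐ[k] Matrix (Fin n) (Fin n) D) := by
  obtain ⟨h1, h2, h3⟩ := hA
  obtain ⟨a, ha, E, i1, i2, h4, h5, ⟨eA⟩⟩ := exists_algEquiv_matrix_divisionRing k A
  refine ⟨a, ha, E, i1, i2, h4, h5, ?_, ⟨eA⟩⟩
  rw [ind_eq_deg k A a E eA ⟨h1, h2, h3⟩]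
  exact finrank_eq_deg_sq k E

theorem ind_pos (hA : IsCSA k A) : 0 < ind k A := by
  obtain ⟨a, ha, E, i1, i2, h4, h5, hd, ⟨eA⟩⟩ := exists_divisionPart hA
  by_contra h
  have := Module.finrank_pos (R := k) (M := E)
  simp [hd, Nat.eq_zero_of_not_pos h] at this

theorem BrEq.ind_eq {B : Type w} [Ring B] [Algebra k B] (hA : IsCSA k A) (hB : IsCSA k B) (h : BrEq k A B) :
    ind k A = ind k B := by
  obtain ⟨a, ha, E, _, _, _, _, hd, ⟨eA⟩⟩ := exists_divisionPart hA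
  obtain ⟨b, hb, F, _, _, _, _, hd', ⟨eB⟩⟩ := exists_divisionPart hB
  obtain ⟨φ⟩ := h.divisionPart eA eB
  exact Nat.pow_left_injective two_ne_zero (hd.symm.trans (φ.toLinearEquiv.finrank_eq.trans hd'))

theorem ind_eq_one_iff (hA : IsCSA k A) : ind k A = 1 ↔ BrEq k A k := by
  constructor
  · intro h
    obtain ⟨a, ha, E, _, _, _, _, hd, ⟨eA⟩⟩ := exists_divisionPart hA
    rw [h, one_pow] at hd
    have hbij : Function.Bijective (Algebra.ofId k E) := by
      refine ⟨(algebraMap k E).injective, ?_⟩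
      exact (LinearMap.injective_iff_surjective_of_finrank_eq_finrank (f := (Algebra.ofId k E).toLinearMap)
        (by rw [hd, Module.finrank_self])).1 (algebraMap k E).injective
    exact (BrEq.of_matrix eA (NeZero.ne a)).trans (.of_algEquiv (AlgEquiv.ofBijective _ hbij).symm)
  · intro h
    rw [h.ind_eq hA (IsCSA.self k), ind_eq_deg k k 1 k matrixOne.symm (IsCSA.self k), deg, Module.finrank_self]
    rfl

theorem isIndex_iff (hA : IsCSA k A) (d : ℕ) : CSAGal.IsIndex k A d ↔ d = ind k A := by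
  constructor
  · rintro ⟨hd0, m, D, _, _, hm, hd, ⟨e⟩⟩
    have : NeZero m := ⟨hm.ne'⟩
    rw [ind_eq_deg k A m D e hA, deg_eq_of_finrank k D hd]
  · rintro rfl
    obtain ⟨a, ha, E, i1, i2, _, _, hd, he⟩ := exists_divisionPart hA
    exact ⟨ind_pos hA, a, E, i1, i2, Nat.pos_of_ne_zero (NeZero.ne a), hd, he⟩

theorem ind_dvd_of_splits (hA : IsCSA k A) (K : Type w) [Field K] [Algebra k K] [FiniteDimensional k K]
    (h : Curves.Splits k A K) : ind k A ∣ Module.finrank k K := by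
  obtain ⟨a, ha, E, _, _, _, _, hd, ⟨eA⟩⟩ := exists_divisionPart hA
  have hE : IsCSA k E := IsCSA.of k E
  exact dvd_finrank_of_splits k E (ind k A) hd K
    (((BrEq.of_matrix eA (NeZero.ne a)).splits_iff hA hE K).1 h)

theorem exists_splitting_of_degree_ind (hA : IsCSA k A) :
    ∃ (L : Type v) (_ : Field L) (_ : Algebra k L), FiniteDimensional k L ∧ Module.finrank k L = ind k A ∧
      Curves.Splits k A L := by
  obtain ⟨a, ha, E, _, _, _, _, hd, ⟨eA⟩⟩ := exists_divisionPart hA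
  obtain ⟨L, i1, i2, ι, hL, hs⟩ := exists_maximal_subfield k E
  refine ⟨L, i1, i2, finiteDimensional_of_algHom ι, Nat.pow_left_injective two_ne_zero (hL.symm.trans hd), ?_⟩
  exact ((BrEq.of_matrix eA (NeZero.ne a)).splits_iff hA (IsCSA.of k E) L).2 hs

theorem deg_eq_of_algEquiv {B : Type w} [Ring B] [Algebra k B] (e : A ≃ₐ[k] B) : deg k A = deg k B :=
  congrArg Nat.sqrt e.toLinearEquiv.finrank_eq

theorem ind_dvd_deg (hA : IsCSA k A) : ind k A ∣ deg k A := by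
  obtain ⟨a, ha, E, _, _, _, _, hd, ⟨eA⟩⟩ := exists_divisionPart hA
  have h : Module.finrank k A = (a * ind k A) ^ 2 := by
    rw [eA.toLinearEquiv.finrank_eq, Module.finrank_matrix, hd, Fintype.card_fin]
    ring
  exact ⟨a, by rw [deg_eq_of_finrank k A h, mul_comm]⟩

end Index

section Tpow

variable {k : Type u} [Field k] {A : Type v} [Ring A] [Algebra k A] {B : Type w} [Ring B] [Algebra k B]

theorem brEq_tpow_zero : BrEq k (CSAGal.tpow k A 0) k := .of_algEquiv (powEmpty A (Fin 0))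

theorem brEq_tpow_one : BrEq k (CSAGal.tpow k A 1) A := .of_algEquiv (powUnique A (Fin 1))

theorem brEq_tpow_add (m n : ℕ) :
    BrEq k (CSAGal.tpow k A (m + n)) (CSAGal.tpow k A m ⊗[k] CSAGal.tpow k A n) :=
  .of_algEquiv (powAdd A m n).symm

theorem BrEq.tpow (h : BrEq k A B) : ∀ e : ℕ, BrEq k (CSAGal.tpow k A e) (CSAGal.tpow k B e)
  | 0 => brEq_tpow_zero.trans brEq_tpow_zero.symm
  | e + 1 => (brEq_tpow_add e 1).trans (((BrEq.tpow h e).tensor ((brEq_tpow_one.trans h).trans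
      brEq_tpow_one.symm)).trans (brEq_tpow_add e 1).symm)

theorem brEq_tpow_mul (a : ℕ) : ∀ b : ℕ,
    BrEq k (CSAGal.tpow k A (a * b)) (CSAGal.tpow k (CSAGal.tpow k A a) b)
  | 0 => brEq_tpow_zero.trans brEq_tpow_zero.symm
  | b + 1 => (BrEq.of_algEquiv (powReindex A (finCongr (Nat.mul_succ a b)))).trans ((brEq_tpow_add (a * b) a).trans
      (((brEq_tpow_mul a b).tensor brEq_tpow_one.symm).trans (brEq_tpow_add b 1).symm))

theorem brEq_self_of_tpow_add_left {m n : ℕ} (hn : BrEq k (CSAGal.tpow k A n) k)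
    (h : BrEq k (CSAGal.tpow k A (m + n)) k) : BrEq k (CSAGal.tpow k A m) k :=
  (BrEq.tensor_right_base.symm.trans ((BrEq.refl.tensor hn.symm).trans (brEq_tpow_add m n).symm)).trans h

theorem brEq_tpow_mul_of_brEq {n : ℕ} (hn : BrEq k (CSAGal.tpow k A n) k) (q : ℕ) :
    BrEq k (CSAGal.tpow k A (n * q)) k := by
  refine (brEq_tpow_mul n q).trans ((hn.tpow q).trans ?_)
  induction q with
  | zero => exact brEq_tpow_zero
  | succ q ih => exact (brEq_tpow_add q 1).trans ((ih.tensor brEq_tpow_one).trans BrEq.tensor_left_base)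

theorem period_dvd {e : ℕ} (hA : IsCSA k A) (he : CSAGal.IsPeriod k A e) {d : ℕ}
    (hd : BrEq k (CSAGal.tpow k A d) k) : e ∣ d := by
  obtain ⟨he0, hes, hmin⟩ := he
  have he' := (splits_self_iff_brEq (hA.tpow e)).1 hes
  rw [Nat.dvd_iff_mod_eq_zero]
  by_contra hne
  refine hmin (d % e) (Nat.pos_of_ne_zero hne) (Nat.mod_lt _ he0) ((splits_self_iff_brEq (hA.tpow _)).2 ?_)
  refine brEq_self_of_tpow_add_left (brEq_tpow_mul_of_brEq he' (d / e)) ?_
  rw [Nat.mod_add_div]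
  exact hd

end Tpow

end Groth.Agent.CSA
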