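import Groth.Agent.CSA.Modules
import Mathlib.Data.Matrix.Composition
import Mathlib.LinearAlgebra.Matrix.Unique
import Mathlib.LinearAlgebra.Matrix.Reindex
import Mathlib.RingTheory.MatrixAlgebra
import Mathlib.FieldTheory.JacobsonNoether
import Mathlib.FieldTheory.IsSepClosed

/-!
Division algebra part of a simple algebra: matrix manipulations, uniqueness; separably closed fields.
-/

set_option autoImplicit false

universe u v w x

open scoped TensorProduct

namespace Groth.Agent.CSA

variable {k : Type u} [Field k]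

section MatrixEquivs

variable {A : Type v} [Ring A] [Algebra k A]

/-- `M_m (M_n A) ≅ M_{mn} A`. -/
noncomputable def matrixMatrix (m n : ℕ) :
    Matrix (Fin m) (Fin m) (Matrix (Fin n) (Fin n) A) ≃ₐ[k] Matrix (Fin (m * n)) (Fin (m * n)) A :=
  (Matrix.compAlgEquiv (Fin m) (Fin n) A k).trans (Matrix.reindexAlgEquiv k A finProdFinEquiv)

/-- `M_m A ≅ M_n A` for `m = n`. -/
def matrixCast {m n : ℕ} (h : m = n) : Matrix (Fin m) (Fin m) A ≃ₐ[k] Matrix (Fin n) (Fin n) A :=
  Matrix.reindexAlgEquiv k A (finCongr h)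

/-- `A ≅ M_1 A`. -/
def matrixOne : Matrix (Fin 1) (Fin 1) A ≃ₐ[k] A where
  toFun M := M 0 0
  invFun a := Matrix.of fun _ _ => a
  left_inv M := by ext i j; fin_cases i; fin_cases j; rfl
  right_inv a := rfl
  map_mul' M N := by simp [Matrix.mul_apply]
  map_add' M N := rfl
  commutes' c := by simp [Matrix.algebraMap_matrix_apply]

variable {B : Type w} [Ring B] [Algebra k B]

/-- `M_m A ⊗ M_n B ≅ M_{mn} (A ⊗ B)`. -/
noncomputable def matrixTensor (m n : ℕ) :
    (Matrix (Fin m) (Fin m) A ⊗[k] Matrix (Fin n) (Fin n) B) ≃ₐ[k]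
      Matrix (Fin (m * n)) (Fin (m * n)) (A ⊗[k] B) :=
  (Matrix.kroneckerTMulAlgEquiv (Fin m) (Fin n) k k A B).trans
    (Matrix.reindexAlgEquiv k _ finProdFinEquiv)

/-- `K ⊗ M_n A ≅ M_n (K ⊗ A)` over `K`. -/
noncomputable def baseChangeMatrix (K : Type x) [Field K] [Algebra k K] (ι : Type*) [Fintype ι] [DecidableEq ι] :
    K ⊗[k] Matrix ι ι A ≃ₐ[K] Matrix ι ι (K ⊗[k] A) :=
  ((Algebra.TensorProduct.congr (matrixOne (k := K) (A := K)).symm
      (AlgEquiv.refl : Matrix ι ι A ≃ₐ[k] Matrix ι ι A)).trans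
    (Matrix.kroneckerTMulAlgEquiv (Fin 1) ι k K K A)).trans
    (Matrix.reindexAlgEquiv K _ (Equiv.uniqueProd ι (Fin 1)))

end MatrixEquivs

section Uniqueness

variable {D : Type v} [DivisionRing D] [Algebra k D] {D' : Type w} [DivisionRing D'] [Algebra k D']

open Matrix in
/-- The division part of a matrix algebra is unique. -/
theorem nonempty_algEquiv_of_matrix {n m : ℕ} [NeZero n] [NeZero m]
    (e : Matrix (Fin n) (Fin n) D ≃ₐ[k] Matrix (Fin m) (Fin m) D') : Nonempty (D ≃ₐ[k] D') := by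
  set P : Matrix (Fin n) (Fin n) D := single 0 0 1 with hP
  set Q : Matrix (Fin m) (Fin m) D' := e P with hQ
  have hPP : P * P = P := by simp [hP]
  have hQQ : Q * Q = Q := by rw [hQ, ← map_mul, hPP]
  have hQ0 : Q ≠ 0 := by
    rw [hQ, ne_eq, EmbeddingLike.map_eq_zero_iff]
    intro h
    simpa [hP] using congr_fun (congr_fun h 0) 0
  obtain ⟨a, b, hab⟩ : ∃ a b, Q a b ≠ 0 := by
    by_contra! h
    exact hQ0 (Matrix.ext h)
  set E : Matrix (Fin m) (Fin m) D' := single 0 0 1 with hE
  set X : Matrix (Fin m) (Fin m) D' := Q * single b 0 1 with hX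
  set Y : Matrix (Fin m) (Fin m) D' := single 0 a (Q a b)⁻¹ * Q with hY
  have hQX : Q * X = X := by rw [hX, ← mul_assoc, hQQ]
  have hYQ : Y * Q = Y := by rw [hY, mul_assoc, hQQ]
  have hXE : X * E = X := by simp [hX, hE, mul_assoc]
  have hEY : E * Y = Y := by simp [hY, hE, ← mul_assoc]
  have hYX : Y * X = E := by
    rw [hY, mul_assoc, hQX, hX, hE, ← mul_assoc, single_mul_mul_single]
    simp [inv_mul_cancel₀ hab]
  have hcorner : ∀ M, ∃ c, Y * M * X = single 0 0 c := fun M => by
    refine ⟨(Y * M * X) 0 0, ?_⟩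
    conv_lhs => rw [← hEY, ← hXE, hE]
    rw [show single 0 0 1 * Y * M * (X * single 0 0 1) =
      single 0 0 (1 : D') * (Y * M * X) * single 0 0 1 by simp only [mul_assoc], single_mul_mul_single]
    simp
  -- the corner map
  set S : D → Matrix (Fin n) (Fin n) D := fun d => single 0 0 d with hS
  have hSmul : ∀ d d', S (d * d') = S d * S d' := fun d d' => by simp [hS]
  have hPS : ∀ d, P * S d * P = S d := fun d => by simp [hS, hP]
  set f : D → D' := fun d => (Y * e (S d) * X) 0 0 with hf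
  have hfmat : ∀ d, Y * e (S d) * X = single 0 0 (f d) := fun d => by
    obtain ⟨c, hc⟩ := hcorner (e (S d))
    rw [hc]; simp [hf, hc]
  -- `X * Y = Q`
  obtain ⟨z, hz⟩ : ∃ z, X * Y = e (S z) := by
    refine ⟨(e.symm (X * Y)) 0 0, ?_⟩
    apply e.symm.injective
    rw [AlgEquiv.symm_apply_apply]
    have : e.symm (X * Y) = P * e.symm (X * Y) * P := by
      conv_lhs => rw [← hQX, ← hYQ]
      simp only [map_mul, hQ, AlgEquiv.symm_apply_apply, mul_assoc]
    rw [this, hP, single_mul_mul_single]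
    simp [hS]
  have hXY : X * Y = Q := by
    have hzz : z * z = z := by
      have h1 : e (S (z * z)) = e (S z) := by
        rw [hSmul, map_mul, ← hz, mul_assoc, ← mul_assoc Y X Y, hYX, hEY]
      simpa [hS] using congr_fun (congr_fun (e.injective h1) 0) 0
    have hz1 : z = 1 := by
      rcases eq_or_ne z 0 with h0 | h0
      · exfalso
        have hXY0 : X * Y = 0 := by rw [hz, h0]; simp [hS]
        have hE0 : E = 0 := by
          rw [← hYX, ← hXE, ← hYX, ← mul_assoc X Y X, hXY0, zero_mul, mul_zero]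
        simpa [hE] using congr_fun (congr_fun hE0 0) 0
      · exact mul_left_cancel₀ h0 (hzz.trans (mul_one z).symm)
    rw [hz, hz1]
  have hfmul : ∀ d d', f (d * d') = f d * f d' := fun d d' => by
    have h : Y * e (S (d * d')) * X = single 0 0 (f d) * single 0 0 (f d') := by
      rw [← hfmat, ← hfmat, hSmul, map_mul]
      calc Y * (e (S d) * e (S d')) * X = Y * (e (S d) * (Q * e (S d'))) * X := by
            congr 3
            conv_lhs => rw [← hPS d']
            conv_rhs => rw [← hPS d']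
            simp only [hQ, ← map_mul, mul_assoc]
            rw [← mul_assoc P P, hPP]
        _ = Y * e (S d) * X * (Y * e (S d') * X) := by rw [← hXY]; simp only [mul_assoc]
    rw [single_mul_single_same] at h
    simpa [hfmat] using congr_fun (congr_fun h 0) 0
  have hf1 : f 1 = 1 := by
    have h : Y * e (S 1) * X = E := by
      rw [show S 1 = P from rfl, ← hQ, hYQ, hYX]
    simpa [hfmat, hE] using congr_fun (congr_fun h 0) 0
  have hfadd : ∀ d d', f (d + d') = f d + f d' := fun d d' => by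
    simp [hf, hS, single_add, mul_add, add_mul]
  have hfsmul : ∀ (c : k) d, f (c • d) = c • f d := fun c d => by
    simp [hf, hS, ← smul_single]
  let φ : D →ₗ[k] D' := { toFun := f, map_add' := hfadd, map_smul' := hfsmul }
  let ψ : D →ₐ[k] D' := AlgHom.ofLinearMap φ hf1 hfmul
  refine ⟨AlgEquiv.ofBijective ψ ⟨ψ.toRingHom.injective, fun c => ?_⟩⟩
  obtain ⟨d, hd⟩ : ∃ d, e (S d) = X * single 0 0 c * Y := by
    refine ⟨(e.symm (X * single 0 0 c * Y)) 0 0, ?_⟩
    apply e.symm.injective
    rw [AlgEquiv.symm_apply_apply]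
    have : e.symm (X * single 0 0 c * Y) = P * e.symm (X * single 0 0 c * Y) * P := by
      conv_lhs => rw [← hQX, ← hYQ]
      simp only [map_mul, hQ, AlgEquiv.symm_apply_apply, mul_assoc]
    rw [this, hP, single_mul_mul_single]
    simp [hS]
  refine ⟨d, ?_⟩
  have h : Y * e (S d) * X = single 0 0 c := by
    rw [hd, show Y * (X * single 0 0 c * Y) * X = (Y * X) * single 0 0 c * (Y * X) by
      simp only [mul_assoc], hYX, hE]
    simp
  simpa [hfmat, ψ, φ] using congr_fun (congr_fun h 0) 0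

theorem matrix_size_eq {n m : ℕ} [NeZero n] [NeZero m] [FiniteDimensional k D]
    (e : Matrix (Fin n) (Fin n) D ≃ₐ[k] Matrix (Fin m) (Fin m) D') : n = m := by
  obtain ⟨φ⟩ := nonempty_algEquiv_of_matrix e
  have h := e.toLinearEquiv.finrank_eq
  rw [Module.finrank_matrix, Module.finrank_matrix, ← φ.toLinearEquiv.finrank_eq,
    Fintype.card_fin, Fintype.card_fin] at h
  exact Nat.mul_self_inj.mp (Nat.eq_of_mul_eq_mul_right Module.finrank_pos h)

end Uniqueness

theorem isCentral_of_matrix {D : Type v} [Ring D] [Algebra k D] {ι : Type*} [Fintype ι] [DecidableEq ι]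
    [Nonempty ι] [Algebra.IsCentral k (Matrix ι ι D)] : Algebra.IsCentral k D := by
  refine ⟨fun d hd => ?_⟩
  have hmem : Matrix.scalar ι d ∈ Subalgebra.center k (Matrix ι ι D) := by
    rw [Subalgebra.mem_center_iff] at hd ⊢
    intro M
    exact (Matrix.scalar_commute d (fun r => (hd r).symm) M).symm.eq
  obtain ⟨c, hc⟩ := (Algebra.IsCentral.mem_center_iff k).1 hmem
  obtain ⟨i⟩ := ‹Nonempty ι›
  refine Algebra.mem_bot.2 ⟨c, ?_⟩
  simpa [Matrix.algebraMap_matrix_apply] using (congr_fun (congr_fun hc i) i).symm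

theorem bot_eq_top_of_divisionRing_isSepClosed [IsSepClosed k] (D : Type v) [DivisionRing D]
    [Algebra k D] [Algebra.IsCentral k D] [FiniteDimensional k D] :
    (⊥ : Subalgebra k D) = ⊤ := by
  by_contra hne
  obtain ⟨x, hx, hsep⟩ := JacobsonNoether.exists_separable_and_not_isCentral' (L := k) (D := D) hne
  have hint : IsIntegral k x := hsep.isIntegral
  have h1 : (minpoly k x).natDegree = 1 :=
    Polynomial.natDegree_eq_of_degree_eq_some
      (IsSepClosed.degree_eq_one_of_irreducible k (minpoly.irreducible hint) hsep)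
  obtain ⟨c, hc⟩ := minpoly.natDegree_eq_one_iff.1 h1
  exact hx (Algebra.mem_bot.2 ⟨c, hc⟩)

theorem exists_algEquiv_matrix_of_isSepClosed [IsSepClosed k] (A : Type v) [Ring A] [Algebra k A]
    [Algebra.IsCentral k A] [IsSimpleRing A] [FiniteDimensional k A] :
    ∃ n : ℕ, n ≠ 0 ∧ Nonempty (A ≃ₐ[k] Matrix (Fin n) (Fin n) k) := by
  have := IsArtinianRing.of_finite k A
  obtain ⟨n, hn, D, _, _, _, ⟨e⟩⟩ := IsSimpleRing.exists_algEquiv_matrix_divisionRing_finite k A
  have : Nonempty (Fin n) := ⟨0⟩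
  have : Algebra.IsCentral k D := by
    have := Algebra.IsCentral.of_algEquiv k A _ e
    exact isCentral_of_matrix (ι := Fin n)
  have hbot := bot_eq_top_of_divisionRing_isSepClosed (k := k) D
  exact ⟨n, NeZero.ne n, ⟨e.trans (AlgEquiv.mapMatrix (((Subalgebra.topEquiv (R := k) (A := D)).symm.trans
    (Subalgebra.equivOfEq _ _ hbot.symm)).trans (Algebra.botEquiv k D)))⟩⟩

end Groth.Agent.CSA
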