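import Groth.Agent.CSA.LocalAzu
import Groth.Agent.Hensel.Local
import Groth.Agent.Hensel.Pair

/-!
Lifting idempotents and isomorphisms of Azumaya algebras over henselian local rings.
-/

set_option autoImplicit false
set_option linter.style.haveILetI false

universe u

open scoped TensorProduct
open IsLocalRing

namespace Groth.Agent.CSA.HenselLift

theorem exists_idempotent_lift {R : Type u} [CommRing R] [HenselianLocalRing R] {C : Type u} [Ring C] [Algebra R C]
    [Module.Finite R C] {ε : ResidueField R ⊗[R] C} (hε : ε * ε = ε) :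
    ∃ e : C, e * e = e ∧ (1 : ResidueField R) ⊗ₜ[R] e = ε := by
  classical
  have : HenselianRing R (maximalIdeal R) := Groth.Agent.Hensel.henselianRing_maximalIdeal R
  obtain ⟨c, rfl⟩ := TensorProduct.mk_surjective R C (ResidueField R) Ideal.Quotient.mk_surjective ε
  let S := Algebra.adjoin R ({c} : Set C)
  letI : CommRing S := { (inferInstance : Ring S) with
    mul_comm := fun a b => Subtype.ext (congrArg Subtype.val ((Algebra.isMulCommutative_adjoin R (s := ({c} : Set C))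
      (fun p hp q hq => by rw [Set.mem_singleton_iff] at hp hq; rw [hp, hq])).is_comm.comm a b)) }
  have hfin : Module.Finite R S := by
    have hfg := IsIntegral.fg_adjoin_singleton (IsIntegral.of_finite R c)
    exact Module.Finite.iff_fg.2 hfg
  have : Algebra.IsIntegral R S := Algebra.IsIntegral.of_finite R S
  let J := (maximalIdeal R).map (algebraMap R S)
  let f : S →ₐ[R] ResidueField R ⊗[R] C :=
    (Algebra.TensorProduct.includeRight : C →ₐ[R] ResidueField R ⊗[R] C).comp S.val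
  have hJ : ∀ s ∈ J, f s = 0 := by
    intro s hs
    induction hs using Submodule.span_induction with
    | mem x hx =>
        obtain ⟨a, ha, rfl⟩ := hx
        rw [AlgHom.commutes, IsScalarTower.algebraMap_apply R (ResidueField R) (ResidueField R ⊗[R] C)]
        rw [show algebraMap R (ResidueField R) a = 0 from Ideal.Quotient.eq_zero_iff_mem.2 ha, map_zero]
    | zero => exact map_zero f
    | add x y _ _ hx hy => rw [map_add, hx, hy, add_zero]
    | smul a x _ hx => rw [smul_eq_mul, map_mul, hx, mul_zero]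
  let g : S ⧸ J →ₐ[R] ResidueField R ⊗[R] C := Ideal.Quotient.liftₐ J f hJ
  have : IsArtinianRing (S ⧸ J) := by
    have : Module.Finite (R ⧸ maximalIdeal R) (S ⧸ J) := Module.Finite.of_restrictScalars_finite R _ _
    letI := Ideal.Quotient.field (maximalIdeal R)
    exact IsArtinianRing.of_finite (R ⧸ maximalIdeal R) _
  let z : S ⧸ J := Ideal.Quotient.mk J ⟨c, Algebra.self_mem_adjoin_singleton R c⟩
  obtain ⟨n, y, hy⟩ := IsArtinian.exists_pow_succ_smul_dvd (R := S ⧸ J) (M := S ⧸ J) z 1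
  simp only [smul_eq_mul, mul_one] at hy
  have hy' : ∀ m : ℕ, z ^ (n + 1 + m) * y ^ m = z ^ (n + 1) := by
    intro m
    induction m with
    | zero => simp
    | succ m ih =>
        calc z ^ (n + 1 + (m + 1)) * y ^ (m + 1) = z ^ (m + 1) * y ^ m * (z ^ (n + 1) * y) := by ring
          _ = z ^ (m + 1) * y ^ m * z ^ n := by rw [hy]
          _ = z ^ (n + 1 + m) * y ^ m := by ring
          _ = z ^ (n + 1) := ih
  let e₀ := z ^ (n + 1) * y ^ (n + 1)
  have he₀ : IsIdempotentElem e₀ := by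
    rw [IsIdempotentElem]
    calc e₀ * e₀ = z ^ (n + 1 + (n + 1)) * y ^ (n + 1) * y ^ (n + 1) := by ring
      _ = e₀ := by rw [hy']
  have hgz : g z = (1 : ResidueField R) ⊗ₜ[R] c := rfl
  have hpow : ∀ m : ℕ, g z ^ (m + 1) = g z := fun m => by
    induction m with
    | zero => simp
    | succ m ih => rw [pow_succ, ih, hgz]; exact hε
  have hge : g e₀ = (1 : ResidueField R) ⊗ₜ[R] c := by
    rw [← hgz, map_mul, map_pow, map_pow]
    have h := congrArg g (hy' (n + 1))
    rw [map_mul, map_pow, map_pow, map_pow, hpow n, show n + 1 + (n + 1) = (2 * n + 1) + 1 by ring, hpow] at h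
    rw [hpow, h]
  obtain ⟨s, hs⟩ := Ideal.Quotient.mk_surjective e₀
  obtain ⟨e, he, hes⟩ := Groth.Agent.Hensel.exists_isIdempotentElem_lift' (A := R) (I := maximalIdeal R) (e := s)
    (Ideal.Quotient.eq_zero_iff_mem.1 (by rw [map_sub, map_mul, hs, he₀.eq, sub_self]))
  refine ⟨e, congrArg Subtype.val he.eq, ?_⟩
  show f e = (1 : ResidueField R) ⊗ₜ[R] c
  rw [← hge, ← hs]
  show f e = f s
  rw [← sub_eq_zero, ← map_sub]
  exact hJ _ hes

variable {R : Type u} [CommRing R] [HenselianLocalRing R] {A : Type u} [Ring A] [Algebra R A] [IsAzumaya R A]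
  {B : Type u} [Ring B] [Algebra R B] [IsAzumaya R B]

theorem exists_algEquiv_lift (e₀ : (ResidueField R ⊗[R] A) ≃ₐ[ResidueField R] (ResidueField R ⊗[R] B)) :
    ∃ e : A ≃ₐ[R] B, ∀ a : A, e₀ ((1 : ResidueField R) ⊗ₜ[R] a) = (1 : ResidueField R) ⊗ₜ[R] (e a) := by
  classical
  let k := ResidueField R
  have := LocalAzu.free R A
  have := LocalAzu.free R B
  obtain ⟨_, _, _⟩ := LocalAzu.isCSA_fibre R A
  let Ā := k ⊗[R] A
  let lA : A →ₐ[R] Module.End k Ā :=
    ((Algebra.lmul k Ā).restrictScalars R).comp Algebra.TensorProduct.includeRight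
  let rB : Bᵐᵒᵖ →ₐ[R] Module.End k Ā :=
    { toFun := fun b => LinearMap.mulRight k (e₀.symm ((1 : k) ⊗ₜ[R] b.unop))
      map_one' := by
        rw [MulOpposite.unop_one, ← Algebra.TensorProduct.one_def, map_one, LinearMap.mulRight_one]
        rfl
      map_mul' := fun b c => by
        refine LinearMap.ext fun x => ?_
        have h : (1 : k) ⊗ₜ[R] (c.unop * b.unop) = ((1 : k) ⊗ₜ[R] c.unop) * ((1 : k) ⊗ₜ[R] b.unop) :=
          map_mul (Algebra.TensorProduct.includeRight : B →ₐ[R] k ⊗[R] B) _ _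
        simp only [LinearMap.mulRight_apply, Module.End.mul_apply, MulOpposite.unop_mul, h, map_mul, mul_assoc]
      map_zero' := by ext x; simp
      map_add' := fun b c => by
        ext x
        simp [TensorProduct.tmul_add, mul_add]
      commutes' := fun r => by
        ext x
        simp [Algebra.algebraMap_eq_smul_one, TensorProduct.tmul_smul, ← Algebra.TensorProduct.one_def]
        rw [← algebraMap_smul k r (1 : k ⊗[R] B), map_smul, map_one, mul_smul_comm, mul_one, algebraMap_smul] }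
  let C := A ⊗[R] Bᵐᵒᵖ
  have : Module.Finite R Bᵐᵒᵖ := Module.Finite.equiv (MulOpposite.opLinearEquiv R)
  have : Module.Free R Bᵐᵒᵖ := .of_equiv (MulOpposite.opLinearEquiv R)
  let Γ₀ : C →ₐ[R] Module.End k Ā := Algebra.TensorProduct.lift lA rB (fun a b => by
    show _ = _
    ext x
    exact (mul_assoc _ _ _).symm)
  let Γ : k ⊗[R] C →ₐ[k] Module.End k Ā :=
    Algebra.TensorProduct.lift (Algebra.ofId k _) Γ₀ (fun c x => Algebra.commutes c _)
  have hΓ : ∀ x : C, Γ (1 ⊗ₜ x) = Γ₀ x := fun x => by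
    simp [Γ]
  have hΓ₀ : ∀ (a : A) (b : B) (x : Ā), Γ₀ (a ⊗ₜ MulOpposite.op b) x =
      (1 : k) ⊗ₜ[R] a * x * e₀.symm ((1 : k) ⊗ₜ[R] b) := fun a b x => by
    simp [Γ₀, lA, rB]
    exact (mul_assoc _ _ _).symm
  have hmkA : Function.Surjective (TensorProduct.mk R k A 1) :=
    TensorProduct.mk_surjective R A k Ideal.Quotient.mk_surjective
  have hmkB : Function.Surjective (TensorProduct.mk R k B 1) :=
    TensorProduct.mk_surjective R B k Ideal.Quotient.mk_surjective
  have hΓs : Function.Surjective Γ := by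
    intro g
    obtain ⟨t, rfl⟩ := (mulLeftRight_bijective (k := k) (A := Ā)).2 g
    induction t using TensorProduct.induction_on with
    | zero => exact ⟨0, by rw [map_zero, map_zero]⟩
    | tmul x y =>
        obtain ⟨a, ha⟩ := hmkA x
        obtain ⟨b, hb⟩ := hmkB (e₀ y.unop)
        refine ⟨1 ⊗ₜ (a ⊗ₜ MulOpposite.op b), ?_⟩
        rw [hΓ]
        refine LinearMap.ext fun v => ?_
        rw [hΓ₀, AlgHom.mulLeftRight_apply, ← ha]
        simp only [TensorProduct.mk_apply] at hb ⊢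
        rw [hb, AlgEquiv.symm_apply_apply]
    | add s t hs ht =>
        obtain ⟨s', hs'⟩ := hs
        obtain ⟨t', ht'⟩ := ht
        exact ⟨s' + t', by rw [map_add, map_add, hs', ht']⟩
  have hΓi : Function.Injective Γ := by
    refine (LinearMap.injective_iff_surjective_of_finrank_eq_finrank (f := Γ.toLinearMap) ?_).2 hΓs
    have hAB := e₀.toLinearEquiv.finrank_eq
    rw [Module.finrank_baseChange, Module.finrank_baseChange] at hAB
    rw [Module.finrank_baseChange, Module.finrank_tensorProduct, Module.finrank_linearMap, Module.finrank_baseChange,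
      ← (MulOpposite.opLinearEquiv R : B ≃ₗ[R] Bᵐᵒᵖ).finrank_eq, hAB]
  obtain ⟨φ, hφ⟩ : ∃ φ : Ā →ₗ[k] k, φ 1 = 1 := by
    obtain ⟨φ, hφ⟩ := Module.Projective.exists_dual_ne_zero k (one_ne_zero (α := Ā))
    exact ⟨(φ 1)⁻¹ • φ, by simp [inv_mul_cancel₀ hφ]⟩
  let π : Module.End k Ā := φ.smulRight 1
  have hπ : ∀ x, π x = φ x • (1 : Ā) := fun x => rfl
  obtain ⟨ε', hε'⟩ := hΓs π
  have hε'' : ε' * ε' = ε' := hΓi (by
    rw [map_mul, hε']
    ext x
    simp [hπ, hφ])
  obtain ⟨ε, hε, hεk⟩ := exists_idempotent_lift hε''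
  let M : Submodule R C := LinearMap.range (LinearMap.mulRight R ε)
  letI : AddCommGroup M := M.addCommGroup
  let p : C →ₗ[R] M := (LinearMap.mulRight R ε).rangeRestrict
  have hp : p ∘ₗ M.subtype = LinearMap.id := LinearMap.ext fun ⟨x, y, hy⟩ => Subtype.ext (by
    show x * ε = x
    rw [← hy, LinearMap.mulRight_apply, mul_assoc, hε])
  have : Module.Projective R M := Module.Projective.of_split M.subtype p hp
  have : Module.Finite R M := Module.Finite.of_surjective p (LinearMap.surjective_rangeRestrict _)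
  have hMinj : Function.Injective (M.subtype.lTensor k) :=
    Function.LeftInverse.injective (g := p.lTensor k) fun x => by
      rw [← LinearMap.comp_apply, ← LinearMap.lTensor_comp, hp, LinearMap.lTensor_id, LinearMap.id_apply]
  have hΓp : ∀ z : k ⊗[R] C, Γ (M.subtype.lTensor k (p.lTensor k z)) = Γ z * π := fun z => by
    induction z using TensorProduct.induction_on with
    | zero => simp
    | add u v hu hv => simp only [map_add, hu, hv, add_mul]
    | tmul c x =>
        rw [LinearMap.lTensor_tmul, LinearMap.lTensor_tmul, ← hε', ← map_mul]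
        congr 1
        rw [← hεk]
        simp [p]
  have key : ∀ (D : Type u) [AddCommGroup D] [Module R D] [Module.Finite R D] (ψ : D →ₗ[R] C) (G : k ⊗[R] D ≃ Ā),
      (∀ z, Γ (M.subtype.lTensor k ((p ∘ₗ ψ).lTensor k z)) 1 = G z) → Function.Bijective (p ∘ₗ ψ) := by
    intro D _ _ _ ψ G hG
    refine Groth.Agent.Azu.bijective_of_fibres (p ∘ₗ ψ) fun q hq => ?_
    obtain rfl := IsLocalRing.eq_maximalIdeal hq
    refine ⟨fun z z' h => G.injective (by rw [← hG, ← hG]; exact congrArg (fun t => Γ (M.subtype.lTensor k t) 1) h),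
      fun w => ?_⟩
    obtain ⟨c, rfl⟩ := LinearMap.lTensor_surjective (R ⧸ maximalIdeal R)
      (g := p) (LinearMap.surjective_rangeRestrict _) w
    obtain ⟨z, hz⟩ := G.surjective (Γ c 1)
    refine ⟨z, hMinj (hΓi ?_)⟩
    obtain ⟨d, hd⟩ : ∃ d : k ⊗[R] C, (p ∘ₗ ψ).lTensor k z = p.lTensor k d :=
      ⟨ψ.lTensor k z, by rw [LinearMap.lTensor_comp, LinearMap.comp_apply]⟩
    have h1 := hG z
    rw [hd, hΓp] at h1
    change Γ (M.subtype.lTensor k ((p ∘ₗ ψ).lTensor k z)) = Γ (M.subtype.lTensor k (p.lTensor k c))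
    rw [hd, hΓp, hΓp]
    refine LinearMap.ext fun x => ?_
    rw [Module.End.mul_apply, Module.End.mul_apply, hπ, map_smul, map_smul]
    congr 1
    rw [hz, Module.End.mul_apply, hπ, hφ, one_smul] at h1
    exact h1
  let ψA : A →ₗ[R] C := (Algebra.TensorProduct.includeLeft : A →ₐ[R] C).toLinearMap
  let ψB : B →ₗ[R] C := (Algebra.TensorProduct.includeRight : Bᵐᵒᵖ →ₐ[R] C).toLinearMap ∘ₗ
    (MulOpposite.opLinearEquiv R).toLinearMap
  have hone : ∀ (D : Type u) [AddCommGroup D] [Module R D] (ψ : D →ₗ[R] C) (d : D) (c : k),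
      Γ (M.subtype.lTensor k ((p ∘ₗ ψ).lTensor k (c ⊗ₜ d))) 1 = c • Γ₀ (ψ d) 1 := by
    intro D _ _ ψ d c
    rw [LinearMap.lTensor_comp, LinearMap.comp_apply, hΓp, Module.End.mul_apply, hπ, hφ, one_smul,
      LinearMap.lTensor_tmul, show c ⊗ₜ[R] ψ d = c • ((1 : k) ⊗ₜ[R] ψ d) by
        rw [TensorProduct.smul_tmul', smul_eq_mul, mul_one], map_smul, hΓ]
    rfl
  have hA : Function.Bijective (p ∘ₗ ψA) := key A ψA (Equiv.refl _) fun z => by
    induction z using TensorProduct.induction_on with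
    | zero => simp
    | add u v hu hv =>
        rw [map_add, map_add, map_add, LinearMap.add_apply, hu, hv]; rfl
    | tmul c a =>
        rw [hone]
        simp only [ψA, AlgHom.toLinearMap_apply, Algebra.TensorProduct.includeLeft_apply, ← MulOpposite.op_one, hΓ₀]
        simp [← Algebra.TensorProduct.one_def]
        rw [TensorProduct.smul_tmul', smul_eq_mul, mul_one]
  have hB : Function.Bijective (p ∘ₗ ψB) := key B ψB e₀.symm.toEquiv fun z => by
    induction z using TensorProduct.induction_on with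
    | zero => simp
    | add u v hu hv =>
        rw [map_add, map_add, map_add, LinearMap.add_apply, hu, hv]; exact (map_add e₀.symm u v).symm
    | tmul c b =>
        rw [hone]
        simp only [ψB, LinearMap.comp_apply, AlgHom.toLinearMap_apply, Algebra.TensorProduct.includeRight_apply,
          LinearEquiv.coe_coe, MulOpposite.coe_opLinearEquiv, hΓ₀]
        rw [← Algebra.TensorProduct.one_def, one_mul, one_mul, ← map_smul, TensorProduct.smul_tmul', smul_eq_mul, mul_one]
        rfl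
  let eA := LinearEquiv.ofBijective _ hA
  let eB := LinearEquiv.ofBijective _ hB
  let el : A ≃ₗ[R] B := eA.trans eB.symm
  have hdef : ∀ a, (a ⊗ₜ[R] (1 : Bᵐᵒᵖ) : C) * ε = ((1 : A) ⊗ₜ[R] MulOpposite.op (el a)) * ε := fun a => by
    have h : eB (el a) = eA a := eB.apply_symm_apply _
    exact (congrArg Subtype.val h).symm
  have huniq : ∀ (a : A) (b : B), (a ⊗ₜ[R] (1 : Bᵐᵒᵖ) : C) * ε = ((1 : A) ⊗ₜ[R] MulOpposite.op b) * ε → el a = b :=
    fun a b h => hB.1 (Subtype.ext ((hdef a).symm.trans h))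
  have hcomm : ∀ (a : A) (b : Bᵐᵒᵖ), (a ⊗ₜ[R] (1 : Bᵐᵒᵖ) : C) * ((1 : A) ⊗ₜ[R] b) =
      ((1 : A) ⊗ₜ[R] b) * (a ⊗ₜ[R] (1 : Bᵐᵒᵖ)) := fun a b => by
    simp [Algebra.TensorProduct.tmul_mul_tmul]
  let e : A ≃ₐ[R] B := AlgEquiv.ofLinearEquiv el (huniq 1 1 rfl) (fun a a' => huniq _ _ (by
    calc ((a * a') ⊗ₜ[R] (1 : Bᵐᵒᵖ) : C) * ε = (a ⊗ₜ[R] (1 : Bᵐᵒᵖ)) * ((a' ⊗ₜ[R] (1 : Bᵐᵒᵖ)) * ε) := by
          rw [← mul_assoc, Algebra.TensorProduct.tmul_mul_tmul, one_mul]
      _ = ((1 : A) ⊗ₜ[R] MulOpposite.op (el a')) * ((a ⊗ₜ[R] (1 : Bᵐᵒᵖ)) * ε) := by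
          rw [hdef a', ← mul_assoc, hcomm, mul_assoc]
      _ = ((1 : A) ⊗ₜ[R] MulOpposite.op (el a * el a')) * ε := by
          rw [hdef a, ← mul_assoc, Algebra.TensorProduct.tmul_mul_tmul, one_mul, MulOpposite.op_mul]))
  refine ⟨e, fun a => ?_⟩
  have h1 := congrArg (fun x : C => Γ (1 ⊗ₜ x) 1) (hdef a)
  rw [show (1 : k) ⊗ₜ[R] ((a ⊗ₜ[R] (1 : Bᵐᵒᵖ) : C) * ε) = ((1 : k) ⊗ₜ[R] (a ⊗ₜ[R] (1 : Bᵐᵒᵖ) : C)) * ((1 : k) ⊗ₜ[R] ε)
      from map_mul (Algebra.TensorProduct.includeRight : C →ₐ[R] k ⊗[R] C) _ _,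
    show (1 : k) ⊗ₜ[R] (((1 : A) ⊗ₜ[R] MulOpposite.op (el a) : C) * ε) =
      ((1 : k) ⊗ₜ[R] ((1 : A) ⊗ₜ[R] MulOpposite.op (el a) : C)) * ((1 : k) ⊗ₜ[R] ε)
      from map_mul (Algebra.TensorProduct.includeRight : C →ₐ[R] k ⊗[R] C) _ _,
    map_mul, map_mul, hεk, hε', Module.End.mul_apply, Module.End.mul_apply, hπ, hφ, one_smul, hΓ, hΓ,
    ← MulOpposite.op_one, hΓ₀, hΓ₀] at h1
  simp only [← Algebra.TensorProduct.one_def, map_one, mul_one, one_mul] at h1
  rw [h1, AlgEquiv.apply_symm_apply]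
  rfl

end Groth.Agent.CSA.HenselLift
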