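import Groth.Agent.CSA.SplitEtale
import Mathlib.RingTheory.Localization.BaseChange
import Mathlib.RingTheory.Localization.Module
import Mathlib.Algebra.Module.FinitePresentation
import Mathlib.RingTheory.Polynomial.Resultant.Basic
import Mathlib.RingTheory.LocalRing.ResidueField.Ideal

/-!
Tools to spread splittings of Azumaya algebras to neighbourhoods.
-/

set_option autoImplicit false
set_option linter.style.haveILetI false

universe u

open scoped TensorProduct

namespace Groth.Agent.CSA.SplitSpread

theorem resultant_pad {R : Type u} [CommRing R] {f g : Polynomial R} (hf : f.Monic) {r : ℕ}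
    (hdeg : f.natDegree = r) (hg : g.natDegree ≤ r) :
    Polynomial.resultant f g r r = Polynomial.resultant f g := by
  obtain ⟨e, he⟩ := Nat.exists_eq_add_of_le hg
  subst hdeg
  conv_lhs => arg 4; rw [he]
  rw [Polynomial.resultant_add_right_deg (hg := le_rfl), hf.coeff_natDegree, one_pow, one_mul]

/-- Separability is an open condition on monic polynomials. -/
theorem exists_separable_away {R : Type u} [CommRing R] (p : Ideal R) [p.IsPrime] (P : Polynomial R) (hP : P.Monic)
    (h : (P.map (algebraMap R p.ResidueField)).Separable) :
    ∃ D : R, D ∉ p ∧ ∀ (S : Type u) [CommRing S] [Algebra R S],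
      IsUnit (algebraMap R S D) → (P.map (algebraMap R S)).Separable := by
  let r := P.natDegree
  refine ⟨Polynomial.resultant P (Polynomial.derivative P) r r, fun hmem => ?_, fun S _ _ hu => ?_⟩
  · have h0 := Ideal.algebraMap_residueField_eq_zero.2 hmem
    rw [← Polynomial.resultant_map_map, ← Polynomial.derivative_map,
      resultant_pad (hP.map _) (hP.natDegree_map _)
        ((Polynomial.natDegree_derivative_le _).trans (by rw [hP.natDegree_map]; omega))] at h0
    exact ((Polynomial.isUnit_resultant_iff_isCoprime (hP.map _)).2 h).ne_zero h0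
  · rcases subsingleton_or_nontrivial S with _ | _
    · exact ⟨0, 0, Subsingleton.elim _ _⟩
    rw [← Polynomial.resultant_map_map, ← Polynomial.derivative_map,
      resultant_pad (hP.map _) (hP.natDegree_map _)
        ((Polynomial.natDegree_derivative_le _).trans (by rw [hP.natDegree_map]; omega))] at hu
    exact (Polynomial.isUnit_resultant_iff_isCoprime (hP.map _)).1 hu

/-- A family which is a basis of a fibre is a basis on a neighbourhood. -/
theorem exists_basis_away {R : Type u} [CommRing R] (p : Ideal R) [p.IsPrime] {M : Type u} [AddCommGroup M]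
    [Module R M] [Module.Finite R M] [Module.Projective R M] {ι : Type u} [Finite ι] (v : ι → M)
    (h : Function.Bijective (Finsupp.linearCombination p.ResidueField fun i => (1 : p.ResidueField) ⊗ₜ[R] v i)) :
    ∃ g : R, g ∉ p ∧ ∀ t, g ∣ t →
      Function.Bijective (Finsupp.linearCombination (Localization.Away t) fun i => (1 : Localization.Away t) ⊗ₜ[R] v i) := by
  classical
  let Rp := Localization.AtPrime p
  let l := Finsupp.linearCombination R v
  let fM : (ι →₀ R) →ₗ[R] ι →₀ Rp := Finsupp.mapRange.linearMap (Algebra.linearMap R Rp)
  let fN := TensorProduct.mk R Rp M 1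
  have hl : Function.Bijective (IsLocalizedModule.map p.primeCompl fM fN l) := by
    rw [show l = Finsupp.linearCombination R v from rfl, IsLocalizedModule.map_linearCombination,
      LinearMap.coe_restrictScalars]
    refine Module.IsLocalRing.linearCombination_bijective_of_flat _ ?_
    refine (Function.Bijective.of_comp_iff'
      (TensorProduct.AlgebraTensorModule.cancelBaseChange R Rp p.ResidueField p.ResidueField M).bijective _).1 ?_
    convert h using 1
    refine funext fun q => ?_
    induction q using Finsupp.induction_linear with
    | zero => simp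
    | add a b ha hb =>
        simp only [Function.comp_apply] at ha hb ⊢
        rw [map_add, map_add, map_add, ha, hb]
    | single i c => simp [fN, TensorProduct.smul_tmul']
  have : Module.FinitePresentation R M := Module.finitePresentation_of_projective R M
  obtain ⟨g, hg, hbij⟩ := exists_bijective_map_powers p.primeCompl fM fN l hl
  refine ⟨g, hg, fun t ht => ?_⟩
  have h2 := (IsLocalizedModule.map_bijective_iff_localizedModuleMap_bijective (S := Submonoid.powers t)
    (g₁ := Finsupp.mapRange.linearMap (α := ι) (Algebra.linearMap R (Localization.Away t)))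
    (g₂ := TensorProduct.mk R (Localization.Away t) M 1) (l := l)).2 (hbij t ht)
  rw [show l = Finsupp.linearCombination R v from rfl, IsLocalizedModule.map_linearCombination,
    LinearMap.coe_restrictScalars] at h2
  exact h2

/-- A basis of a tower gives a basis over the middle ring. -/
theorem exists_basis_of_tower {R E M : Type u} [CommRing R] [CommRing E] [Algebra R E] [AddCommGroup M]
    [Module R M] [Module E M] [IsScalarTower R E M] {κ n : Type} [Fintype κ] [Fintype n]
    (e : Module.Basis κ R E) (a : n → M) (bR : Module.Basis (κ × n) R M) (h : ∀ q, bR q = e q.1 • a q.2) :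
    ∃ b : Module.Basis n E M, ∀ i, b i = a i := by
  classical
  have hli : LinearIndependent E a := by
    rw [Fintype.linearIndependent_iff]
    intro g hg i
    have h1 : ∑ q : κ × n, e.repr (g q.2) q.1 • bR q = 0 := by
      rw [Fintype.sum_prod_type_right, ← hg]
      refine Finset.sum_congr rfl fun i _ => ?_
      simp only [h, ← smul_assoc, ← Finset.sum_smul, e.sum_repr]
    have h2 := Fintype.linearIndependent_iff.1 bR.linearIndependent _ h1
    exact e.repr.injective (by ext j; simpa using h2 (j, i))
  have hspan : ⊤ ≤ Submodule.span E (Set.range a) := fun x _ => by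
    rw [← bR.sum_repr x]
    refine Submodule.sum_mem _ fun q _ => ?_
    rw [h, ← smul_assoc]
    exact Submodule.smul_mem _ _ (Submodule.subset_span ⟨q.2, rfl⟩)
  exact ⟨Module.Basis.mk hli hspan, fun i => Module.Basis.mk_apply hli hspan i⟩

section Global

variable {S : Type u} [CommRing S] {B : Type u} [Ring B] [Algebra S B] [IsAzumaya S B] {r : ℕ} [NeZero r]
  {E : Type u} [CommRing E] [Algebra S E] {κ : Type} [Fintype κ] (e : Module.Basis κ S E)
  (hκ : Fintype.card κ = r) (u : E →ₐ[S] B) [Module E B] (hmod : ∀ (c : E) (b : B), c • b = b * u c)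
  [IsScalarTower S E B] (bB : Module.Basis (Fin r) E B)

include e hκ bB in
theorem action_bijective_fibre (F : Type u) [Field F] [Algebra S F] :
    Function.Bijective (((MaxEtale.action u hmod).toLinearMap.restrictScalars S).baseChange F) := by
  classical
  have : Nontrivial S := (algebraMap S F).domain_nontrivial
  let bS := e.smulTower bB
  let bEnd := e.smulTower ((Matrix.stdBasis E (Fin r) (Fin r)).map (LinearMap.toMatrix bB bB).symm)
  let w := e.tensorProduct bS
  have : Module.Finite S E := Module.Finite.of_basis e
  have : Module.Free S B := .of_basis bS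
  have : Module.Finite S (E ⊗[S] B) := Module.Finite.of_basis w
  have : Module.Free S (E ⊗[S] B) := .of_basis w
  have : Module.Finite S (Module.End E B) := Module.Finite.of_basis bEnd
  have : Module.Free S (Module.End E B) := .of_basis bEnd
  have := Groth.Agent.Azu.baseChange (R := S) (A := B) F
  obtain ⟨_, _, _⟩ := Groth.Agent.Azu.isCSA (k := F) (D := F ⊗[S] B)
  let L := F ⊗[S] E
  let ι : L →ₐ[F] F ⊗[S] B := Algebra.TensorProduct.map (AlgHom.id F F) u
  have hι : Function.Injective ι := by
    rw [injective_iff_map_eq_zero]
    intro l hl
    have h0 : ((1 : F) ⊗ₜ[S] bB 0) * ι l = 0 := by rw [hl, mul_zero]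
    rw [← (e.baseChange F).sum_repr l, map_sum, Finset.mul_sum] at h0
    have hli := ((bS.baseChange F).linearIndependent.comp (fun j : κ => (j, (0 : Fin r)))
      (fun a b h => (Prod.ext_iff.1 h).1))
    have h1 : ∑ j, (e.baseChange F).repr l j • (bS.baseChange F) (j, 0) = 0 := by
      rw [← h0]
      refine Finset.sum_congr rfl fun j _ => ?_
      rw [map_smul, mul_smul_comm, Module.Basis.baseChange_apply, Module.Basis.baseChange_apply,
        Module.Basis.smulTower_apply, hmod]
      congr 1
      exact ((congrArg (fun t => (1 : F) ⊗ₜ[S] bB 0 * t) (Algebra.TensorProduct.map_tmul _ _ _ _)).trans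
        ((Algebra.TensorProduct.tmul_mul_tmul _ _ _ _).trans (by rw [AlgHom.id_apply, one_mul]))).symm
    have h2 := Fintype.linearIndependent_iff.1 hli _ h1
    rw [← (e.baseChange F).sum_repr l]
    exact Finset.sum_eq_zero fun j _ => by rw [h2 j, zero_smul]
  letI := MaxEtale.rightModule ι
  have hmodk : ∀ (l : L) (a : F ⊗[S] B), l • a = a * ι l := fun _ _ => rfl
  have hSTk := MaxEtale.isScalarTower ι hmodk
  let G : Module.End E B →ₗ[S] Module.End F (F ⊗[S] B) :=
    { toFun := fun g => (g.restrictScalars S).baseChange F
      map_add' := fun g g' => by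
        rw [LinearMap.restrictScalars_add, LinearMap.baseChange_add]
      map_smul' := fun c g => by
        rw [LinearMap.restrictScalars_smul, LinearMap.baseChange_smul]; rfl }
  let Θ : F ⊗[S] Module.End E B →ₗ[F] Module.End F (F ⊗[S] B) := G.liftBaseChange F
  let famk : κ × κ × Fin r → F ⊗[S] Module.End E B := fun i => 1 ⊗ₜ MaxEtale.action u hmod (w i)
  let wk := (e.baseChange F).tensorProduct (bS.baseChange F)
  have hΘ : ∀ i, Θ (famk i) = (MaxEtale.action ι hmodk (wk i)).restrictScalars F := fun i => by
    simp only [Θ, famk, LinearMap.liftBaseChange_tmul, one_smul, wk, w, Module.Basis.tensorProduct_apply',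
      Module.Basis.baseChange_apply]
    ext x
    simp [G, MaxEtale.action_tmul, ι, Algebra.TensorProduct.tmul_mul_tmul]
    exact ((congrArg (fun t => (1 : F) ⊗ₜ[S] (bS i.2 * x) * t) (Algebra.TensorProduct.map_tmul _ _ _ _)).trans
      ((Algebra.TensorProduct.tmul_mul_tmul _ _ _ _).trans (by rw [AlgHom.id_apply, one_mul]))).symm
  have hli : LinearIndependent F famk := by
    refine LinearIndependent.of_comp Θ ?_
    let φ : L ⊗[F] (F ⊗[S] B) →ₗ[F] Module.End L (F ⊗[S] B) :=
      (MaxEtale.action ι hmodk).toLinearMap.restrictScalars F
    have h0 : LinearIndependent F (fun i => MaxEtale.action ι hmodk (wk i)) := by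
      refine Fintype.linearIndependent_iff.2 fun g hg => ?_
      refine Fintype.linearIndependent_iff.1 wk.linearIndependent g (MaxEtale.action_injective ι hι hmodk ?_)
      rw [map_sum, map_zero, ← hg]
      exact Finset.sum_congr rfl fun j _ => map_smul φ (g j) (wk j)
    have h1 := h0.map' (LinearMap.restrictScalarsₗ F L (F ⊗[S] B) (F ⊗[S] B) F)
      (LinearMap.ker_eq_bot.2 (LinearMap.restrictScalars_injective F))
    rw [show Θ ∘ famk = fun i => (MaxEtale.action ι hmodk (wk i)).restrictScalars F from funext hΘ]
    exact h1
  let T := (((MaxEtale.action u hmod).toLinearMap.restrictScalars S).baseChange F)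
  have hinj : Function.Injective T := by
    rw [injective_iff_map_eq_zero]
    intro y hy
    rw [← (w.baseChange F).sum_repr y, map_sum] at hy
    have h2 := Fintype.linearIndependent_iff.1 hli (fun i => (w.baseChange F).repr y i) (by
      rw [← hy]
      refine Finset.sum_congr rfl fun i _ => ?_
      rw [map_smul, Module.Basis.baseChange_apply]
      rfl)
    rw [← (w.baseChange F).sum_repr y]
    exact Finset.sum_eq_zero fun i _ => by rw [h2 i, zero_smul]
  have : FiniteDimensional F (F ⊗[S] (E ⊗[S] B)) := Module.Finite.base_change S F _
  refine ⟨hinj, (LinearMap.injective_iff_surjective_of_finrank_eq_finrank (f := T) ?_).1 hinj⟩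
  rw [Module.finrank_baseChange, Module.finrank_baseChange, Module.finrank_eq_card_basis w,
    Module.finrank_eq_card_basis bEnd]
  simp only [Fintype.card_prod, Fintype.card_fin, hκ]

include e hκ bB in
theorem action_bijective : Function.Bijective (MaxEtale.action u hmod) := by
  let bS := e.smulTower bB
  let bEnd := e.smulTower ((Matrix.stdBasis E (Fin r) (Fin r)).map (LinearMap.toMatrix bB bB).symm)
  let w := e.tensorProduct bS
  have : Module.Finite S (E ⊗[S] B) := Module.Finite.of_basis w
  have : Module.Finite S (Module.End E B) := Module.Finite.of_basis bEnd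
  have : Module.Free S (Module.End E B) := .of_basis bEnd
  refine Groth.Agent.Azu.bijective_of_fibres ((MaxEtale.action u hmod).toLinearMap.restrictScalars S) fun q hq => ?_
  letI := Ideal.Quotient.field q
  exact action_bijective_fibre e hκ u hmod bB (S ⧸ q)

end Global

end Groth.Agent.CSA.SplitSpread
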