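import Mathlib.FieldTheory.JacobsonNoether
import Mathlib.FieldTheory.IsAlgClosed.AlgebraicClosure
import Mathlib.RingTheory.Etale.Field
import Mathlib.RingTheory.Unramified.Finite
import Mathlib.RingTheory.SimpleModule.Basic
import Mathlib.LinearAlgebra.TensorProduct.Tower
import Mathlib.RingTheory.TensorProduct.Maps

/-!
Étale subalgebras of finite-dimensional algebras: commutative subalgebras all of whose elements
are separable.
-/

set_option autoImplicit false

universe u v w

set_option linter.style.haveILetI false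

open scoped TensorProduct

namespace Groth.Agent.CSA.EtaleSub

variable (k : Type u) [Field k]

section Comm

variable (E : Type v) [CommRing E] [Algebra k E]

theorem isSeparable_of_unramified [FiniteDimensional k E] [Algebra.FormallyUnramified k E] :
    Algebra.IsSeparable k E := by
  classical
  have : IsReduced E := Algebra.FormallyUnramified.isReduced_of_field k E
  have : IsArtinianRing E := IsArtinianRing.of_finite k E
  refine ⟨fun x => ?_⟩
  let q : MaximalSpectrum E → Polynomial k := fun m => minpoly k (Ideal.Quotient.mk m.asIdeal x)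
  have : Finite (MaximalSpectrum E) := inferInstance
  letI := Fintype.ofFinite (MaximalSpectrum E)
  let S := (Finset.univ : Finset (MaximalSpectrum E)).image q
  have hfac : ∀ m : MaximalSpectrum E, (q m).Monic ∧ Irreducible (q m) ∧ (q m).Separable := fun m => by
    letI := Ideal.Quotient.field m.asIdeal
    have : Algebra.FormallyUnramified k (E ⧸ m.asIdeal) :=
      Algebra.FormallyUnramified.of_surjective (Ideal.Quotient.mkₐ k m.asIdeal) Ideal.Quotient.mk_surjective
    have hs : Algebra.IsSeparable k (E ⧸ m.asIdeal) := (Algebra.FormallyUnramified.iff_isSeparable k _).1 this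
    have hi : IsIntegral k (Ideal.Quotient.mk m.asIdeal x) := Algebra.IsIntegral.isIntegral _
    exact ⟨minpoly.monic hi, minpoly.irreducible hi, Algebra.IsSeparable.isSeparable k _⟩
  have hsep : (∏ p ∈ S, p).Separable := by
    refine Polynomial.separable_prod' (fun a ha b hb hab => ?_) (fun a ha => ?_)
    · obtain ⟨i, -, rfl⟩ := Finset.mem_image.1 ha
      obtain ⟨j, -, rfl⟩ := Finset.mem_image.1 hb
      refine ((hfac i).2.1.coprime_iff_not_dvd).2 fun h => hab ?_
      exact Polynomial.eq_of_monic_of_associated (hfac i).1 (hfac j).1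
        ((hfac i).2.1.associated_of_dvd (hfac j).2.1 h)
    · obtain ⟨i, -, rfl⟩ := Finset.mem_image.1 ha
      exact (hfac i).2.2
  refine hsep.of_dvd (minpoly.dvd k x ?_)
  refine (IsArtinianRing.equivPi E).injective (funext fun m => ?_)
  rw [map_zero]
  change Ideal.Quotient.mk m.asIdeal (Polynomial.aeval x (∏ p ∈ S, p)) = 0
  rw [← Ideal.Quotient.mkₐ_eq_mk k, ← Polynomial.aeval_algHom_apply]
  obtain ⟨c, hc⟩ := Finset.dvd_prod_of_mem (fun p : Polynomial k => p)
    (Finset.mem_image_of_mem q (Finset.mem_univ m))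
  rw [hc, map_mul]
  exact mul_eq_zero_of_left (minpoly.aeval k _) _

theorem unramified_of_adjoin (s : Set E) (hs : Algebra.adjoin k s = ⊤) (hsep : ∀ x ∈ s, IsSeparable k x) :
    Algebra.FormallyUnramified k E := by
  refine ⟨?_⟩
  have h0 : ∀ x ∈ s, KaehlerDifferential.D k E x = 0 := fun x hx => by
    obtain ⟨a, b, hab⟩ := hsep x hx
    have h1 : Polynomial.aeval x b * Polynomial.aeval x (Polynomial.derivative (minpoly k x)) = 1 := by
      have := congrArg (Polynomial.aeval x) hab
      simpa [minpoly.aeval] using this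
    have h2 := (KaehlerDifferential.D k E).map_aeval (minpoly k x) x
    rw [minpoly.aeval, map_zero] at h2
    calc KaehlerDifferential.D k E x
        = (1 : E) • KaehlerDifferential.D k E x := (one_smul _ _).symm
      _ = 0 := by rw [← h1, mul_smul, ← h2, smul_zero]
  have hall : ∀ x : E, KaehlerDifferential.D k E x = 0 := fun x => by
    have := Derivation.eqOn_adjoin (D1 := KaehlerDifferential.D k E) (D2 := 0) (s := s)
      (fun y hy => by simpa using h0 y hy) (show x ∈ Algebra.adjoin k s by rw [hs]; trivial)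
    simpa using this
  refine ⟨fun a b => ?_⟩
  suffices h : ∀ a : Ω[E⁄k], a = 0 by rw [h a, h b]
  intro a
  have ha : a ∈ Submodule.span E (Set.range (KaehlerDifferential.D k E)) := by
    rw [KaehlerDifferential.span_range_derivation]; trivial
  rw [show Set.range (KaehlerDifferential.D k E) = {0} from
    Set.eq_singleton_iff_unique_mem.2 ⟨⟨0, map_zero _⟩, by rintro _ ⟨x, rfl⟩; exact hall x⟩] at ha
  simpa using ha

theorem unramified_of_isSeparable [Algebra.IsSeparable k E] : Algebra.FormallyUnramified k E :=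
  unramified_of_adjoin k E Set.univ (Algebra.adjoin_univ k E) fun x _ => Algebra.IsSeparable.isSeparable k x

theorem isSeparable_of_adjoin [FiniteDimensional k E] (s : Set E) (hs : Algebra.adjoin k s = ⊤)
    (hsep : ∀ x ∈ s, IsSeparable k x) : Algebra.IsSeparable k E :=
  have := unramified_of_adjoin k E s hs hsep
  isSeparable_of_unramified k E

end Comm

variable {k} {A : Type v} [Ring A] [Algebra k A]

theorem isSeparable_coe_iff {S : Subalgebra k A} (x : S) : IsSeparable k (x : A) ↔ IsSeparable k x := by
  rw [IsSeparable, IsSeparable, show minpoly k (x : A) = minpoly k x from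
    minpoly.algHom_eq S.val Subtype.val_injective x]

theorem adjoin_comm {s : Set A} (hc : ∀ a ∈ s, ∀ b ∈ s, a * b = b * a) :
    ∀ a ∈ Algebra.adjoin k s, ∀ b ∈ Algebra.adjoin k s, a * b = b * a := fun a ha b hb =>
  congrArg Subtype.val ((Algebra.isMulCommutative_adjoin k hc).is_comm.comm ⟨a, ha⟩ ⟨b, hb⟩)

/-- A subalgebra generated by commuting separable elements consists of separable elements. -/
theorem isSeparable_adjoin [FiniteDimensional k A] {s : Set A} (hc : ∀ a ∈ s, ∀ b ∈ s, a * b = b * a)
    (hsep : ∀ x ∈ s, IsSeparable k x) : Algebra.IsSeparable k (Algebra.adjoin k s) := by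
  letI : CommRing (Algebra.adjoin k s) :=
    { (inferInstance : Ring (Algebra.adjoin k s)) with
      mul_comm := fun a b => Subtype.ext (adjoin_comm hc a a.2 b b.2) }
  refine isSeparable_of_adjoin k (Algebra.adjoin k s) (Subtype.val ⁻¹' s)
    Algebra.adjoin_adjoin_coe_preimage fun x hx => (isSeparable_coe_iff x).1 (hsep _ hx)

theorem isSeparable_of_idem [Nontrivial A] {e : A} (he : e * e = e) : IsSeparable k e := by
  have hP : (Polynomial.X ^ 2 - Polynomial.X : Polynomial k).Separable :=
    ⟨-4, 2 * Polynomial.X - 1, by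
      simp [Polynomial.derivative_X_pow, Polynomial.C_ofNat]
      ring⟩
  exact hP.of_dvd (minpoly.dvd k e (by simp [pow_two, he]))

section Regular

/-- von Neumann regularity of a semisimple ring. -/
theorem exists_mul_mul_eq {R : Type w} [Ring R] [IsSemisimpleRing R] (x : R) : ∃ a, x * a * x = x := by
  obtain ⟨e, he, hI⟩ := IsSemisimpleRing.ideal_eq_span_idempotent (Ideal.span {x})
  obtain ⟨a, ha⟩ := Ideal.mem_span_singleton'.1 (hI ▸ Ideal.mem_span_singleton_self e : e ∈ Ideal.span {x})
  obtain ⟨r, hr⟩ := Ideal.mem_span_singleton'.1 (hI ▸ Ideal.mem_span_singleton_self x : x ∈ Ideal.span {e})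
  refine ⟨a, ?_⟩
  rw [mul_assoc, ha]
  calc x * e = r * e * e := by rw [hr]
    _ = x := by rw [mul_assoc, he.eq, hr]

theorem exists_mul_mul_eq_of_baseChange (K : Type w) [Field K] [Algebra k K]
    [IsSemisimpleRing (K ⊗[k] A)] (x : A) : ∃ a, x * a * x = x := by
  obtain ⟨b, hb⟩ := exists_mul_mul_eq ((1 : K) ⊗ₜ[k] x)
  obtain ⟨ψ, hψ⟩ := LinearMap.exists_extend (p := LinearMap.range (Algebra.linearMap k K))
    ((LinearEquiv.ofInjective (Algebra.linearMap k K) (algebraMap k K).injective).symm.toLinearMap)
  have h1 : ψ 1 = 1 := by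
    have := LinearMap.congr_fun hψ ⟨1, 1, by simp⟩
    refine this.trans ((LinearEquiv.ofInjective (Algebra.linearMap k K) (algebraMap k K).injective).injective ?_)
    exact ((LinearEquiv.ofInjective _ _).apply_symm_apply _).trans (Subtype.ext (by simp))
  let Ψ : K ⊗[k] A →ₗ[k] A := (TensorProduct.lid k A).toLinearMap ∘ₗ ψ.rTensor A
  have hΨ : ∀ y : K ⊗[k] A, Ψ ((1 : K) ⊗ₜ[k] x * y * (1 : K) ⊗ₜ[k] x) = x * Ψ y * x := fun y => by
    induction y using TensorProduct.induction_on with
    | zero => simp
    | tmul c a => simp [Ψ, mul_smul_comm, smul_mul_assoc]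
    | add a b ha hb => simp only [mul_add, add_mul, map_add, ha, hb]
  refine ⟨Ψ b, ?_⟩
  rw [← hΨ, hb]
  simp [Ψ, h1]

end Regular

section Projection

variable (L : Subalgebra k A)

/-- Separability gives a bimodule projection onto the centralizer. -/
theorem exists_projection [FiniteDimensional k A] (hL : ∀ x ∈ L, ∀ y ∈ L, x * y = y * x)
    [Algebra.IsSeparable k L] :
    ∃ π : A →ₗ[k] A, (∀ a, π a ∈ Subalgebra.centralizer k (L : Set A)) ∧
      (∀ c ∈ Subalgebra.centralizer k (L : Set A), π c = c) ∧
      ∀ c ∈ Subalgebra.centralizer k (L : Set A), ∀ a, π (c * a) = c * π a ∧ π (a * c) = π a * c := by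
  letI : CommRing L := { (inferInstance : Ring L) with mul_comm := fun a b => Subtype.ext (hL a a.2 b b.2) }
  have : Algebra.FormallyUnramified k L := unramified_of_isSeparable k L
  let Φ : L ⊗[k] L →ₗ[k] (A →ₗ[k] A) := TensorProduct.lift
    (((LinearMap.llcomp k A A A).comp ((LinearMap.mul k A).comp L.val.toLinearMap)).compl₂
      ((LinearMap.mul k A).flip.comp L.val.toLinearMap))
  have hΦ : ∀ (x y : L) (a : A), Φ (x ⊗ₜ y) a = (x : A) * (a * (y : A)) := fun x y a => rfl
  have hmul : ∀ (t u : L ⊗[k] L) (a : A), Φ (t * u) a = Φ t (Φ u a) := fun t u a => by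
    induction t using TensorProduct.induction_on with
    | zero => simp
    | add t t' ht ht' => simp only [add_mul, map_add, LinearMap.add_apply, ht, ht']
    | tmul x y =>
        induction u using TensorProduct.induction_on with
        | zero => simp
        | add t t' ht ht' => simp only [mul_add, map_add, LinearMap.add_apply, ht, ht', add_mul]
        | tmul x' y' =>
            rw [Algebra.TensorProduct.tmul_mul_tmul, hΦ, hΦ, hΦ, mul_comm y y']
            push_cast
            simp only [mul_assoc]
  have hbi : ∀ c ∈ Subalgebra.centralizer k (L : Set A), ∀ (t : L ⊗[k] L) (a : A),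
      Φ t (c * a) = c * Φ t a ∧ Φ t (a * c) = Φ t a * c ∧
        Φ t c = c * (Algebra.TensorProduct.lmul' k t : L) := by
    intro c hc t a
    have hcL : ∀ x : L, (x : A) * c = c * x := fun x => (Subalgebra.mem_centralizer_iff k).1 hc x x.2
    induction t using TensorProduct.induction_on with
    | zero => simp
    | add t t' ht ht' =>
        simp only [map_add, LinearMap.add_apply, ht.1, ht.2.1, ht'.1, ht'.2.1, ht.2.2, ht'.2.2]
        push_cast
        simp only [mul_add, add_mul, and_self]
    | tmul x y =>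
        refine ⟨?_, ?_, ?_⟩
        · rw [hΦ, hΦ, mul_assoc, ← mul_assoc, hcL x, mul_assoc]
        · rw [hΦ, hΦ, mul_assoc a c, ← hcL y]
          simp only [mul_assoc]
        · rw [hΦ, Algebra.TensorProduct.lmul'_apply_tmul, ← mul_assoc, hcL x, mul_assoc]
          rfl
  refine ⟨Φ (Algebra.FormallyUnramified.elem k L), fun a => ?_, fun c hc => ?_, fun c hc a => ?_⟩
  · refine (Subalgebra.mem_centralizer_iff k).2 fun s hs => ?_
    have h := congrArg (fun t => Φ t a) (Algebra.FormallyUnramified.one_tmul_mul_elem (R := k) (⟨s, hs⟩ : L))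
    simp only [hmul, hΦ] at h
    simpa using h.symm
  · rw [(hbi c hc _ 0).2.2, Algebra.FormallyUnramified.lmul_elem]
    simp
  · exact ⟨(hbi c hc _ a).1, (hbi c hc _ a).2.1⟩

end Projection

/-- An element commuting with `centralizer L`, itself in it, is separable. -/
theorem isSeparable_of_mem_center [FiniteDimensional k A] (hss : IsSemisimpleRing (AlgebraicClosure k ⊗[k] A))
    (L : Subalgebra k A) (hL : ∀ x ∈ L, ∀ y ∈ L, x * y = y * x) [Algebra.IsSeparable k L] {z : A}
    (hz : z ∈ Subalgebra.centralizer k (L : Set A))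
    (hzc : ∀ c ∈ Subalgebra.centralizer k (L : Set A), z * c = c * z) : IsSeparable k z := by
  classical
  let K := AlgebraicClosure k
  obtain ⟨π, hπmem, hπid, hπbi⟩ := exists_projection L hL
  let πK : K ⊗[k] A →ₗ[K] K ⊗[k] A := π.baseChange K
  have hw : ∀ w ∈ Algebra.adjoin K {(1 : K) ⊗ₜ[k] z},
      (∀ a, πK (w * a) = w * πK a ∧ πK (a * w) = πK a * w ∧ w * πK a = πK a * w) ∧ πK w = w := by
    intro w hw
    induction hw using Algebra.adjoin_induction with
    | mem w hw =>
        rw [Set.mem_singleton_iff] at hw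
        subst hw
        refine ⟨fun a => ?_, by simp [πK, hπid z hz]⟩
        induction a using TensorProduct.induction_on with
        | zero => simp
        | add a b ha hb => simp only [mul_add, add_mul, map_add, ha.1, hb.1, ha.2.1, hb.2.1, ha.2.2, hb.2.2, and_self]
        | tmul c a =>
            simp [πK, Algebra.TensorProduct.tmul_mul_tmul, (hπbi z hz a).1, (hπbi z hz a).2,
              hzc _ (hπmem a)]
    | algebraMap r =>
        refine ⟨fun a => ?_, ?_⟩
        · have h1 : algebraMap K (K ⊗[k] A) r * a = r • a := (Algebra.smul_def r a).symm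
          have h2 : a * algebraMap K (K ⊗[k] A) r = r • a := by rw [← Algebra.commutes, h1]
          rw [h1, h2, map_smul, ← Algebra.commutes r (πK a), ← Algebra.smul_def]
          exact ⟨rfl, rfl, rfl⟩
        · simp [πK, Algebra.TensorProduct.algebraMap_apply, hπid 1 (one_mem _)]
    | add x y _ _ hx hy =>
        exact ⟨fun a => by simp only [add_mul, mul_add, map_add, (hx.1 a).1, (hx.1 a).2.1, (hx.1 a).2.2,
          (hy.1 a).1, (hy.1 a).2.1, (hy.1 a).2.2, and_self], by rw [map_add, hx.2, hy.2]⟩
    | mul x y _ _ hx hy =>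
        refine ⟨fun a => ⟨?_, ?_, ?_⟩, by rw [(hx.1 y).1, hy.2]⟩
        · rw [mul_assoc, (hx.1 _).1, (hy.1 _).1, mul_assoc]
        · rw [← mul_assoc, (hy.1 _).2.1, (hx.1 _).2.1, mul_assoc]
        · rw [mul_assoc, (hy.1 _).2.2, ← mul_assoc, (hx.1 _).2.2, mul_assoc]
  have hred : ∀ w ∈ Algebra.adjoin K {(1 : K) ⊗ₜ[k] z}, w * w = 0 → w = 0 := fun w hwm hw0 => by
    obtain ⟨a, ha⟩ := exists_mul_mul_eq w
    obtain ⟨h, hid⟩ := hw w hwm
    rw [← hid, ← ha, (h _).2.1, (h _).1, (h _).2.2, mul_assoc, hw0, mul_zero]
  have hzi : IsIntegral k z := IsIntegral.of_finite k z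
  set P := minpoly k z
  set P' : Polynomial K := P.map (algebraMap k K)
  have hP'm : P'.Monic := (minpoly.monic hzi).map _
  have hroot : Polynomial.aeval ((1 : K) ⊗ₜ[k] z) P' = 0 := by
    rw [Polynomial.aeval_map_algebraMap, show ((1 : K) ⊗ₜ[k] z) =
      (Algebra.TensorProduct.includeRight : A →ₐ[k] K ⊗[k] A) z from rfl, Polynomial.aeval_algHom_apply,
      minpoly.aeval, map_zero]
  have hdvd : ∀ g : Polynomial K, Polynomial.aeval ((1 : K) ⊗ₜ[k] z) g = 0 → P' ∣ g := fun g hg => by
    have hr : Polynomial.aeval ((1 : K) ⊗ₜ[k] z) (g %ₘ P') = 0 := by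
      rw [eq_sub_of_add_eq (Polynomial.modByMonic_add_div g P'), map_sub, map_mul, hroot, zero_mul, hg, sub_zero]
    rw [← Polynomial.modByMonic_eq_zero_iff_dvd hP'm]
    have hdeg : (g %ₘ P').degree < P.natDegree := by
      refine (Polynomial.degree_modByMonic_lt g hP'm).trans_eq ?_
      rw [Polynomial.degree_eq_natDegree hP'm.ne_zero, Polynomial.natDegree_map]
    by_cases h0 : g %ₘ P' = 0
    · exact h0
    have hnd : (g %ₘ P').natDegree < P.natDegree := (Polynomial.natDegree_lt_iff_degree_lt h0).2 hdeg
    rw [Polynomial.aeval_eq_sum_range' hnd, Finset.sum_range] at hr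
    have hli : LinearIndependent k (fun i : Fin P.natDegree => z ^ (i : ℕ)) := linearIndependent_pow z
    ext j
    rw [Polynomial.coeff_zero]
    by_cases hj : j < P.natDegree
    · obtain ⟨φ, hφ⟩ := LinearMap.exists_extend (p := Submodule.span k (Set.range fun i : Fin P.natDegree => z ^ (i : ℕ)))
        ((Finsupp.lapply (⟨j, hj⟩ : Fin P.natDegree)).comp hli.repr)
      have hφi : ∀ i : Fin P.natDegree, φ (z ^ (i : ℕ)) = if i = ⟨j, hj⟩ then 1 else 0 := fun i => by
        refine (LinearMap.congr_fun hφ ⟨z ^ (i : ℕ), Submodule.subset_span ⟨i, rfl⟩⟩).trans ?_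
        rw [LinearMap.comp_apply, hli.repr_eq_single i _ rfl, Finsupp.lapply_apply, Finsupp.single_apply]
      have := congrArg ((TensorProduct.rid k K).toLinearMap ∘ₗ φ.lTensor K) hr
      simp [map_sum, Algebra.TensorProduct.tmul_pow, TensorProduct.smul_tmul', hφi, ite_smul] at this
      exact this
    · exact Polynomial.coeff_eq_zero_of_natDegree_lt (by omega)
  have hsq : Squarefree P' := by
    rintro b ⟨R, hR⟩
    have hbR : b * R ≠ 0 := fun h => hP'm.ne_zero (by rw [hR, mul_assoc, h, mul_zero])
    have h2 : Polynomial.aeval ((1 : K) ⊗ₜ[k] z) (b * R) = 0 := by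
      refine hred _ (Polynomial.aeval_mem_adjoin_singleton K _) ?_
      rw [← map_mul, show b * R * (b * R) = P' * R by rw [hR]; ring, map_mul, hroot, zero_mul]
    have h3 := hdvd _ h2
    rw [hR, mul_assoc] at h3
    obtain ⟨c, hc⟩ := h3
    exact IsUnit.of_mul_eq_one c (mul_right_cancel₀ hbR (by linear_combination -hc))
  exact (Polynomial.separable_map _).1 (PerfectField.separable_iff_squarefree.2 hsq)

/-- A finite-dimensional division algebra with separable centre all whose separable elements are
central is commutative. -/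
theorem mem_center_of_separable_mem_center {D : Type w} [DivisionRing D] [Algebra k D] [FiniteDimensional k D]
    (hZ : ∀ z ∈ Subalgebra.center k D, IsSeparable k z)
    (hsep : ∀ p : D, IsSeparable k p → p ∈ Subalgebra.center k D) (p : D) : p ∈ Subalgebra.center k D := by
  suffices htop : Subring.center D = ⊤ by
    exact (show p ∈ Subring.center D by rw [htop]; trivial)
  by_contra hne
  let Z := Subring.center D
  letI : Algebra k Z := ((algebraMap k D).codRestrict Z
    (fun c => Subring.mem_center_iff.2 fun g => (Algebra.commutes c g).symm)).toAlgebra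
  have : IsScalarTower k Z D := IsScalarTower.of_algebraMap_eq fun _ => rfl
  have : Algebra.IsAlgebraic Z D := Algebra.IsAlgebraic.tower_top (K := k) _
  obtain ⟨p, hpk, hps⟩ := JacobsonNoether.exists_separable_and_not_isCentral D hne
  have : FiniteDimensional k Z := Module.Finite.of_injective
    (IsScalarTower.toAlgHom k Z D).toLinearMap Subtype.val_injective
  have hZs : Algebra.IsSeparable k Z := ⟨fun z => by
    have h2 : minpoly k (z : D) = minpoly k z :=
      minpoly.algHom_eq (IsScalarTower.toAlgHom k Z D) Subtype.val_injective z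
    have h5 := hZ z z.2
    unfold IsSeparable at h5 ⊢
    rwa [← h2]⟩
  let T := Algebra.adjoin Z ({p} : Set D)
  have hcomm : ∀ a ∈ T, ∀ b ∈ T, a * b = b * a := fun a ha b hb =>
    congrArg Subtype.val ((Algebra.isMulCommutative_adjoin Z (s := {p})
      (by simp)).is_comm.comm ⟨a, ha⟩ ⟨b, hb⟩)
  letI : CommRing T := { (inferInstance : Ring T) with
    mul_comm := fun a b => Subtype.ext (hcomm a a.2 b b.2) }
  have : FiniteDimensional Z D := Module.Finite.of_restrictScalars_finite k Z D
  have h1 : Algebra.IsSeparable Z T := isSeparable_adjoin (k := Z) (A := D) (by simp) (by simpa using hps)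
  have : Algebra.FormallyUnramified Z T := unramified_of_isSeparable Z T
  have : Algebra.FormallyUnramified k Z := unramified_of_isSeparable k Z
  have : Algebra.FormallyUnramified k T := Algebra.FormallyUnramified.comp k Z T
  have : FiniteDimensional k T := Module.Finite.trans Z T
  have hTs : Algebra.IsSeparable k T := isSeparable_of_unramified k T
  refine hpk (hsep p ?_)
  have h3 : minpoly k p = minpoly k (⟨p, Algebra.self_mem_adjoin_singleton Z p⟩ : T) :=
    minpoly.algHom_eq ((T.val).restrictScalars k) Subtype.val_injective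
      (⟨p, Algebra.self_mem_adjoin_singleton Z p⟩ : T)
  have h4 := Algebra.IsSeparable.isSeparable k (⟨p, Algebra.self_mem_adjoin_singleton Z p⟩ : T)
  unfold IsSeparable at h4 ⊢
  rwa [h3]

/-- A maximal étale subalgebra of an absolutely semisimple algebra is self-centralizing. -/
theorem centralizer_eq_of_maximal [FiniteDimensional k A] (hss : IsSemisimpleRing (AlgebraicClosure k ⊗[k] A))
    (L : Subalgebra k A) (hL : ∀ x ∈ L, ∀ y ∈ L, x * y = y * x) [Algebra.IsSeparable k L]
    (hmax : ∀ L' : Subalgebra k A, (∀ x ∈ L', ∀ y ∈ L', x * y = y * x) → Algebra.IsSeparable k L' →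
      L ≤ L' → L' = L) :
    Subalgebra.centralizer k (L : Set A) = L := by
  classical
  rcases subsingleton_or_nontrivial A with h | h
  · exact le_antisymm (fun x _ => by rw [Subsingleton.elim x 0]; exact zero_mem L)
      (fun x _ => by rw [Subsingleton.elim x 0]; exact zero_mem _)
  set C := Subalgebra.centralizer k (L : Set A) with hC
  have hLC : L ≤ C := fun x hx => (Subalgebra.mem_centralizer_iff k).2 fun y hy => hL y hy x hx
  have hsm : ∀ x ∈ C, IsSeparable k x → x ∈ L := fun x hx hs => by
    have hgen : ∀ a ∈ insert x (L : Set A), ∀ b ∈ insert x (L : Set A), a * b = b * a := by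
      rintro a (rfl | ha) b (rfl | hb)
      · rfl
      · exact ((Subalgebra.mem_centralizer_iff k).1 hx b hb).symm
      · exact (Subalgebra.mem_centralizer_iff k).1 hx a ha
      · exact hL a ha b hb
    have := isSeparable_adjoin (k := k) hgen (by
      rintro a (rfl | ha)
      · exact hs
      · exact (isSeparable_coe_iff (⟨a, ha⟩ : L)).2 (Algebra.IsSeparable.isSeparable k _))
    rw [← hmax _ (adjoin_comm hgen) this fun a ha => Algebra.subset_adjoin (Set.mem_insert_of_mem _ ha)]
    exact Algebra.subset_adjoin (Set.mem_insert _ _)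
  have hcen : ∀ x ∈ L, ∀ c ∈ C, x * c = c * x := fun x hx c hc => (Subalgebra.mem_centralizer_iff k).1 hc x hx
  have hz : ∀ z ∈ C, (∀ c ∈ C, z * c = c * z) → z ∈ L := fun z hz hzc =>
    hsm z hz (isSeparable_of_mem_center hss L hL hz hzc)
  have hidem : ∀ f ∈ C, f * f = f → f ∈ L := fun f hf hff => hsm f hf (isSeparable_of_idem hff)
  obtain ⟨π, hπmem, hπid, hπbi⟩ := exists_projection L hL
  have hreg : ∀ y ∈ C, ∃ c ∈ C, y * c * y = y := fun y hy => by
    have := hss
    obtain ⟨a, ha⟩ := exists_mul_mul_eq_of_baseChange (k := k) (AlgebraicClosure k) y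
    exact ⟨π a, hπmem a, by rw [← (hπbi y hy a).1, ← (hπbi y hy _).2, ha, hπid y hy]⟩
  let rk : A → ℕ := fun e => Module.finrank k ((Subalgebra.toSubmodule C).map (LinearMap.mulLeft k e))
  have main : ∀ n e, e ∈ C → e * e = e → rk e = n → ∀ x ∈ C, e * x ∈ L := by
    intro n
    induction n using Nat.strong_induction_on with
    | _ n ih =>
    intro e heC hee hn x hx
    have he := hcen e (hidem e heC hee)
    by_cases hsplit : ∃ f ∈ C, f * f = f ∧ f * e = f ∧ f ≠ 0 ∧ f ≠ e
    · obtain ⟨f, hfC, hff, hfe, hf0, hfne⟩ := hsplit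
      have hef : e * f = f := by rw [he f hfC, hfe]
      have hlt : ∀ g ∈ C, g * g = g → g * e = g → g ≠ e → rk g < n := by
        intro g hgC hgg hge hgne
        rw [← hn]
        refine Submodule.finrank_lt_finrank_of_lt (lt_of_le_of_ne ?_ fun hEq => ?_)
        · rintro _ ⟨c, hc, rfl⟩
          exact ⟨g * c, C.mul_mem hgC hc, by
            simp only [LinearMap.mulLeft_apply, ← mul_assoc, show e * g = g by rw [he g hgC, hge]]⟩
        · have hm : e ∈ (Subalgebra.toSubmodule C).map (LinearMap.mulLeft k g) :=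
            hEq.symm ▸ ⟨1, C.one_mem, mul_one e⟩
          obtain ⟨c, -, hc⟩ := hm
          rw [LinearMap.mulLeft_apply] at hc
          exact hgne (hge.symm.trans (by rw [← hc, ← mul_assoc, hgg]))
      have hgC : e - f ∈ C := C.sub_mem heC hfC
      have hgg : (e - f) * (e - f) = e - f := by
        rw [mul_sub, sub_mul, sub_mul, hee, hfe, hef, hff]; abel
      rw [show e * x = f * x + (e - f) * x by rw [sub_mul]; abel]
      exact L.add_mem (ih _ (hlt f hfC hff hfe hfne) f hfC hff rfl x hx)
        (ih _ (hlt _ hgC hgg (by rw [sub_mul, hee, hfe]) (fun h => hf0 (by simpa using h))) _ hgC hgg rfl x hx)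
    push Not at hsplit
    have hinv : ∀ y ∈ C, e * y = y → y ≠ 0 → ∃ c ∈ C, y * c = e := fun y hy hey hy0 => by
      obtain ⟨c, hc, hycy⟩ := hreg y hy
      refine ⟨e * c, C.mul_mem heC hc, ?_⟩
      rw [← mul_assoc, show y * e = y by rw [← he y hy, hey]]
      have hff : y * c * (y * c) = y * c := by rw [← mul_assoc, hycy]
      refine hsplit _ (C.mul_mem hy hc) hff ?_ ?_
      · rw [← he _ (C.mul_mem hy hc), ← mul_assoc, hey]
      · intro h
        rw [h, zero_mul] at hycy
        exact hy0 hycy.symm
    by_cases he0 : e = 0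
    · rw [he0, zero_mul]; exact L.zero_mem
    let V := (Subalgebra.toSubmodule C).map (LinearMap.mulLeft k e)
    letI : AddCommGroup V := Submodule.addCommGroup V
    have hVstab : ∀ c ∈ C, ∀ v ∈ V, c * v ∈ V := by
      rintro c hc _ ⟨d, hd, rfl⟩
      exact ⟨c * d, C.mul_mem hc hd, by
        simp only [LinearMap.mulLeft_apply, ← mul_assoc, he c hc]⟩
    let ρ : C →ₐ[k] Module.End k V := AlgHom.ofLinearMap
      { toFun := fun c => ((LinearMap.mulLeft k (c : A)).restrict (p := V) (q := V) (hVstab c c.2))
        map_add' := fun a b => by ext v; exact add_mul (a : A) b v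
        map_smul' := fun r a => by ext v; exact smul_mul_assoc r (a : A) v }
      (by ext v; exact one_mul (v : A)) (fun a b => by ext v; exact mul_assoc (a : A) b v)
    have heV : e ∈ V := ⟨1, C.one_mem, mul_one e⟩
    have hρ : ∀ a b : C, ρ a = ρ b ↔ e * (a : A) = e * b := fun a b => by
      refine ⟨fun h => ?_, fun h => ?_⟩
      · have := congrArg Subtype.val (LinearMap.congr_fun h ⟨e, heV⟩)
        change (a : A) * e = b * e at this
        rwa [← he a a.2, ← he b b.2] at this
      · ext ⟨v, d, hd, hv⟩
        change (a : A) * v = b * v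
        rw [← hv, LinearMap.mulLeft_apply, ← mul_assoc, ← mul_assoc, ← he a a.2, ← he b b.2, h]
    let D : Subalgebra k (Module.End k V) := ρ.range
    have hρ0 : ∀ a : C, ρ a = 0 ↔ e * (a : A) = 0 := fun a => by
      rw [← map_zero ρ, hρ]; simp
    have : Nontrivial D := ⟨1, 0, fun h => he0 (by
      have := (hρ0 1).1 ((map_one ρ).trans (congrArg Subtype.val h))
      simpa using this)⟩
    have : NoZeroDivisors D := ⟨fun {p q} hpq => by
      obtain ⟨a, ha⟩ := p.2
      obtain ⟨b, hb⟩ := q.2
      by_contra hne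
      rw [not_or] at hne
      have h1 : ρ (a * b) = 0 := by
        rw [map_mul]; exact (congrArg₂ (· * ·) ha hb).trans (congrArg Subtype.val hpq)
      rw [hρ0] at h1
      have hb0 : e * (b : A) ≠ 0 := fun h => hne.2 (Subtype.ext (hb.symm.trans ((hρ0 b).2 h)))
      have ha0 : e * (a : A) ≠ 0 := fun h => hne.1 (Subtype.ext (ha.symm.trans ((hρ0 a).2 h)))
      obtain ⟨c, hc, hbc⟩ := hinv (e * b) (C.mul_mem heC b.2) (by rw [← mul_assoc, hee]) hb0
      apply ha0
      calc e * (a : A) = e * a * (e * b * c) := by rw [hbc, he _ a.2, mul_assoc, hee]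
        _ = e * ((a * b : C) : A) * c := by
          push_cast
          rw [← mul_assoc, ← mul_assoc, mul_assoc e (a : A) e, ← he _ a.2, ← mul_assoc, hee, mul_assoc e (a : A)]
        _ = 0 := by rw [h1, zero_mul]⟩
    have : IsDomain D := NoZeroDivisors.to_isDomain D
    letI : DivisionRing D := divisionRingOfFiniteDimensional k D
    have hcen' : ∀ p : D, p ∈ Subalgebra.center k D → ∀ a : C, ρ a = p → e * (a : A) ∈ L := by
      intro p hp a ha
      refine hz _ (C.mul_mem heC a.2) fun c hc => ?_
      have h1 : p * ⟨ρ ⟨c, hc⟩, ⟨c, hc⟩, rfl⟩ = ⟨ρ ⟨c, hc⟩, ⟨c, hc⟩, rfl⟩ * p :=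
        (Subalgebra.mem_center_iff.1 hp _).symm
      have h2 : ρ (a * ⟨c, hc⟩) = ρ (⟨c, hc⟩ * a) := by
        rw [map_mul, map_mul, ha]; exact congrArg Subtype.val h1
      rw [hρ] at h2
      push_cast at h2
      rw [mul_assoc, h2, ← mul_assoc, he c hc, mul_assoc]
    have hρe : ∀ a : C, ρ ⟨e * (a : A), C.mul_mem heC a.2⟩ = ρ a := fun a => by
      rw [hρ]; simp only [← mul_assoc, hee]
    have hmemcen : ∀ p : D, ∀ a : C, ρ a = p → (a : A) ∈ L → p ∈ Subalgebra.center k D := by
      intro p a ha haL
      refine Subalgebra.mem_center_iff.2 fun q => Subtype.ext ?_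
      obtain ⟨b, hb⟩ := q.2
      have : b * a = a * b := Subtype.ext (hcen _ haL b b.2).symm
      calc (q * p : D).1 = ρ (b * a) := by rw [map_mul]; exact (congrArg₂ (· * ·) hb ha).symm
        _ = (p * q : D).1 := by rw [this, map_mul]; exact congrArg₂ (· * ·) ha hb
    have hey : ∀ (a : C) (P : Polynomial k), e * (Polynomial.aeval (e * (a : A)) P) = 0 ↔
        Polynomial.aeval (ρ a) P = 0 := fun a P => by
      rw [← hρe a, Polynomial.aeval_algHom_apply, hρ0]
      exact iff_of_eq (congrArg (fun t => e * t = 0)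
        (Polynomial.aeval_algHom_apply C.val (⟨e * (a : A), C.mul_mem heC a.2⟩ : C) P))
    have hval : ∀ (p : D) (P : Polynomial k), Polynomial.aeval p P = 0 → Polynomial.aeval (p : Module.End k V) P = 0 :=
      fun p P h => (Polynomial.aeval_algHom_apply D.val p P).trans (by rw [h, map_zero])
    have hfin := mem_center_of_separable_mem_center (k := k) (D := D)
      (fun q hq => by
        obtain ⟨a, ha⟩ := q.2
        have hmem := hcen' q hq a ha
        have h1 : IsSeparable k (e * (a : A)) :=
          (isSeparable_coe_iff (⟨_, hmem⟩ : L)).2 (Algebra.IsSeparable.isSeparable k _)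
        refine h1.of_dvd (minpoly.dvd k _ (Subtype.val_injective ?_))
        have h2 := (hey a (minpoly k (e * (a : A)))).1 (by rw [minpoly.aeval, mul_zero])
        refine ((Polynomial.aeval_algHom_apply D.val q _).symm.trans ?_)
        exact (congrArg (fun t => Polynomial.aeval t _) ha.symm).trans h2)
      (fun q hq => by
        obtain ⟨a, ha⟩ := q.2
        by_cases hq0 : q = 0
        · rw [hq0]; exact zero_mem _
        set Q := minpoly k q
        have hqint : IsIntegral k q := IsIntegral.of_finite k q
        have hQy : e * Polynomial.aeval (e * (a : A)) Q = 0 :=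
          (hey a Q).2 ((congrArg (fun t => Polynomial.aeval t Q) ha).trans (hval q Q (minpoly.aeval k q)))
        have hsepy : IsSeparable k (e * (a : A)) := by
          have hXQ : (Polynomial.X * Q).Separable := by
            refine Polynomial.separable_X.mul hq ?_
            refine Polynomial.irreducible_X.coprime_iff_not_dvd.2 fun h => ?_
            exact minpoly.coeff_zero_ne_zero hqint hq0 (Polynomial.X_dvd_iff.1 h)
          refine hXQ.of_dvd (minpoly.dvd k _ ?_)
          rw [map_mul, Polynomial.aeval_X]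
          exact (congrArg (fun t => t * _) (he _ a.2)).trans (by rw [mul_assoc, hQy, mul_zero])
        exact hmemcen q ⟨e * (a : A), C.mul_mem heC a.2⟩ ((hρe a).trans ha) (hsm _ (C.mul_mem heC a.2) hsepy))
    exact hcen' ⟨ρ ⟨x, hx⟩, ⟨x, hx⟩, rfl⟩ (hfin _) ⟨x, hx⟩ rfl
  refine le_antisymm (fun x hx => ?_) hLC
  simpa using main _ 1 C.one_mem (one_mul 1) rfl x hx

end Groth.Agent.CSA.EtaleSub
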