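import Groth.Agent.CSA.Simple
import Mathlib.RingTheory.LocalRing.Module
import Mathlib.RingTheory.Artinian.Module
import Mathlib.RingTheory.SimpleModule.InjectiveProjective
import Mathlib.RingTheory.SimpleModule.WedderburnArtin

/-!
Maximal commutative subalgebras of degree equal to the degree of a central simple algebra.
-/

set_option autoImplicit false
set_option linter.style.haveILetI false

universe u v w

open scoped TensorProduct

namespace Groth.Agent.CSA.MaxEtale

section Ring

variable {R : Type u} [CommRing R] {A : Type v} [Ring A] [Algebra R A] {L : Type w} [CommRing L] [Algebra R L]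
  (ι : L →ₐ[R] A)

/-- The right multiplication module structure through a commutative subalgebra. -/
@[reducible] noncomputable def rightModule : Module L A :=
  Module.compHom A (ι.toOpposite fun x y => by rw [commute_iff_eq, ← map_mul, ← map_mul, mul_comm]).toRingHom

variable [Module L A] (hmod : ∀ (l : L) (a : A), l • a = a * ι l)

include hmod in
theorem isScalarTower : IsScalarTower R L A :=
  ⟨fun r l a => by rw [hmod, hmod, map_smul, mul_smul_comm]⟩

/-- Left multiplication by `A` commuting with right multiplication by `L`. -/
noncomputable def leftMul [IsScalarTower R L A] : A →ₐ[R] Module.End L A where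
  toFun a :=
    { toFun := fun x => a * x
      map_add' := mul_add a
      map_smul' := fun l x => by simp only [hmod, RingHom.id_apply, mul_assoc] }
  map_one' := LinearMap.ext one_mul
  map_mul' a b := LinearMap.ext fun x => mul_assoc a b x
  map_zero' := LinearMap.ext zero_mul
  map_add' a b := LinearMap.ext fun x => add_mul a b x
  commutes' r := LinearMap.ext fun x => (Algebra.smul_def r x).symm

/-- The map `L ⊗ A → End_L A`, `l ⊗ a ↦ (x ↦ a x ι(l))`. -/
noncomputable def action [IsScalarTower R L A] : L ⊗[R] A →ₐ[L] Module.End L A :=
  Algebra.TensorProduct.lift (Algebra.ofId L (Module.End L A)) (leftMul ι hmod)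
    fun l a => Algebra.commutes l (leftMul ι hmod a)

theorem action_tmul [IsScalarTower R L A] (l : L) (a x : A) :
    action ι hmod (l ⊗ₜ a) x = a * x * ι l := by
  rw [action, Algebra.TensorProduct.lift_tmul, Module.End.mul_apply]
  exact hmod l (a * x)

end Ring

variable {k : Type u} [Field k] {A : Type v} [Ring A] [Algebra k A] [Algebra.IsCentral k A] [IsSimpleRing A]
  [FiniteDimensional k A] {L : Type w} [CommRing L] [Algebra k L] (ι : L →ₐ[k] A) (hι : Function.Injective ι)

omit [Algebra.IsCentral k A] [IsSimpleRing A] in
include hι in
theorem finiteDimensional : FiniteDimensional k L := FiniteDimensional.of_injective ι.toLinearMap hι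

section Given

variable [Module L A] (hmod : ∀ (l : L) (a : A), l • a = a * ι l)

include hι in
theorem action_injective [IsScalarTower k L A] : Function.Injective (action ι hmod) := by
  let j : L →ₗ[k] Aᵐᵒᵖ := (MulOpposite.opLinearEquiv k).toLinearMap ∘ₗ ι.toLinearMap
  have hj : Function.Injective j := (MulOpposite.opLinearEquiv k).injective.comp hι
  have hfac : ∀ t, (action ι hmod t).restrictScalars k =
      AlgHom.mulLeftRight k A ((TensorProduct.comm k Aᵐᵒᵖ A) (j.rTensor A t)) := fun t => by
    induction t using TensorProduct.induction_on with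
    | zero => simp
    | add t t' ht ht' => simp only [map_add, ← ht, ← ht']; rfl
    | tmul l a => ext x; simp [action_tmul, j]
  have hinj : Function.Injective (j.rTensor A) := Module.Flat.rTensor_preserves_injective_linearMap j hj
  exact fun s t h => hinj ((TensorProduct.comm k _ _).injective
    (mulLeftRight_bijective.1 (by rw [← hfac, ← hfac, h])))

include hι in
/-- If `A` is free of rank `r` over `L`, then `L ⊗ A ≅ End_L A`. -/
theorem action_bijective [IsScalarTower k L A] [Module.Free L A] {r : ℕ} (hA : Module.finrank k A = r ^ 2)
    (hr : Module.finrank L A = r) : Function.Bijective (action ι hmod) := by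
  have := finiteDimensional ι hι
  have : Module.Finite L A := Module.Finite.of_restrictScalars_finite k L A
  refine ⟨action_injective ι hι hmod, ?_⟩
  have : Nontrivial L := (subsingleton_or_nontrivial L).resolve_left fun h =>
    have := Module.subsingleton L A
    false_of_nontrivial_of_subsingleton A
  have h : Module.finrank k (L ⊗[k] A) = Module.finrank k (Module.End L A) := by
    rw [Module.finrank_tensorProduct, hA, ← Module.finrank_mul_finrank k L (Module.End L A),
      Module.finrank_linearMap, hr, sq]
  exact (LinearMap.injective_iff_surjective_of_finrank_eq_finrank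
    (f := ((action ι hmod).toLinearMap).restrictScalars k) h).1 (action_injective ι hι hmod)

include hι hmod in
/-- A reduced commutative subalgebra whose dimension is the degree makes `A` free of rank the degree. -/
theorem free_of_finrank [IsReduced L] {r : ℕ} (hA : Module.finrank k A = r ^ 2)
    (hL : Module.finrank k L = r) : Module.Free L A ∧ Module.finrank L A = r := by
  classical
  have := isScalarTower ι hmod
  have := finiteDimensional ι hι
  have : IsArtinianRing L := IsArtinianRing.of_finite k L
  have : Module.Finite L A := Module.Finite.of_restrictScalars_finite k L A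
  have hss : IsSemisimpleRing L := IsArtinianRing.isSemisimpleRing_of_isReduced L
  have : Module.Projective L A := Module.projective_of_isSemisimpleRing _ _
  have : Module.Flat L A := inferInstance
  letI : Fintype (MaximalSpectrum L) := Fintype.ofFinite _
  have hge : ∀ P : MaximalSpectrum L, r ≤ Module.finrank (L ⧸ P.1) ((L ⧸ P.1) ⊗[L] A) := by
    intro P
    letI := Ideal.Quotient.field P.1
    let F := L ⧸ P.1
    let V := F ⊗[L] A
    have : IsScalarTower k L V := TensorProduct.isScalarTower_left
    let ψ : L ⊗[k] A →ₐ[L] Module.End F V :=
      (Module.End.baseChangeHom L F A).comp (action ι hmod)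
    have hF : IsSimpleRing (F ⊗[k] A) := isSimpleRing_baseChange
    let χ : F ⊗[k] A →ₐ[F] Module.End F V := Algebra.TensorProduct.lift (Algebra.ofId F _)
      ((ψ.restrictScalars k).comp Algebra.TensorProduct.includeRight) (fun c a => Algebra.commutes c _)
    have hV : Nontrivial V := by
      by_contra hV
      rw [not_nontrivial_iff_subsingleton] at hV
      have hmem : (1 : A) ∈ P.1 • (⊤ : Submodule L A) := by
        rw [← (Submodule.Quotient.mk_eq_zero _)]
        exact (TensorProduct.quotTensorEquivQuotSMul A P.1).symm.injective (Subsingleton.elim _ _)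
      obtain ⟨e, he⟩ := (IsArtinianRing.equivPi L).surjective (Pi.single P 1)
      have he1 : e ≠ 0 := fun h => by
        have := congrFun (he.symm.trans (by rw [h, map_zero]) : Pi.single P 1 = (0 : ∀ m : MaximalSpectrum L, L ⧸ m.1)) P
        simp at this
      have he0 : ∀ l ∈ P.1, l * e = 0 := fun l hl => by
        apply (IsArtinianRing.equivPi L).injective
        rw [map_mul, he, map_zero]
        ext m
        by_cases hm : m = P
        · subst hm; simpa using Ideal.Quotient.eq_zero_iff_mem.2 hl
        · simp [hm]
      have : e • (1 : A) = 0 := by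
        refine Submodule.smul_induction_on hmem (fun l hl a _ => ?_) (fun a b ha hb => by rw [smul_add, ha, hb, add_zero])
        rw [smul_smul, mul_comm, he0 l hl, zero_smul]
      rw [hmod, one_mul] at this
      exact he1 (hι (by rw [this, map_zero]))
    have : Module.Finite F V := Module.Finite.base_change L F A
    have hinj : Function.Injective χ := χ.toRingHom.injective
    have hle := LinearMap.finrank_le_finrank_of_injective (f := χ.toLinearMap) hinj
    rw [Module.finrank_baseChange, Module.finrank_linearMap, hA, sq] at hle
    exact Nat.mul_self_le_mul_self_iff.1 hle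
  have hsum : ∑ P : MaximalSpectrum L, Module.finrank k (L ⧸ P.1) *
      Module.finrank (L ⧸ P.1) ((L ⧸ P.1) ⊗[L] A) ≤ r * r := by
    have hsur := Ideal.pi_tensorProductMk_quotient_surjective A (fun P : MaximalSpectrum L => P.1)
      (fun P Q ne => Ideal.isCoprime_of_isMaximal (MaximalSpectrum.ext_iff.ne.mp ne))
    have hfinq : ∀ P : MaximalSpectrum L, Module.Finite k ((L ⧸ P.1) ⊗[L] A) := fun P =>
      Module.Finite.trans L _
    have h := LinearMap.finrank_range_le ((LinearMap.pi fun P : MaximalSpectrum L =>
      TensorProduct.mk L (L ⧸ P.1) A 1).restrictScalars k)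
    rw [LinearMap.range_eq_top.2 (show Function.Surjective ((LinearMap.pi fun P : MaximalSpectrum L =>
      TensorProduct.mk L (L ⧸ P.1) A 1).restrictScalars k) from hsur), finrank_top, Module.finrank_pi_fintype, hA, sq] at h
    refine le_trans (le_of_eq (Finset.sum_congr rfl fun P _ => ?_)) h
    letI := Ideal.Quotient.field P.1
    exact Module.finrank_mul_finrank k (L ⧸ P.1) ((L ⧸ P.1) ⊗[L] A)
  have hdimL : ∑ P : MaximalSpectrum L, Module.finrank k (L ⧸ P.1) = r := by
    rw [← Module.finrank_pi_fintype k, ← hL]
    exact ((IsArtinianRing.equivPi L).restrictScalars k).toLinearEquiv.finrank_eq.symm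
  have heq : ∀ P : MaximalSpectrum L, Module.finrank (L ⧸ P.1) ((L ⧸ P.1) ⊗[L] A) = r := by
    intro P
    refine le_antisymm ?_ (hge P)
    by_contra hlt
    rw [not_le] at hlt
    letI := Ideal.Quotient.field P.1
    have h1 : ∑ Q : MaximalSpectrum L, Module.finrank k (L ⧸ Q.1) * r <
        ∑ Q : MaximalSpectrum L, Module.finrank k (L ⧸ Q.1) *
          Module.finrank (L ⧸ Q.1) ((L ⧸ Q.1) ⊗[L] A) :=
      Finset.sum_lt_sum (fun Q _ => Nat.mul_le_mul_left _ (hge Q))
        ⟨P, Finset.mem_univ _, Nat.mul_lt_mul_of_pos_left hlt Module.finrank_pos⟩
    rw [← Finset.sum_mul, hdimL] at h1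
    omega
  have : Nontrivial L := ι.toRingHom.domain_nontrivial
  obtain ⟨b⟩ := Module.nonempty_basis_of_flat_of_finrank_eq L A r heq
  exact ⟨Module.Free.of_basis b, by rw [Module.finrank_eq_card_basis b, Fintype.card_fin]⟩

end Given

include hι in
/-- Such a subalgebra is its own centralizer. -/
theorem mem_range_of_commute [IsReduced L] {r : ℕ} (hA : Module.finrank k A = r ^ 2)
    (hL : Module.finrank k L = r) {c : A} (hc : ∀ l, ι l * c = c * ι l) : c ∈ ι.range := by
  letI := rightModule ι
  have hmod' : ∀ (l : L) (a : A), l • a = a * ι l := fun _ _ => rfl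
  have := isScalarTower ι hmod'
  obtain ⟨hfree, hrk⟩ := free_of_finrank ι hι hmod' hA hL
  obtain ⟨hinj, hsur⟩ := action_bijective ι hι hmod' hA hrk
  have hr0 : 0 < r := Nat.pos_of_ne_zero fun h => by
    have := Module.finrank_pos (R := k) (M := A)
    simp [h, hA] at this
  let Rc : Module.End L A :=
    { toFun := fun x => x * c
      map_add' := fun x y => add_mul x y c
      map_smul' := fun l x => by simp only [hmod', RingHom.id_apply, mul_assoc, hc] }
  have hcen : Rc ∈ Submonoid.center (Module.End L A) := by
    rw [Submonoid.mem_center_iff]
    intro g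
    obtain ⟨t, rfl⟩ := hsur g
    induction t using TensorProduct.induction_on with
    | zero => simp
    | add s t hs ht => rw [map_add, add_mul, mul_add, hs, ht]
    | tmul l a =>
        ext x
        change action ι hmod' (l ⊗ₜ a) (x * c) = action ι hmod' (l ⊗ₜ a) x * c
        simp only [action_tmul, mul_assoc, hc]
  have : Module.Finite L A := Module.Finite.of_restrictScalars_finite k L A
  obtain ⟨l, hα, hl⟩ := Module.End.mem_submonoidCenter_iff.1 hcen
  refine ⟨l, ?_⟩
  have := congrArg (fun f : Module.End L A => f 1) hl
  simp only [LinearMap.coe_mk, AddHom.coe_mk, one_mul, Rc] at this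
  simpa [hmod'] using this.symm

end Groth.Agent.CSA.MaxEtale
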