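import Groth.Agent.Azu.Basic
import Groth.Agent.CSA.MaxEtale
import Groth.Agent.CSA.EtaleSub

/-!
Azumaya algebras over local rings: the fibre, and regular elements.
-/

set_option autoImplicit false
set_option linter.style.haveILetI false

universe u v

open scoped TensorProduct
open IsLocalRing

namespace Groth.Agent.CSA.LocalAzu

theorem powers_of_finrank_adjoin {k : Type u} [Field k] {B : Type v} [Ring B] [Algebra k B]
    [FiniteDimensional k B] (x : B) {r : ℕ}
    (h : Module.finrank k (Algebra.adjoin k ({x} : Set B)) = r) :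
    (minpoly k x).natDegree = r ∧ LinearIndependent k (fun i : Fin r => x ^ (i : ℕ)) ∧
      Subalgebra.toSubmodule (Algebra.adjoin k ({x} : Set B)) =
        Submodule.span k (Set.range fun i : Fin r => x ^ (i : ℕ)) := by
  have hint : IsIntegral k x := IsIntegral.of_finite k x
  have hspan : Subalgebra.toSubmodule (Algebra.adjoin k ({x} : Set B)) =
      Submodule.span k (Set.range fun i : Fin (minpoly k x).natDegree => x ^ (i : ℕ)) := by
    refine le_antisymm (fun y hy => ?_) (Submodule.span_le.2 ?_)
    · rw [Subalgebra.mem_toSubmodule, Algebra.adjoin_singleton_eq_range_aeval] at hy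
      obtain ⟨p, rfl⟩ := hy
      change Polynomial.aeval x p ∈ _
      rw [← Polynomial.aeval_modByMonic_eq_self_of_root (p := p) (minpoly.aeval k x)]
      by_cases h0 : p %ₘ minpoly k x = 0
      · rw [h0, map_zero]; exact zero_mem _
      rw [Polynomial.aeval_eq_sum_range' ((Polynomial.natDegree_lt_iff_degree_lt h0).2
        ((Polynomial.degree_modByMonic_lt p (minpoly.monic hint)).trans_le Polynomial.degree_le_natDegree))]
      exact Submodule.sum_mem _ fun i hi =>
        Submodule.smul_mem _ _ (Submodule.subset_span ⟨⟨i, Finset.mem_range.1 hi⟩, rfl⟩)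
    · rintro _ ⟨i, rfl⟩
      exact Subalgebra.pow_mem _ (Algebra.self_mem_adjoin_singleton k x) _
  have hli := linearIndependent_pow (K := k) x
  have hd : (minpoly k x).natDegree = r := by
    rw [← h, ← Subalgebra.finrank_toSubmodule, hspan, finrank_span_eq_card hli, Fintype.card_fin]
  subst hd
  exact ⟨rfl, hli, hspan⟩

variable (R : Type u) [CommRing R] [IsLocalRing R] (A : Type u) [Ring A] [Algebra R A] [IsAzumaya R A]

theorem free : Module.Free R A := Module.free_of_flat_of_isLocalRing

theorem finrank_fibre : Module.finrank (ResidueField R) (ResidueField R ⊗[R] A) = Module.finrank R A :=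
  have := free R A
  Module.finrank_baseChange

theorem isCSA_fibre : IsCSA (ResidueField R) (ResidueField R ⊗[R] A) :=
  have := Groth.Agent.Azu.baseChange (R := R) (A := A) (ResidueField R)
  Groth.Agent.Azu.isCSA

/-- A regular element has free powers, closed under multiplication. -/
theorem regular_powers (r : ℕ) (hA : Module.finrank R A = r ^ 2) (ξ : A)
    (hsep : Algebra.IsSeparable (ResidueField R)
      (Algebra.adjoin (ResidueField R) ({(1 : ResidueField R) ⊗ₜ[R] ξ} : Set (ResidueField R ⊗[R] A))))
    (hrk : Module.finrank (ResidueField R)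
      (Algebra.adjoin (ResidueField R) ({(1 : ResidueField R) ⊗ₜ[R] ξ} : Set (ResidueField R ⊗[R] A))) = r) :
    LinearIndependent R (fun i : Fin r => ξ ^ (i : ℕ)) ∧
      ξ ^ r ∈ Submodule.span R (Set.range (fun i : Fin r => ξ ^ (i : ℕ))) := by
  classical
  let k := ResidueField R
  have := free R A
  obtain ⟨_, _, _⟩ := isCSA_fibre R A
  set x : k ⊗[R] A := 1 ⊗ₜ ξ
  obtain ⟨-, hli, hspan⟩ := powers_of_finrank_adjoin x hrk
  have hres : ∀ i : ℕ, (TensorProduct.mk R k A 1) (ξ ^ i) = x ^ i := fun i =>
    (map_pow (Algebra.TensorProduct.includeRight : A →ₐ[R] k ⊗[R] A) ξ i)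
  let w := Module.Basis.sumExtend hli
  have hmk : Function.Surjective (TensorProduct.mk R k A 1) :=
    TensorProduct.mk_surjective R A k Ideal.Quotient.mk_surjective
  choose c hc using fun l : Module.Basis.sumExtendIndex hli => hmk (w (Sum.inr l))
  let v : Fin r ⊕ Module.Basis.sumExtendIndex hli → A := Sum.elim (fun i => ξ ^ (i : ℕ)) c
  have hwl : ∀ i : Fin r, w (Sum.inl i) = x ^ (i : ℕ) := fun i => by
    simp [w, Module.Basis.sumExtend, Module.Basis.extend]
    rfl
  have hv : TensorProduct.mk R k A 1 ∘ v = w := funext fun i => by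
    rcases i with i | l
    · exact (hres i).trans (hwl i).symm
    · exact hc l
  have hbij : Function.Bijective (Finsupp.linearCombination R v) :=
    Module.IsLocalRing.linearCombination_bijective_of_flat v (by
      rw [hv, show (Finsupp.linearCombination (ResidueField R) ⇑w : _ → _) = w.repr.symm from
        funext fun f => (w.repr_symm_apply f).symm]
      exact w.repr.symm.bijective)
  let B : Module.Basis _ R A := .ofRepr (LinearEquiv.ofBijective _ hbij).symm
  have hB : ∀ i, B i = v i := fun i => by
    simp [B, Module.Basis.coe_ofRepr]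
  refine ⟨?_, ?_⟩
  · have := B.linearIndependent.comp Sum.inl Sum.inl_injective
    convert this using 1
    ext i
    simp [hB, v]
  let L := Algebra.adjoin k ({x} : Set (k ⊗[R] A))
  letI : CommRing L := { (inferInstance : Ring L) with
    mul_comm := fun a b => Subtype.ext (EtaleSub.adjoin_comm (k := k) (s := ({x} : Set (k ⊗[R] A)))
      (fun p hp q hq => by rw [Set.mem_singleton_iff] at hp hq; rw [hp, hq]) (a : k ⊗[R] A) a.2 (b : k ⊗[R] A) b.2) }
  have : Algebra.FormallyUnramified k L := EtaleSub.unramified_of_isSeparable k L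
  have : IsReduced L := Algebra.FormallyUnramified.isReduced_of_field k L
  have hcomm : ∀ y : k ⊗[R] A, x * y = y * x → y ∈ L := fun y hy => by
    have h1 := MaxEtale.mem_range_of_commute L.val Subtype.val_injective
      (r := r) (by rw [finrank_fibre, hA]) hrk (c := y) (fun l => by
        have : ∀ z ∈ L, z * y = y * z := fun z hz => by
          induction hz using Algebra.adjoin_induction with
          | mem z hz => rw [Set.mem_singleton_iff] at hz; subst hz; exact hy
          | algebraMap a => exact Algebra.commutes a y
          | add a b _ _ ha hb => rw [add_mul, mul_add, ha, hb]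
          | mul a b _ _ ha hb => rw [mul_assoc, hb, ← mul_assoc, ha, mul_assoc]
        exact this l l.2)
    rwa [Subalgebra.range_val] at h1
  let D : A →ₗ[R] A := LinearMap.mulLeft R ξ - LinearMap.mulRight R ξ
  have hDli : LinearIndependent R (fun l => D (c l)) := by
    refine Module.IsLocalRing.linearIndependent_of_flat (fun l => D (c l)) ?_
    have hD : ∀ a : A, TensorProduct.mk R k A 1 (D a) =
        x * TensorProduct.mk R k A 1 a - TensorProduct.mk R k A 1 a * x := fun a => by
      simp [D, x, Algebra.TensorProduct.tmul_mul_tmul, TensorProduct.tmul_sub]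
    rw [linearIndependent_iff']
    intro s g hg l hl
    have h2 : ∑ i ∈ s, g i • w (Sum.inr i) ∈ L := by
      refine hcomm _ (sub_eq_zero.1 ?_)
      rw [Finset.mul_sum, Finset.sum_mul, ← Finset.sum_sub_distrib, ← hg]
      refine Finset.sum_congr rfl fun i _ => ?_
      rw [Function.comp_apply, hD, hc, smul_sub, mul_smul_comm, smul_mul_assoc]
    rw [← Subalgebra.mem_toSubmodule, hspan, Submodule.mem_span_range_iff_exists_fun] at h2
    obtain ⟨a, ha⟩ := h2
    have h3 : ∑ i ∈ (Finset.univ : Finset (Fin r)).disjSum s, (Sum.elim a (fun i => -g i) i) • w i = 0 := by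
      simp only [Finset.sum_disjSum, Sum.elim_inl, Sum.elim_inr, hwl, neg_smul, Finset.sum_neg_distrib, ha,
        add_neg_cancel]
    simpa using linearIndependent_iff'.1 w.linearIndependent _ _ h3 (Sum.inr l) (Finset.inr_mem_disjSum.2 hl)
  have : Finite (Module.Basis.sumExtendIndex hli) := by
    have := Module.Finite.finite_basis w
    exact Finite.of_injective _ (Sum.inr_injective (α := Fin r))
  letI := Fintype.ofFinite (Module.Basis.sumExtendIndex hli)
  have hsum := B.sum_repr (ξ ^ r)
  rw [Fintype.sum_sum_type] at hsum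
  simp only [hB, v, Sum.elim_inl, Sum.elim_inr] at hsum
  have hz : ∀ l, B.repr (ξ ^ r) (Sum.inr l) = 0 := by
    refine Fintype.linearIndependent_iff.1 hDli _ ?_
    have hDpow : ∀ i : ℕ, D (ξ ^ i) = 0 := fun i => by
      simp [D, ← pow_succ, ← pow_succ']
    have := congrArg D hsum
    simpa [hDpow, map_sum] using this
  rw [← hsum]
  simp only [hz, zero_smul, Finset.sum_const_zero, add_zero]
  exact Submodule.sum_mem _ fun i _ => Submodule.smul_mem _ _ (Submodule.subset_span ⟨i, rfl⟩)

end Groth.Agent.CSA.LocalAzu
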