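import Groth.Agent.CSA.Splitting
import Mathlib.Algebra.Central.End

/-!
Subfields of central simple algebras: centralizers of subfields of maximal degree, maximal subfields of
division algebras split, degree of a splitting field.
-/

set_option autoImplicit false

universe u v w

open scoped TensorProduct

namespace Groth.Agent.CSA

variable {k : Type u} [Field k] {A : Type v} [Ring A] [Algebra k A] {K : Type w} [Field K] [Algebra k K]

/-- `A` as a right module over a subfield. -/
def RightVia (_ι : K →ₐ[k] A) : Type v := A

noncomputable instance (ι : K →ₐ[k] A) : AddCommGroup (RightVia ι) := inferInstanceAs (AddCommGroup A)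
noncomputable instance (ι : K →ₐ[k] A) : Module k (RightVia ι) := inferInstanceAs (Module k A)

/-- The right action. -/
noncomputable def rightViaHom (ι : K →ₐ[k] A) : K →+* AddMonoid.End A where
  toFun c := AddMonoidHom.mulRight (ι c)
  map_zero' := by
    ext x
    show x * ι 0 = 0
    simp
  map_one' := by
    ext x
    show x * ι 1 = x
    simp
  map_add' a b := by
    ext x
    show x * ι (a + b) = x * ι a + x * ι b
    simp [mul_add]
  map_mul' a b := by
    ext x
    show x * ι (a * b) = x * ι b * ι a
    rw [mul_assoc, ← map_mul, mul_comm a b]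

noncomputable instance (ι : K →ₐ[k] A) : Module K (RightVia ι) :=
  Module.compHom A (rightViaHom ι)

theorem rightVia_smul (ι : K →ₐ[k] A) (c : K) (x : A) :
    (c • (show RightVia ι from x) : RightVia ι) = (x * ι c : A) := rfl

instance (ι : K →ₐ[k] A) : IsScalarTower k K (RightVia ι) :=
  ⟨fun r c x => by
    change (show A from x) * ι (r • c) = r • ((show A from x) * ι c)
    rw [map_smul, mul_smul_comm]⟩

/-- Left multiplication as a `K`-linear map. -/
noncomputable def leftMulHom (ι : K →ₐ[k] A) : A →ₐ[k] Module.End K (RightVia ι) where
  toFun a :=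
    { toFun := fun x => (show RightVia ι from a * (show A from x))
      map_add' := fun x y => mul_add a (show A from x) (show A from y)
      map_smul' := fun c x => (mul_assoc a (show A from x) (ι c)).symm }
  map_one' := LinearMap.ext fun x => one_mul (show A from x)
  map_mul' a b := LinearMap.ext fun x => mul_assoc a b (show A from x)
  map_zero' := LinearMap.ext fun x => zero_mul (show A from x)
  map_add' a b := LinearMap.ext fun x => add_mul a b (show A from x)
  commutes' r := LinearMap.ext fun x => (Algebra.smul_def r (show A from x)).symm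

/-- The action of `K ⊗ A` on `A`. -/
noncomputable def biAction (ι : K →ₐ[k] A) : K ⊗[k] A →ₐ[K] Module.End K (RightVia ι) :=
  Algebra.TensorProduct.lift (Algebra.ofId K _) (leftMulHom ι) fun c a => Algebra.commutes c _

theorem biAction_tmul (ι : K →ₐ[k] A) (c : K) (a x : A) :
    (biAction ι (c ⊗ₜ[k] a) (show RightVia ι from x) : RightVia ι) = (a * x * ι c : A) := by
  simp only [biAction, Algebra.TensorProduct.lift_tmul, Algebra.ofId_apply, Module.End.mul_apply]
  rfl

section CSA

variable [Algebra.IsCentral k A] [IsSimpleRing A]

theorem biAction_injective (ι : K →ₐ[k] A) : Function.Injective (biAction ι) :=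
  have : IsSimpleRing (K ⊗[k] A) := isSimpleRing_tensor_right
  have : Nontrivial (RightVia ι) := inferInstanceAs (Nontrivial A)
  (biAction ι).toRingHom.injective

variable [FiniteDimensional k A]

omit [Algebra.IsCentral k A] [IsSimpleRing A] in
theorem finiteDimensional_of_algHom [Nontrivial A] (ι : K →ₐ[k] A) : FiniteDimensional k K :=
  Module.Finite.of_injective ι.toLinearMap ι.toRingHom.injective

omit [Algebra.IsCentral k A] [IsSimpleRing A] in
theorem finiteDimensional_rightVia (ι : K →ₐ[k] A) : FiniteDimensional K (RightVia ι) :=
  have : FiniteDimensional k (RightVia ι) := inferInstanceAs (FiniteDimensional k A)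
  Module.Finite.of_restrictScalars_finite k K (RightVia ι)

theorem biAction_bijective_of_finrank (ι : K →ₐ[k] A) {n : ℕ} (hA : Module.finrank k A = n ^ 2)
    (hK : Module.finrank k K = n) : Function.Bijective (biAction ι) := by
  have := finiteDimensional_of_algHom ι
  have := finiteDimensional_rightVia ι
  have hn : 0 < n := hK ▸ Module.finrank_pos
  have hr : Module.finrank K (RightVia ι) = n := by
    have h := Module.finrank_mul_finrank k K (RightVia ι)
    rw [hK, show Module.finrank k (RightVia ι) = n ^ 2 from hA, sq] at h
    exact Nat.eq_of_mul_eq_mul_left hn h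
  refine ⟨biAction_injective ι,
    (LinearMap.injective_iff_surjective_of_finrank_eq_finrank (f := (biAction ι).toLinearMap) ?_).1
      (biAction_injective ι)⟩
  rw [Module.finrank_baseChange, Module.finrank_linearMap, hr, hA, sq]

/-- The centralizer of a subfield of maximal degree is that subfield. -/
theorem mem_range_of_commute (ι : K →ₐ[k] A) {n : ℕ} (hA : Module.finrank k A = n ^ 2)
    (hK : Module.finrank k K = n) (c : A) (hc : ∀ x, ι x * c = c * ι x) : c ∈ ι.range := by
  have := finiteDimensional_of_algHom ι
  have := finiteDimensional_rightVia ι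
  let g : Module.End K (RightVia ι) :=
    { toFun := fun x => (show RightVia ι from (show A from x) * c)
      map_add' := fun x y => add_mul (show A from x) (show A from y) c
      map_smul' := fun r x => by
        change (show A from x) * ι r * c = (show A from x) * c * ι r
        rw [mul_assoc, hc, ← mul_assoc] }
  have hg : g ∈ Subalgebra.center K (Module.End K (RightVia ι)) := by
    rw [Subalgebra.mem_center_iff]
    intro f
    obtain ⟨r, rfl⟩ := (biAction_bijective_of_finrank ι hA hK).2 f
    induction r using TensorProduct.induction_on with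
    | zero => simp
    | tmul d a =>
        ext x
        have h : ∀ y : RightVia ι, biAction ι (d ⊗ₜ[k] a) y = (a * (show A from y) * ι d : A) :=
          fun y => biAction_tmul ι d a (show A from y)
        show biAction ι (d ⊗ₜ[k] a) (g x) = g (biAction ι (d ⊗ₜ[k] a) x)
        rw [h, h]
        show a * ((show A from x) * c) * ι d = a * (show A from x) * ι d * c
        rw [mul_assoc (a * (show A from x)) (ι d) c, hc, ← mul_assoc, ← mul_assoc]
    | add x y hx hy => rw [map_add, add_mul, mul_add, hx, hy]
  obtain ⟨r, hr⟩ := (Algebra.IsCentral.mem_center_iff K).1 hg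
  refine ⟨r, ?_⟩
  have := congrArg (fun φ : Module.End K (RightVia ι) => (show A from φ (show RightVia ι from (1 : A)))) hr
  calc ι r = (1 : A) * ι r := (one_mul _).symm
    _ = (1 : A) * c := this.symm
    _ = c := one_mul c

theorem splits_of_subfield (ι : K →ₐ[k] A) {n : ℕ} (hA : Module.finrank k A = n ^ 2)
    (hK : Module.finrank k K = n) : Curves.Splits k A K := by
  have := finiteDimensional_rightVia ι
  let e := AlgEquiv.ofBijective _ (biAction_bijective_of_finrank ι hA hK)
  refine ⟨_, ?_, ⟨e.trans (algEquivMatrix (Module.finBasis K (RightVia ι)))⟩⟩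
  have : Nontrivial (RightVia ι) := inferInstanceAs (Nontrivial A)
  exact Module.finrank_pos.ne'

/-- A subfield which is its own centralizer has degree the degree of the algebra. -/
theorem finrank_sq_of_centralizer (ι : K →ₐ[k] A) (h : ∀ c, (∀ x, ι x * c = c * ι x) → c ∈ ι.range) :
    Module.finrank k A = Module.finrank k K ^ 2 := by
  classical
  have := finiteDimensional_of_algHom ι
  have := finiteDimensional_rightVia ι
  have : IsSimpleRing (K ⊗[k] A) := isSimpleRing_tensor_right
  have : FiniteDimensional k (RightVia ι) := inferInstanceAs (FiniteDimensional k A)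
  letI : Module (K ⊗[k] A) (RightVia ι) := Module.compHom _ (biAction ι).toRingHom
  have hsmul : ∀ (r : K ⊗[k] A) (x : RightVia ι), r • x = biAction ι r x := fun _ _ => rfl
  have : IsArtinianRing (K ⊗[k] A) := IsArtinianRing.of_finite K _
  have hsurj : Function.Surjective (biAction ι) := by
    intro f
    let f' : Module.End (Module.End (K ⊗[k] A) (RightVia ι)) (RightVia ι) :=
      { toFun := f
        map_add' := f.map_add
        map_smul' := fun g x => by
          let g1 : A := g (show RightVia ι from (1 : A))
          have hg : ∀ y : A, (g (show RightVia ι from y) : RightVia ι) = (y * g1 : A) := fun y => by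
            have h1 := g.map_smul ((1 : K) ⊗ₜ[k] y) (show RightVia ι from (1 : A))
            rw [hsmul, hsmul, biAction_tmul, map_one, mul_one, mul_one] at h1
            rw [h1]
            erw [biAction_tmul ι 1 y g1]
            rw [map_one, mul_one]
          obtain ⟨r, hr⟩ := h g1 fun x => by
            have h2 := g.map_smul (x ⊗ₜ[k] (1 : A)) (show RightVia ι from (1 : A))
            rw [hsmul, hsmul, biAction_tmul, one_mul, one_mul] at h2
            erw [biAction_tmul ι x 1 g1] at h2
            rw [one_mul] at h2
            exact ((hg (ι x)).symm.trans h2)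
          have hgs : ∀ y : RightVia ι, g y = r • y := fun y => by
            rw [show g y = ((show A from y) * g1 : A) from hg y, show g1 = ι r from hr.symm]
            rfl
          change f (g x) = g (f x)
          rw [hgs, hgs, map_smul] }
    let b := Module.finBasis K (RightVia ι)
    obtain ⟨r, hr⟩ := jacobson_density (R := K ⊗[k] A) (M := RightVia ι) f' (Finset.univ.image b)
    exact ⟨r, b.ext fun i => (hr (b i) (Finset.mem_image_of_mem _ (Finset.mem_univ i))).symm⟩
  have e := (AlgEquiv.ofBijective _ ⟨biAction_injective ι, hsurj⟩).toLinearEquiv.finrank_eq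
  rw [Module.finrank_baseChange, Module.finrank_linearMap] at e
  have htower := Module.finrank_mul_finrank k K (RightVia ι)
  rw [show Module.finrank k (RightVia ι) = Module.finrank k A from rfl] at htower
  have hpos : 0 < Module.finrank K (RightVia ι) := by
    have : Nontrivial (RightVia ι) := inferInstanceAs (Nontrivial A)
    exact Module.finrank_pos
  rw [e] at htower
  have h2 := Nat.eq_of_mul_eq_mul_right hpos htower
  rw [e, ← h2, sq]

end CSA

section Division

variable (k) (D : Type v) [DivisionRing D] [Algebra k D] [Algebra.IsCentral k D] [FiniteDimensional k D]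

theorem exists_maximal_subfield :
    ∃ (L : Type v) (_ : Field L) (_ : Algebra k L) (_ : L →ₐ[k] D),
      Module.finrank k D = Module.finrank k L ^ 2 ∧ Curves.Splits k D L := by
  classical
  have hex : ∃ m : ℕ, ∃ S : Subalgebra k D, (∀ x ∈ S, ∀ y ∈ S, x * y = y * x) ∧
      Module.finrank k D - Module.finrank k S = m := ⟨_, ⊥, fun x hx y _ => by
        obtain ⟨c, rfl⟩ := Algebra.mem_bot.1 hx
        exact Algebra.commutes c y, rfl⟩
  obtain ⟨S, hcomm, hm⟩ := Nat.find_spec hex
  have hle : ∀ T : Subalgebra k D, Module.finrank k T ≤ Module.finrank k D := fun T =>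
    Submodule.finrank_le (Subalgebra.toSubmodule T)
  have hmax : ∀ T : Subalgebra k D, (∀ x ∈ T, ∀ y ∈ T, x * y = y * x) → S ≤ T → T = S := by
    intro T hT hST
    have h1 := Nat.find_min' hex ⟨T, hT, rfl⟩
    rw [← hm] at h1
    refine (Subalgebra.toSubmodule_injective (Submodule.eq_of_le_of_finrank_le
      (show Subalgebra.toSubmodule S ≤ Subalgebra.toSubmodule T from hST) ?_)).symm
    have := hle T
    have := hle S
    show Module.finrank k T ≤ Module.finrank k S
    omega
  let : CommRing S := { (inferInstance : Ring S) with mul_comm := fun a b => Subtype.ext (hcomm a a.2 b b.2) }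
  have : FiniteDimensional k S := FiniteDimensional.finiteDimensional_submodule (Subalgebra.toSubmodule S)
  have : IsDomain S := S.toSubring.instIsDomainSubtypeMem
  letI : Field S := fieldOfFiniteDimensional k S
  refine ⟨S, inferInstance, inferInstance, S.val, ?_⟩
  have hcen : ∀ c, (∀ x, S.val x * c = c * S.val x) → c ∈ S.val.range := by
    intro c hc
    have hT : ∀ x ∈ Algebra.adjoin k (insert c (S : Set D)), ∀ y ∈ Algebra.adjoin k (insert c (S : Set D)),
        x * y = y * x := by
      intro x hx y hy
      have := Algebra.isMulCommutative_adjoin k (s := insert c (S : Set D)) (by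
        rintro a (rfl | ha) b (rfl | hb)
        · rfl
        · exact (hc ⟨b, hb⟩).symm
        · exact hc ⟨a, ha⟩
        · exact hcomm a ha b hb)
      exact congrArg Subtype.val (this.is_comm.comm ⟨x, hx⟩ ⟨y, hy⟩)
    have h := hmax _ hT fun x hx => Algebra.subset_adjoin (Set.mem_insert_of_mem _ hx)
    rw [Subalgebra.range_val, ← h]
    exact Algebra.subset_adjoin (Set.mem_insert _ _)
  have h := finrank_sq_of_centralizer S.val hcen
  exact ⟨h, splits_of_subfield S.val h rfl⟩

theorem dvd_finrank_of_splits (d : ℕ) (hd : Module.finrank k D = d ^ 2) (K : Type w) [Field K] [Algebra k K]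
    [FiniteDimensional k K] (h : Curves.Splits k D K) : d ∣ Module.finrank k K := by
  obtain ⟨n, _, ⟨e⟩⟩ := h
  obtain rfl : n = d := (splits_size k D e).trans (deg_eq_of_finrank k D hd)
  let φ : D →ₐ[k] Module.End k (Fin n → K) :=
    (({ toFun := LinearMap.restrictScalars k, map_one' := rfl, map_mul' := fun _ _ => rfl,
        map_zero' := rfl, map_add' := fun _ _ => rfl, commutes' := fun c => by
          ext v i
          simp [Algebra.smul_def, Pi.single_apply] } :
      Module.End K (Fin n → K) →ₐ[k] Module.End k (Fin n → K))).comp
      ((Matrix.toLinAlgEquiv' (R := K)).toAlgHom.restrictScalars k |>.comp (splittingHom k D e))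
  letI : Module D (Fin n → K) := Module.compHom _ φ.toRingHom
  have : IsScalarTower k D (Fin n → K) := ⟨fun c x v => by
    change φ (c • x) v = c • φ x v
    rw [map_smul, LinearMap.smul_apply]⟩
  have h2 := Module.finrank_mul_finrank k D (Fin n → K)
  rw [Module.finrank_pi_fintype, Finset.sum_const, Finset.card_univ, Fintype.card_fin, smul_eq_mul, hd] at h2
  refine ⟨Module.finrank D (Fin n → K), Nat.eq_of_mul_eq_mul_left (Nat.pos_of_ne_zero ‹_›) ?_⟩
  rw [← mul_assoc, ← sq, h2]

end Division

end Groth.Agent.CSA
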