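import Groth.Agent.CSA.Centralizer
import Groth.Agent.CSA.Subfield
import Mathlib.FieldTheory.JacobsonNoether
import Mathlib.FieldTheory.SeparableClosure

/-!
Separable maximal subfields of central division algebras.
-/

set_option autoImplicit false

universe u v

open scoped TensorProduct

namespace Groth.Agent.CSA

variable (k : Type u) [Field k] (D : Type v) [DivisionRing D] [Algebra k D] [Algebra.IsCentral k D]
  [FiniteDimensional k D]

theorem exists_separable_selfCentralizing :
    ∃ S : Subalgebra k D, (∀ x ∈ S, ∀ y ∈ S, x * y = y * x) ∧ Algebra.IsSeparable k S ∧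
      ∀ c, (∀ x ∈ S, x * c = c * x) → c ∈ S := by
  classical
  let P : Subalgebra k D → Prop := fun S => (∀ x ∈ S, ∀ y ∈ S, x * y = y * x) ∧ Algebra.IsSeparable k S
  have hbot : P ⊥ := ⟨fun x hx y _ => by
      obtain ⟨c, rfl⟩ := Algebra.mem_bot.1 hx
      exact Algebra.commutes c y,
    AlgEquiv.Algebra.isSeparable (Algebra.botEquiv k D).symm⟩
  have hex : ∃ m : ℕ, ∃ S : Subalgebra k D, P S ∧ Module.finrank k D - Module.finrank k S = m := ⟨_, ⊥, hbot, rfl⟩
  obtain ⟨S, ⟨hcomm, hsep⟩, hm⟩ := Nat.find_spec hex
  refine ⟨S, hcomm, hsep, fun c hc => ?_⟩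
  by_contra hcS
  let : CommRing S := { (inferInstance : Ring S) with mul_comm := fun a b => Subtype.ext (hcomm a a.2 b b.2) }
  have : FiniteDimensional k S := FiniteDimensional.finiteDimensional_submodule (Subalgebra.toSubmodule S)
  have : IsDomain S := S.toSubring.instIsDomainSubtypeMem
  letI : Field S := fieldOfFiniteDimensional k S
  have : IsSimpleRing S := inferInstance
  let C := Subalgebra.centralizer k (S : Set D)
  have : IsDomain C := C.toSubring.instIsDomainSubtypeMem
  have : FiniteDimensional k C := FiniteDimensional.finiteDimensional_submodule (Subalgebra.toSubmodule C)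
  letI : DivisionRing C := divisionRingOfFiniteDimensional k C
  have hSC : ∀ s ∈ S, s ∈ C := fun s hs => (Subalgebra.mem_centralizer_iff k).2 fun t ht => hcomm t ht s hs
  let j : S →+* C :=
    { toFun := fun s => ⟨s, hSC s s.2⟩, map_one' := rfl, map_mul' := fun _ _ => rfl, map_zero' := rfl,
      map_add' := fun _ _ => rfl }
  letI : Algebra S C := j.toAlgebra' fun s x => Subtype.ext ((Subalgebra.mem_centralizer_iff k).1 x.2 s s.2)
  have : IsScalarTower k S C := IsScalarTower.of_algebraMap_eq fun _ => rfl
  have : Module.Finite S C := Module.Finite.of_restrictScalars_finite k S C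
  have : Algebra.IsCentral S C := ⟨fun z hz => by
    have h1 : (z : D) ∈ Subalgebra.centralizer k (C : Set D) := (Subalgebra.mem_centralizer_iff k).2 fun g hg =>
      congrArg Subtype.val (Subalgebra.mem_center_iff.1 hz ⟨g, hg⟩)
    rw [centralizer_centralizer S] at h1
    exact Algebra.mem_bot.2 ⟨⟨z, h1⟩, Subtype.ext rfl⟩⟩
  have hne : (⊥ : Subalgebra S C) ≠ ⊤ := fun h => by
    obtain ⟨s, hs⟩ := Algebra.mem_bot.1 (show (⟨c, (Subalgebra.mem_centralizer_iff k).2 hc⟩ : C) ∈ (⊥ : Subalgebra S C)
      from h ▸ Algebra.mem_top)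
    exact hcS ((show (s : D) = c from congrArg Subtype.val hs) ▸ s.2)
  obtain ⟨x, hxnot, hxsep⟩ := JacobsonNoether.exists_separable_and_not_isCentral' (L := S) (D := C) hne
  let T := Algebra.adjoin k (insert (x : D) (S : Set D))
  have hgen : ∀ a ∈ insert (x : D) (S : Set D), ∀ b ∈ insert (x : D) (S : Set D), a * b = b * a := by
    rintro a (rfl | ha) b (rfl | hb)
    · rfl
    · exact ((Subalgebra.mem_centralizer_iff k).1 x.2 b hb).symm
    · exact (Subalgebra.mem_centralizer_iff k).1 x.2 a ha
    · exact hcomm a ha b hb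
  have hTcomm : ∀ a ∈ T, ∀ b ∈ T, a * b = b * a := fun a ha b hb =>
    congrArg Subtype.val ((Algebra.isMulCommutative_adjoin k hgen).is_comm.comm ⟨a, ha⟩ ⟨b, hb⟩)
  have hST : S ≤ T := fun s hs => Algebra.subset_adjoin (Set.mem_insert_of_mem _ hs)
  have hxT : (x : D) ∈ T := Algebra.subset_adjoin (Set.mem_insert _ _)
  let : CommRing T := { (inferInstance : Ring T) with mul_comm := fun a b => Subtype.ext (hTcomm a a.2 b b.2) }
  have : FiniteDimensional k T := FiniteDimensional.finiteDimensional_submodule (Subalgebra.toSubmodule T)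
  have : IsDomain T := T.toSubring.instIsDomainSubtypeMem
  letI : Field T := fieldOfFiniteDimensional k T
  letI : Algebra S T := (Subalgebra.inclusion hST).toRingHom.toAlgebra
  have : IsScalarTower k S T := IsScalarTower.of_algebraMap_eq fun _ => rfl
  have hTC : ∀ t ∈ T, t ∈ C := by
    have : T ≤ C := Algebra.adjoin_le (Set.insert_subset x.2 hSC)
    exact this
  let i : T →ₐ[S] C :=
    { toFun := fun t => ⟨t, hTC t t.2⟩, map_one' := rfl, map_mul' := fun _ _ => rfl, map_zero' := rfl,
      map_add' := fun _ _ => rfl, commutes' := fun _ => rfl }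
  have hxsepT : IsSeparable S (⟨x, hxT⟩ : T) := by
    have hi : Function.Injective i := fun a b h => Subtype.ext (congrArg Subtype.val h :)
    have h := minpoly.algHom_eq i hi ⟨x, hxT⟩
    rw [IsSeparable, ← h]
    exact hxsep
  have hT : Algebra.IsSeparable k T := by
    have hall : ∀ t : T, IsSeparable k t := by
      intro t
      have key : ∀ d (hd : d ∈ T), IsSeparable k (⟨d, hd⟩ : T) := by
        intro d hd
        induction hd using Algebra.adjoin_induction with
        | mem d hd =>
            rcases hd with rfl | hd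
            · exact IsSeparable.of_algebra_isSeparable_of_isSeparable k hxsepT
            · have h := Algebra.IsSeparable.isSeparable k (⟨d, hd⟩ : S)
              have h2 := minpoly.algHom_eq (Subalgebra.inclusion hST) (Subalgebra.inclusion_injective hST) ⟨d, hd⟩
              rw [IsSeparable] at h ⊢
              rwa [← h2] at h
        | algebraMap r => exact isSeparable_algebraMap r
        | add a b ha hb h1 h2 =>
            exact Field.isSeparable_add (x := (⟨a, ha⟩ : T)) (y := (⟨b, hb⟩ : T)) h1 h2
        | mul a b ha hb h1 h2 =>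
            exact Field.isSeparable_mul (x := (⟨a, ha⟩ : T)) (y := (⟨b, hb⟩ : T)) h1 h2
      exact key t t.2
    exact ⟨hall⟩
  have hle : Module.finrank k T ≤ Module.finrank k D := Submodule.finrank_le (Subalgebra.toSubmodule T)
  have h1 := Nat.find_min' hex ⟨T, ⟨hTcomm, hT⟩, rfl⟩
  rw [← hm] at h1
  have hSle : Module.finrank k S ≤ Module.finrank k D := Submodule.finrank_le (Subalgebra.toSubmodule S)
  have h2 : Subalgebra.toSubmodule S = Subalgebra.toSubmodule T :=
    Submodule.eq_of_le_of_finrank_le (show Subalgebra.toSubmodule S ≤ Subalgebra.toSubmodule T from hST)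
      (show Module.finrank k T ≤ Module.finrank k S by omega)
  have hxS : (x : D) ∈ S := by
    rw [Subalgebra.toSubmodule_injective h2]
    exact hxT
  exact hxnot (Algebra.mem_bot.2 ⟨⟨x, hxS⟩, Subtype.ext rfl⟩)

end Groth.Agent.CSA
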