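import Mathlib.RingTheory.Smooth.Basic
import Mathlib.RingTheory.FinitePresentation
import Mathlib.LinearAlgebra.Matrix.NonsingularInverse
import Mathlib.LinearAlgebra.Pi

/-!
Algebra structures with bijective sandwich map on a free module of finite rank, and their deformations.
-/

set_option autoImplicit false
set_option linter.style.haveILetI false

universe u v

namespace Groth.Agent.CSA.AlgStruct

variable {ι : Type} [Fintype ι] [DecidableEq ι]

section Defs

variable {B : Type u} [CommRing B]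

/-- The bilinear product with structure constants `c`. -/
noncomputable def mul (c : ι → ι → ι → B) : (ι → B) →ₗ[B] (ι → B) →ₗ[B] (ι → B) :=
  LinearMap.mk₂ B (fun v w k => ∑ i, ∑ j, v i * w j * c i j k)
    (fun a b d => by ext k; simp [add_mul, Finset.sum_add_distrib])
    (fun r a d => by ext k; simp [mul_assoc, Finset.mul_sum])
    (fun a b d => by ext k; simp [mul_add, add_mul, Finset.sum_add_distrib])
    (fun r a d => by ext k; simp [mul_left_comm, mul_assoc, Finset.mul_sum])

theorem mul_apply (c : ι → ι → ι → B) (v w : ι → B) (k : ι) :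
    mul c v w k = ∑ i, ∑ j, v i * w j * c i j k := rfl

/-- The matrix of the sandwich map. -/
noncomputable def sandwich (c : ι → ι → ι → B) : Matrix (ι × ι) (ι × ι) B :=
  Matrix.of fun pz kl => mul c (mul c (Pi.single kl.1 1) (Pi.single pz.2 1)) (Pi.single kl.2 1) pz.1

/-- An algebra structure with bijective sandwich and a functional taking value one at the unit. -/
structure IsStruct (c : ι → ι → ι → B) (u φ : ι → B) : Prop where
  assoc : ∀ a b d, mul c (mul c a b) d = mul c a (mul c b d)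
  one_mul : ∀ a, mul c u a = a
  mul_one : ∀ a, mul c a u = a
  dual : ∑ i, φ i * u i = 1
  det : IsUnit (sandwich c).det

theorem assoc_of_single (c : ι → ι → ι → B)
    (h : ∀ i j l, mul c (mul c (Pi.single i 1) (Pi.single j 1)) (Pi.single l 1) =
      mul c (Pi.single i 1) (mul c (Pi.single j 1) (Pi.single l 1))) (a b d : ι → B) :
    mul c (mul c a b) d = mul c a (mul c b d) := by
  rw [pi_eq_sum_univ' a, pi_eq_sum_univ' b, pi_eq_sum_univ' d]
  simp only [map_sum, map_smul, LinearMap.sum_apply, LinearMap.smul_apply, Finset.smul_sum, h, smul_smul]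
  rw [Finset.sum_comm]
  conv_rhs => rw [Finset.sum_comm]
  refine Finset.sum_congr rfl fun j _ => Finset.sum_congr rfl fun i _ => Finset.sum_congr rfl fun l _ => ?_
  ring_nf

section Map

variable {B' : Type v} [CommRing B'] (f : B →+* B')

theorem map_mul_apply (c : ι → ι → ι → B) (a b : ι → B) :
    mul (fun i j k => f (c i j k)) (f ∘ a) (f ∘ b) = f ∘ mul c a b := by
  ext k
  simp [mul_apply]

theorem map_single (i : ι) : f ∘ (Pi.single i (1 : B)) = Pi.single i 1 := by
  ext j
  rcases eq_or_ne j i with rfl | h <;> simp [*]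

theorem map_sandwich (c : ι → ι → ι → B) :
    (sandwich c).map f = sandwich (fun i j k => f (c i j k)) := by
  ext pz kl
  simp only [Matrix.map_apply, sandwich, Matrix.of_apply, ← map_single f, map_mul_apply, Function.comp_apply]

omit [DecidableEq ι] in
theorem map_det [DecidableEq (ι × ι)] (M : Matrix (ι × ι) (ι × ι) B) : f M.det = (M.map f).det :=
  RingHom.map_det f M

end Map

end Defs

section Deformation

variable {B : Type u} [CommRing B] (I : Ideal B)

/-- Vectors with all coordinates in `I`. -/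
def Small : Submodule B (ι → B) := Submodule.pi Set.univ fun _ => I

omit [Fintype ι] [DecidableEq ι] in
theorem mem_small {v : ι → B} : v ∈ Small I ↔ ∀ i, v i ∈ I := by simp [Small]

omit [Fintype ι] [DecidableEq ι] in
theorem sub_mem_small_iff {v w : ι → B} :
    v - w ∈ Small I ↔ Ideal.Quotient.mk I ∘ v = Ideal.Quotient.mk I ∘ w := by
  simp [mem_small, funext_iff, Ideal.Quotient.eq]

variable (hI : I ^ 2 = ⊥)

include hI in
omit [Fintype ι] [DecidableEq ι] in
theorem mul_eq_zero_of_mem {a b : B} (ha : a ∈ I) (hb : b ∈ I) : a * b = 0 := by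
  have := Ideal.mul_mem_mul ha hb
  rwa [← sq, hI, Ideal.mem_bot] at this

include hI in
theorem map_small_eq_zero (L : (ι → B) →ₗ[B] (ι → B)) (hL : ∀ v, L v ∈ Small I) {v : ι → B} (hv : v ∈ Small I) :
    L v = 0 := by
  rw [pi_eq_sum_univ' v, map_sum]
  refine Finset.sum_eq_zero fun i _ => ?_
  rw [map_smul]
  ext j
  exact mul_eq_zero_of_mem I hI ((mem_small I).1 hv i) ((mem_small I).1 (hL _) j)

theorem mul_mem_small_left (c : ι → ι → ι → B) {a : ι → B} (ha : a ∈ Small I) (b : ι → B) :
    mul c a b ∈ Small I := by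
  refine (mem_small I).2 fun k => ?_
  rw [mul_apply]
  exact Ideal.sum_mem _ fun i _ => Ideal.sum_mem _ fun j _ =>
    Ideal.mul_mem_right _ _ (Ideal.mul_mem_right _ _ ((mem_small I).1 ha i))

theorem mul_mem_small_right (c : ι → ι → ι → B) (a : ι → B) {b : ι → B} (hb : b ∈ Small I) :
    mul c a b ∈ Small I := by
  refine (mem_small I).2 fun k => ?_
  rw [mul_apply]
  exact Ideal.sum_mem _ fun i _ => Ideal.sum_mem _ fun j _ =>
    Ideal.mul_mem_right _ _ (Ideal.mul_mem_left _ _ ((mem_small I).1 hb j))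

theorem mul_mem_small (c : ι → ι → ι → B) (hc : ∀ i j k, c i j k ∈ I) (a b : ι → B) : mul c a b ∈ Small I := by
  refine (mem_small I).2 fun k => ?_
  rw [mul_apply]
  exact Ideal.sum_mem _ fun i _ => Ideal.sum_mem _ fun j _ => Ideal.mul_mem_left _ _ (hc i j k)

theorem mk_mul (c : ι → ι → ι → B) (a b : ι → B) :
    Ideal.Quotient.mk I ∘ mul c a b =
      mul (fun i j k => Ideal.Quotient.mk I (c i j k)) (Ideal.Quotient.mk I ∘ a) (Ideal.Quotient.mk I ∘ b) :=
  (map_mul_apply _ c a b).symm

variable {I}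

include hI in
omit [Fintype ι] [DecidableEq ι] in
theorem isUnit_of_quotient {x : B} (h : IsUnit (Ideal.Quotient.mk I x)) : IsUnit x := by
  obtain ⟨t, ht⟩ := Ideal.Quotient.mk_surjective (I := I) (↑(h.unit⁻¹) : B ⧸ I)
  have hsub : x * t - 1 ∈ I := by
    rw [← Ideal.Quotient.eq, map_mul, map_one, ht, IsUnit.mul_val_inv]
  exact IsUnit.of_mul_eq_one (t * (1 - (x * t - 1))) (by linear_combination -(mul_eq_zero_of_mem I hI hsub hsub))

theorem mul_single_single (c : ι → ι → ι → B) (i j : ι) :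
    mul c (Pi.single i 1) (Pi.single j 1) = c i j := by
  ext k
  simp [mul_apply, Pi.single_apply]

omit [DecidableEq ι] in
theorem sum_left [DecidableEq ι] (c : ι → ι → ι → B) (s : ι × ι → B) (a : ι → B)
    (T : (ι → B) →ₗ[B] (ι → B) →ₗ[B] (ι → B)) :
    ∑ pq : ι × ι, (∑ k, s (k, pq.2) * mul c a (Pi.single k 1) pq.1) • T (Pi.single pq.1 1) (Pi.single pq.2 1) =
      ∑ kl : ι × ι, s kl • T (mul c a (Pi.single kl.1 1)) (Pi.single kl.2 1) := by
  simp only [Finset.sum_smul, Fintype.sum_prod_type, mul_smul]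
  rw [Finset.sum_comm]
  conv_rhs => rw [Finset.sum_comm]
  refine Finset.sum_congr rfl fun q _ => ?_
  rw [Finset.sum_comm]
  refine Finset.sum_congr rfl fun k _ => ?_
  rw [← Finset.smul_sum]
  congr 1
  conv_rhs => rw [pi_eq_sum_univ' (mul c a (Pi.single k 1)), map_sum, LinearMap.sum_apply]
  exact Finset.sum_congr rfl fun p _ => by rw [map_smul, LinearMap.smul_apply]

omit [DecidableEq ι] in
theorem sum_right [DecidableEq ι] (c : ι → ι → ι → B) (s : ι × ι → B) (a : ι → B)
    (T : (ι → B) →ₗ[B] (ι → B) →ₗ[B] (ι → B)) :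
    ∑ pq : ι × ι, (∑ l, s (pq.1, l) * mul c (Pi.single l 1) a pq.2) • T (Pi.single pq.1 1) (Pi.single pq.2 1) =
      ∑ kl : ι × ι, s kl • T (Pi.single kl.1 1) (mul c (Pi.single kl.2 1) a) := by
  simp only [Finset.sum_smul, Fintype.sum_prod_type, mul_smul]
  refine Finset.sum_congr rfl fun k _ => ?_
  rw [Finset.sum_comm]
  refine Finset.sum_congr rfl fun l _ => ?_
  rw [← Finset.smul_sum]
  congr 1
  conv_rhs => rw [pi_eq_sum_univ' (mul c (Pi.single l 1) a), map_sum]
  exact Finset.sum_congr rfl fun q _ => by rw [map_smul]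

include hI in
/-- A separability element modulo `I`, acting on small vectors. -/
theorem exists_sepElem {c : ι → ι → ι → B} {c₀ : ι → ι → ι → B ⧸ I} {u₀ φ₀ : ι → B ⧸ I}
    (hc : (fun i j k => Ideal.Quotient.mk I (c i j k)) = c₀) (h₀ : IsStruct c₀ u₀ φ₀) :
    ∃ s : ι × ι → B,
      Ideal.Quotient.mk I ∘ (∑ kl, s kl • mul c (Pi.single kl.1 1) (Pi.single kl.2 1)) = u₀ ∧
      ∀ (a : ι → B) (T : (ι → B) →ₗ[B] (ι → B) →ₗ[B] (ι → B)), (∀ v w, T v w ∈ Small I) →
        ∑ kl, s kl • T (mul c a (Pi.single kl.1 1)) (Pi.single kl.2 1) =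
          ∑ kl, s kl • T (Pi.single kl.1 1) (mul c (Pi.single kl.2 1) a) := by
  classical
  choose u₁ hu₁ using fun i => Ideal.Quotient.mk_surjective (I := I) (u₀ i)
  choose φ₁ hφ₁ using fun i => Ideal.Quotient.mk_surjective (I := I) (φ₀ i)
  have hu' : (Ideal.Quotient.mk I) ∘ u₁ = u₀ := funext hu₁
  have hmk : ∀ a b, (Ideal.Quotient.mk I) ∘ mul c a b = mul c₀ ((Ideal.Quotient.mk I) ∘ a) ((Ideal.Quotient.mk I) ∘ b) := fun a b => by rw [mk_mul, ← hc]
  let M := sandwich c
  have hMu : IsUnit M.det := isUnit_of_quotient hI (by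
    rw [map_det, map_sandwich, hc]; exact h₀.det)
  let s : ι × ι → B := M⁻¹.mulVec fun pz => φ₁ pz.2 * u₁ pz.1
  have hs : M.mulVec s = fun pz => φ₁ pz.2 * u₁ pz.1 := by
    rw [Matrix.mulVec_mulVec, Matrix.mul_nonsing_inv _ hMu, Matrix.one_mulVec]
  let W : ι → (ι → B) →ₗ[B] (ι → B) →ₗ[B] (ι → B) := fun z => (mul c).comp ((mul c).flip (Pi.single z 1))
  have hW : ∀ z v w, W z v w = mul c (mul c v (Pi.single z 1)) w := fun z v w => rfl
  have hMv : ∀ (t : ι × ι → B) (p z : ι), M.mulVec t (p, z) =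
      (∑ kl, t kl • W z (Pi.single kl.1 1) (Pi.single kl.2 1)) p := fun t p z => by
    simp only [hW, M, sandwich, Matrix.mulVec, dotProduct, Finset.sum_apply, Matrix.of_apply, Pi.smul_apply,
      smul_eq_mul]
    exact Finset.sum_congr rfl fun kl _ => mul_comm _ _
  have hS : ∀ z, (Ideal.Quotient.mk I) ∘ (∑ kl, s kl • W z (Pi.single kl.1 1) (Pi.single kl.2 1)) = (Ideal.Quotient.mk I) ∘ (φ₁ z • u₁) := fun z =>
    funext fun p => by simp only [Function.comp_apply, ← hMv, hs, Pi.smul_apply, smul_eq_mul]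
  refine ⟨s, ?_, fun a T hT => ?_⟩
  · have h1 : (Ideal.Quotient.mk I) ∘ (∑ kl, s kl • mul c (Pi.single kl.1 1) (Pi.single kl.2 1)) =
        (Ideal.Quotient.mk I) ∘ (∑ kl, s kl • mul c (mul c (Pi.single kl.1 1) u₁) (Pi.single kl.2 1)) := by
      rw [← sub_mem_small_iff, ← Finset.sum_sub_distrib]
      refine Submodule.sum_mem _ fun kl _ => ?_
      rw [← smul_sub]
      refine Submodule.smul_mem _ _ ((sub_mem_small_iff I).2 ?_)
      simp only [hmk, hu', h₀.mul_one]
    have h2 : (∑ kl, s kl • mul c (mul c (Pi.single kl.1 1) u₁) (Pi.single kl.2 1)) =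
        ∑ z, u₁ z • ∑ kl, s kl • W z (Pi.single kl.1 1) (Pi.single kl.2 1) := by
      simp only [hW, Finset.smul_sum]
      rw [Finset.sum_comm]
      refine Finset.sum_congr rfl fun kl _ => ?_
      conv_lhs => rw [pi_eq_sum_univ' u₁]
      simp only [map_sum, map_smul, LinearMap.sum_apply, LinearMap.smul_apply, Finset.smul_sum]
      exact Finset.sum_congr rfl fun z _ => smul_comm _ _ _
    rw [h1, h2]
    have h3 : (Ideal.Quotient.mk I) ∘ ∑ z, u₁ z • ∑ kl, s kl • W z (Pi.single kl.1 1) (Pi.single kl.2 1) =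
        (Ideal.Quotient.mk I) ∘ ∑ z, u₁ z • φ₁ z • u₁ := by
      rw [← sub_mem_small_iff, ← Finset.sum_sub_distrib]
      refine Submodule.sum_mem _ fun z _ => ?_
      rw [← smul_sub]
      exact Submodule.smul_mem _ _ ((sub_mem_small_iff I).2 (hS z))
    rw [h3]
    ext p
    simp only [Function.comp_apply, Finset.sum_apply, Pi.smul_apply, smul_eq_mul, map_sum, map_mul]
    calc ∑ z, (Ideal.Quotient.mk I) (u₁ z) * ((Ideal.Quotient.mk I) (φ₁ z) * (Ideal.Quotient.mk I) (u₁ p)) = (∑ z, φ₀ z * u₀ z) * u₀ p := by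
          rw [Finset.sum_mul]
          refine Finset.sum_congr rfl fun z _ => ?_
          rw [show (Ideal.Quotient.mk I) (u₁ z) = u₀ z from hu₁ z, show (Ideal.Quotient.mk I) (φ₁ z) = φ₀ z from hφ₁ z, show (Ideal.Quotient.mk I) (u₁ p) = u₀ p from hu₁ p]
          ring
      _ = u₀ p := by rw [h₀.dual, _root_.one_mul]
  · let D : ι × ι → B := fun pq => (∑ k, s (k, pq.2) * mul c a (Pi.single k 1) pq.1) -
      ∑ l, s (pq.1, l) * mul c (Pi.single l 1) a pq.2
    have hD : ∀ pz, M.mulVec D pz ∈ I := fun ⟨p, z⟩ => by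
      rw [hMv]
      refine (mem_small I).1 ?_ p
      simp only [D, sub_smul, Finset.sum_sub_distrib]
      rw [sum_left c s a (W z), sum_right c s a (W z), sub_mem_small_iff]
      have e1 : (Ideal.Quotient.mk I) ∘ (∑ kl, s kl • W z (mul c a (Pi.single kl.1 1)) (Pi.single kl.2 1)) =
          (Ideal.Quotient.mk I) ∘ mul c a (φ₁ z • u₁) := by
        rw [hmk, ← hS, ← hmk, map_sum, ← sub_mem_small_iff, ← Finset.sum_sub_distrib]
        refine Submodule.sum_mem _ fun kl _ => ?_
        rw [map_smul, ← smul_sub]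
        refine Submodule.smul_mem _ _ ((sub_mem_small_iff I).2 ?_)
        simp only [hW, hmk, h₀.assoc]
      have e2 : (Ideal.Quotient.mk I) ∘ (∑ kl, s kl • W z (Pi.single kl.1 1) (mul c (Pi.single kl.2 1) a)) =
          (Ideal.Quotient.mk I) ∘ mul c (φ₁ z • u₁) a := by
        rw [hmk, ← hS, ← hmk, map_sum, LinearMap.sum_apply, ← sub_mem_small_iff, ← Finset.sum_sub_distrib]
        refine Submodule.sum_mem _ fun kl _ => ?_
        rw [map_smul, LinearMap.smul_apply, ← smul_sub]
        refine Submodule.smul_mem _ _ ((sub_mem_small_iff I).2 ?_)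
        simp only [hW, hmk, h₀.assoc]
      rw [e1, e2, ← sub_mem_small_iff, map_smul, map_smul, LinearMap.smul_apply, ← smul_sub]
      refine Submodule.smul_mem _ _ ((sub_mem_small_iff I).2 ?_)
      rw [hmk, hmk, hu', h₀.one_mul, h₀.mul_one]
    have hDI : ∀ pq, D pq ∈ I := fun pq => by
      have h2 : D = M⁻¹.mulVec (M.mulVec D) := by
        rw [Matrix.mulVec_mulVec, Matrix.nonsing_inv_mul _ hMu, Matrix.one_mulVec]
      rw [h2]
      exact Ideal.sum_mem _ fun j _ => Ideal.mul_mem_left _ _ (hD j)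
    rw [← sum_left c s a T, ← sum_right c s a T, ← sub_eq_zero, ← Finset.sum_sub_distrib]
    refine Finset.sum_eq_zero fun pq _ => ?_
    rw [← sub_smul]
    ext j
    exact mul_eq_zero_of_mem I hI (hDI pq) ((mem_small I).1 (hT _ _) j)

/-- The defect of associativity. -/
noncomputable def defect (c : ι → ι → ι → B) (b d : ι → B) : (ι → B) →ₗ[B] (ι → B) :=
  (mul c).flip d ∘ₗ (mul c).flip b - (mul c).flip (mul c b d)

theorem defect_apply (c : ι → ι → ι → B) (a b d : ι → B) :
    defect c b d a = mul c (mul c a b) d - mul c a (mul c b d) := rfl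

theorem pentagon (c : ι → ι → ι → B) (y a b d : ι → B) :
    mul c y (defect c b d a) - defect c b d (mul c y a) + defect c (mul c a b) d y -
      defect c a (mul c b d) y + mul c (defect c a b y) d = 0 := by
  simp only [defect_apply, map_sub, LinearMap.sub_apply]
  abel

include hI in
/-- Correcting associativity. -/
theorem exists_assoc {c : ι → ι → ι → B} {c₀ : ι → ι → ι → B ⧸ I} {u₀ φ₀ : ι → B ⧸ I}
    (hc : (fun i j k => Ideal.Quotient.mk I (c i j k)) = c₀) (h₀ : IsStruct c₀ u₀ φ₀) :
    ∃ c' : ι → ι → ι → B, (fun i j k => Ideal.Quotient.mk I (c' i j k)) = c₀ ∧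
      ∀ a b d, mul c' (mul c' a b) d = mul c' a (mul c' b d) := by
  classical
  have hmk : ∀ a b, (Ideal.Quotient.mk I) ∘ mul c a b = mul c₀ ((Ideal.Quotient.mk I) ∘ a) ((Ideal.Quotient.mk I) ∘ b) := fun a b => by rw [mk_mul, ← hc]
  obtain ⟨s, hs1, hsT⟩ := exists_sepElem hI hc h₀
  have hf : ∀ a b d, defect c b d a ∈ Small I := fun a b d =>
    (sub_mem_small_iff I).2 (by
      simp only [LinearMap.comp_apply, LinearMap.flip_apply]
      rw [hmk, hmk, hmk, hmk, h₀.assoc])
  have hzero : ∀ a b z, z ∈ Small I → defect c b z a = 0 := fun a b z hz => by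
    rw [defect_apply]
    exact map_small_eq_zero I hI (mul c (mul c a b) - mul c a ∘ₗ mul c b) (fun v => hf a b v) hz
  let G : (ι → B) →ₗ[B] (ι → B) →ₗ[B] (ι → B) := LinearMap.mk₂ B
    (fun b d => ∑ kl, s kl • mul c (Pi.single kl.1 1) (defect c b d (Pi.single kl.2 1)))
    (fun x y d => by
      rw [← Finset.sum_add_distrib]
      refine Finset.sum_congr rfl fun kl _ => ?_
      rw [← smul_add, ← map_add]
      congr 2
      simp only [defect_apply, map_add, LinearMap.add_apply]
      abel)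
    (fun r x d => by
      rw [Finset.smul_sum]
      refine Finset.sum_congr rfl fun kl _ => ?_
      rw [smul_comm, ← map_smul]
      congr 2
      simp only [defect_apply, map_smul, LinearMap.smul_apply, smul_sub, map_sub])
    (fun b x y => by
      rw [← Finset.sum_add_distrib]
      refine Finset.sum_congr rfl fun kl _ => ?_
      rw [← smul_add, ← map_add]
      congr 2
      simp only [defect_apply, map_add]
      abel)
    (fun r b x => by
      rw [Finset.smul_sum]
      refine Finset.sum_congr rfl fun kl _ => ?_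
      rw [smul_comm, ← map_smul]
      congr 2
      simp only [defect_apply, map_smul, smul_sub, map_sub])
  have hG : ∀ b d, G b d = ∑ kl, s kl • mul c (Pi.single kl.1 1) (defect c b d (Pi.single kl.2 1)) := fun b d => rfl
  have hGs : ∀ b d, G b d ∈ Small I := fun b d => by
    rw [hG]
    exact Submodule.sum_mem _ fun kl _ => Submodule.smul_mem _ _ (mul_mem_small_right I c _ (hf _ b d))
  have hleft : ∀ a b d, mul c a (G b d) =
      ∑ kl, s kl • mul c (Pi.single kl.1 1) (defect c b d (mul c (Pi.single kl.2 1) a)) := fun a b d => by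
    have h := hsT a ((mul c).compl₂ (defect c b d)) (fun v w => mul_mem_small_right I c _ (hf w b d))
    simp only [LinearMap.compl₂_apply] at h
    rw [← h, hG, map_sum]
    refine Finset.sum_congr rfl fun kl _ => ?_
    rw [map_smul]
    congr 1
    exact (sub_eq_zero.1 ((defect_apply c a (Pi.single kl.1 1) _).symm.trans (hzero a _ _ (hf _ b d)))).symm
  have hright : ∀ a b d, mul c (G a b) d =
      ∑ kl, s kl • mul c (Pi.single kl.1 1) (mul c (defect c a b (Pi.single kl.2 1)) d) := fun a b d => by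
    rw [hG, map_sum, LinearMap.sum_apply]
    refine Finset.sum_congr rfl fun kl _ => ?_
    rw [map_smul, LinearMap.smul_apply]
    congr 1
    refine sub_eq_zero.1 ?_
    exact map_small_eq_zero I hI ((mul c).flip d ∘ₗ mul c (Pi.single kl.1 1) -
      mul c (Pi.single kl.1 1) ∘ₗ (mul c).flip d) (fun v => hf (Pi.single kl.1 1) v d) (hf _ a b)
  have hsum : ∀ z, z ∈ Small I → ∑ kl, s kl • mul c (Pi.single kl.1 1) (mul c (Pi.single kl.2 1) z) = z := by
    intro z hz
    have h6 : ∀ kl : ι × ι, mul c (Pi.single kl.1 1) (mul c (Pi.single kl.2 1) z) =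
        mul c (mul c (Pi.single kl.1 1) (Pi.single kl.2 1)) z := fun kl =>
      (sub_eq_zero.1 ((defect_apply c _ _ _).symm.trans (hzero _ _ z hz))).symm
    rw [show ∑ kl, s kl • mul c (Pi.single kl.1 1) (mul c (Pi.single kl.2 1) z) =
        mul c (∑ kl, s kl • mul c (Pi.single kl.1 1) (Pi.single kl.2 1)) z by
      simp only [h6, map_sum, map_smul, LinearMap.sum_apply, LinearMap.smul_apply]]
    refine sub_eq_zero.1 (map_small_eq_zero I hI (mul c (∑ kl, s kl • mul c (Pi.single kl.1 1) (Pi.single kl.2 1)) -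
      LinearMap.id) (fun w => ?_) hz)
    refine (sub_mem_small_iff I).2 ?_
    rw [LinearMap.id_apply, hmk, hs1, h₀.one_mul]
  have hcob : ∀ a b d, defect c b d a =
      mul c a (G b d) - G (mul c a b) d + G a (mul c b d) - mul c (G a b) d := by
    intro a b d
    rw [hleft, hright, hG, hG, ← Finset.sum_sub_distrib, ← Finset.sum_add_distrib, ← Finset.sum_sub_distrib]
    conv_lhs => rw [← hsum _ (hf a b d)]
    refine Finset.sum_congr rfl fun kl _ => ?_
    simp only [← smul_sub, ← smul_add, ← map_sub, ← map_add]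
    congr 2
    rw [← sub_eq_zero]
    refine Eq.trans ?_ (pentagon c (Pi.single kl.2 1) a b d)
    abel
  let γ : ι → ι → ι → B := fun i j => G (Pi.single i 1) (Pi.single j 1)
  have hγ : ∀ i j k, γ i j k ∈ I := fun i j k => (mem_small I).1 (hGs _ _) k
  have hmulγ : mul γ = G := LinearMap.pi_ext' fun i => LinearMap.ext_ring (LinearMap.pi_ext' fun j => LinearMap.ext_ring (by
    simp only [LinearMap.comp_apply, LinearMap.coe_single]
    rw [mul_single_single]))
  let c' : ι → ι → ι → B := fun i j k => c i j k + γ i j k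
  have hmul' : ∀ a b, mul c' a b = mul c a b + G a b := fun a b => by
    rw [← hmulγ]
    ext k
    simp [mul_apply, c', mul_add, Finset.sum_add_distrib]
  have hgz₁ : ∀ z, z ∈ Small I → ∀ b, G z b = 0 := fun z hz b =>
    map_small_eq_zero I hI (G.flip b) (fun v => hGs v b) hz
  have hgz₂ : ∀ a z, z ∈ Small I → G a z = 0 := fun a z hz =>
    map_small_eq_zero I hI (G a) (fun v => hGs a v) hz
  refine ⟨c', ?_, fun a b d => ?_⟩
  · funext i j k
    rw [map_add, show (Ideal.Quotient.mk I) (γ i j k) = 0 from Ideal.Quotient.eq_zero_iff_mem.2 (hγ i j k), add_zero, ← hc]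
  · have hc1 := hcob a b d
    simp only [hmul', map_add, LinearMap.add_apply, hgz₁ _ (hGs _ _), hgz₂ _ _ (hGs _ _), add_zero]
    rw [← sub_eq_zero]
    rw [defect_apply] at hc1
    linear_combination (norm := abel) hc1

include hI in
/-- Deformation: a structure over `B ⧸ I` with `I² = 0` lifts. -/
theorem exists_lift (c₀ : ι → ι → ι → B ⧸ I) (u₀ φ₀ : ι → B ⧸ I) (h₀ : IsStruct c₀ u₀ φ₀) :
    ∃ (c : ι → ι → ι → B) (u φ : ι → B), IsStruct c u φ ∧
      (∀ i j k, Ideal.Quotient.mk I (c i j k) = c₀ i j k) ∧ Ideal.Quotient.mk I ∘ u = u₀ ∧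
      Ideal.Quotient.mk I ∘ φ = φ₀ := by
  classical
  choose c₁ hc₁ using fun i j k => Ideal.Quotient.mk_surjective (I := I) (c₀ i j k)
  choose u₁ hu₁ using fun i => Ideal.Quotient.mk_surjective (I := I) (u₀ i)
  choose φ₁ hφ₁ using fun i => Ideal.Quotient.mk_surjective (I := I) (φ₀ i)
  obtain ⟨c, hc, hassoc⟩ := exists_assoc hI (funext fun i => funext fun j => funext fun k => hc₁ i j k) h₀
  have hu' : (Ideal.Quotient.mk I) ∘ u₁ = u₀ := funext hu₁
  have hmk : ∀ a b, (Ideal.Quotient.mk I) ∘ mul c a b = mul c₀ ((Ideal.Quotient.mk I) ∘ a) ((Ideal.Quotient.mk I) ∘ b) := fun a b => by rw [mk_mul, ← hc]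
  have hbij : ∀ (L : (ι → B) →ₗ[B] (ι → B)), (∀ v, L v - v ∈ Small I) → Function.Surjective L := fun L hL v => by
    refine ⟨v - (L v - v), ?_⟩
    have h := map_small_eq_zero I hI (L - LinearMap.id) (fun w => hL w) (hL v)
    simp only [LinearMap.sub_apply, LinearMap.id_apply, sub_eq_zero] at h
    rw [map_sub, h]
    abel
  have hLu : Function.Surjective (mul c u₁) := hbij _ fun v =>
    (sub_mem_small_iff I).2 (by rw [hmk, hu', h₀.one_mul])
  have hRu : Function.Surjective ((mul c).flip u₁) := hbij _ fun v =>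
    (sub_mem_small_iff I).2 (by rw [LinearMap.flip_apply, hmk, hu', h₀.mul_one])
  obtain ⟨e, he⟩ := hLu u₁
  obtain ⟨e', he'⟩ := hRu u₁
  rw [LinearMap.flip_apply] at he'
  have her : ∀ x, mul c x e = x := fun x => by
    obtain ⟨y, rfl⟩ := hRu x
    rw [LinearMap.flip_apply, hassoc, he]
  have hel : ∀ x, mul c e' x = x := fun x => by
    obtain ⟨y, rfl⟩ := hLu x
    rw [← hassoc, he']
  have hee : e' = e := (her e').symm.trans (hel e)
  have heu : (Ideal.Quotient.mk I) ∘ e = u₀ := by
    have h := congrArg (fun v => (Ideal.Quotient.mk I) ∘ v) he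
    simp only [hmk, hu', h₀.one_mul] at h
    exact h
  let q := ∑ i, φ₁ i * e i - 1
  have hq : q ∈ I := by
    rw [← Ideal.Quotient.eq_zero_iff_mem, map_sub, map_one, map_sum, sub_eq_zero, ← h₀.dual]
    refine Finset.sum_congr rfl fun i _ => ?_
    rw [map_mul]
    exact congrArg₂ (· * ·) (hφ₁ i) (congrFun heu i)
  refine ⟨c, e, fun i => φ₁ i * (1 - q), ⟨hassoc, fun x => hee ▸ hel x, her, ?_, ?_⟩,
    fun i j k => congrFun (congrFun (congrFun hc i) j) k, heu, funext fun i => ?_⟩
  · calc ∑ i, φ₁ i * (1 - q) * e i = (q + 1) * (1 - q) := by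
          rw [sub_add_cancel, Finset.sum_mul]
          exact Finset.sum_congr rfl fun i _ => by ring
      _ = 1 := by linear_combination -(mul_eq_zero_of_mem I hI hq hq)
  · refine isUnit_of_quotient hI ?_
    rw [map_det, map_sandwich, hc]
    exact h₀.det
  · rw [Function.comp_apply, map_mul, map_sub, map_one, Ideal.Quotient.eq_zero_iff_mem.2 hq, sub_zero, _root_.mul_one]
    exact hφ₁ i

end Deformation

end Groth.Agent.CSA.AlgStruct
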