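import Groth.Agent.CSA.AlgStruct
import Groth.Agent.Hensel.SmoothLift
import Groth.Agent.Hensel.Local
import Mathlib.RingTheory.MvPolynomial.Tower

/-!
The affine scheme of algebra structures is smooth; lifting over henselian local rings.
-/

set_option autoImplicit false
set_option linter.style.haveILetI false

universe u

namespace Groth.Agent.CSA.AlgStruct

variable {ι : Type} [Fintype ι] [DecidableEq ι]

/-- Variables: structure constants, unit, functional, inverse determinant. -/
abbrev Vars (ι : Type) : Type := (ι × ι × ι) ⊕ (ι ⊕ (ι ⊕ Unit))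

variable (R : Type u) [CommRing R] (ι)

noncomputable def uc : ι → ι → ι → MvPolynomial (Vars ι) R := fun i j k => MvPolynomial.X (Sum.inl (i, j, k))

noncomputable def uu : ι → MvPolynomial (Vars ι) R := fun i => MvPolynomial.X (Sum.inr (Sum.inl i))

noncomputable def uphi : ι → MvPolynomial (Vars ι) R := fun i => MvPolynomial.X (Sum.inr (Sum.inr (Sum.inl i)))

noncomputable def uw : MvPolynomial (Vars ι) R := MvPolynomial.X (Sum.inr (Sum.inr (Sum.inr ())))

/-- The equations. -/
noncomputable def eqs : Set (MvPolynomial (Vars ι) R) :=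
  (Set.range fun x : ι × ι × ι × ι =>
    mul (uc ι R) (mul (uc ι R) (Pi.single x.1 1) (Pi.single x.2.1 1)) (Pi.single x.2.2.1 1) x.2.2.2 -
      mul (uc ι R) (Pi.single x.1 1) (mul (uc ι R) (Pi.single x.2.1 1) (Pi.single x.2.2.1 1)) x.2.2.2) ∪
  ((Set.range fun x : ι × ι =>
    mul (uc ι R) (uu ι R) (Pi.single x.1 1) x.2 - (Pi.single x.1 1 : ι → MvPolynomial (Vars ι) R) x.2) ∪
  ((Set.range fun x : ι × ι =>
    mul (uc ι R) (Pi.single x.1 1) (uu ι R) x.2 - (Pi.single x.1 1 : ι → MvPolynomial (Vars ι) R) x.2) ∪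
  {∑ i, uphi ι R i * uu ι R i - 1, uw ι R * (sandwich (uc ι R)).det - 1}))

/-- The coordinate ring. -/
abbrev Coord : Type u := MvPolynomial (Vars ι) R ⧸ Ideal.span (eqs ι R)

variable {ι R}

theorem hom_isStruct {B : Type u} [CommRing B] [Algebra R B] (ψ : Coord ι R →ₐ[R] B) :
    let g : MvPolynomial (Vars ι) R →+* B := ψ.toRingHom.comp (Ideal.Quotient.mk _)
    IsStruct (fun i j k => g (uc ι R i j k)) (g ∘ uu ι R) (g ∘ uphi ι R) := by
  intro g
  have h0 : ∀ p ∈ eqs ι R, g p = 0 := fun p hp => by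
    show ψ (Ideal.Quotient.mk _ p) = 0
    rw [Ideal.Quotient.eq_zero_iff_mem.2 (Ideal.subset_span hp), map_zero]
  refine ⟨assoc_of_single _ fun i j l => ?_, fun a => ?_, fun a => ?_, ?_, ?_⟩
  · simp only [← map_single g, map_mul_apply]
    funext m
    exact sub_eq_zero.1 ((map_sub g _ _).symm.trans (h0 _ (Or.inl ⟨(i, j, l, m), rfl⟩)))
  · refine LinearMap.congr_fun (g := LinearMap.id) (LinearMap.pi_ext' fun i => LinearMap.ext_ring ?_) a
    simp only [LinearMap.comp_apply, LinearMap.coe_single, LinearMap.id_apply, ← map_single g, map_mul_apply]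
    funext m
    exact sub_eq_zero.1 ((map_sub g _ _).symm.trans (h0 _ (Or.inr (Or.inl ⟨(i, m), rfl⟩))))
  · refine LinearMap.congr_fun (f := (mul _).flip (g ∘ uu ι R)) (g := LinearMap.id)
      (LinearMap.pi_ext' fun i => LinearMap.ext_ring ?_) a
    simp only [LinearMap.comp_apply, LinearMap.coe_single, LinearMap.id_apply, LinearMap.flip_apply, ← map_single g,
      map_mul_apply]
    funext m
    exact sub_eq_zero.1 ((map_sub g _ _).symm.trans (h0 _ (Or.inr (Or.inr (Or.inl ⟨(i, m), rfl⟩)))))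
  · have h := h0 _ (Or.inr (Or.inr (Or.inr (Or.inl rfl))))
    rw [map_sub, map_one, map_sum, sub_eq_zero] at h
    rw [← h]
    exact Finset.sum_congr rfl fun i _ => (map_mul g _ _).symm
  · have h := h0 _ (Or.inr (Or.inr (Or.inr (Or.inr rfl))))
    rw [map_sub, map_one, map_mul, map_det, map_sandwich, sub_eq_zero] at h
    exact IsUnit.of_mul_eq_one_right _ h

theorem exists_hom {B : Type u} [CommRing B] [Algebra R B] (c : ι → ι → ι → B) (u φ : ι → B) (h : IsStruct c u φ) :
    ∃ ψ : Coord ι R →ₐ[R] B, (∀ i j k, ψ (Ideal.Quotient.mk _ (uc ι R i j k)) = c i j k) ∧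
      (∀ i, ψ (Ideal.Quotient.mk _ (uu ι R i)) = u i) ∧
      (∀ i, ψ (Ideal.Quotient.mk _ (uphi ι R i)) = φ i) := by
  let val : Vars ι → B := fun v => match v with
    | Sum.inl x => c x.1 x.2.1 x.2.2
    | Sum.inr (Sum.inl i) => u i
    | Sum.inr (Sum.inr (Sum.inl i)) => φ i
    | Sum.inr (Sum.inr (Sum.inr _)) => ↑(h.det.unit⁻¹)
  let g : MvPolynomial (Vars ι) R →ₐ[R] B := MvPolynomial.aeval val
  have hc : (fun i j k => g.toRingHom (uc ι R i j k)) = c := by
    funext i j k
    exact MvPolynomial.aeval_X val _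
  have hu : g.toRingHom ∘ uu ι R = u := funext fun i => MvPolynomial.aeval_X val _
  have hphi : g.toRingHom ∘ uphi ι R = φ := funext fun i => MvPolynomial.aeval_X val _
  have h0 : ∀ p ∈ Ideal.span (eqs ι R), g p = 0 := by
    intro p hp
    induction hp using Submodule.span_induction with
    | zero => exact map_zero g
    | add x y _ _ hx hy => rw [map_add, hx, hy, add_zero]
    | smul r x _ hx => rw [smul_eq_mul, map_mul, hx, mul_zero]
    | mem p hp =>
      have hev : ∀ (v : ι → MvPolynomial (Vars ι) R) (m : ι), g (v m) = (g.toRingHom ∘ v) m := fun v m => rfl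
      rcases hp with ⟨⟨i, j, l, m⟩, rfl⟩ | ⟨⟨i, m⟩, rfl⟩ | ⟨⟨i, m⟩, rfl⟩ | rfl | rfl
      · rw [map_sub, hev, hev, ← map_mul_apply, ← map_mul_apply, ← map_mul_apply, ← map_mul_apply, hc, h.assoc,
          sub_self]
      · rw [map_sub, hev, hev, ← map_mul_apply, hc, hu, h.one_mul, sub_self]
      · rw [map_sub, hev, hev, ← map_mul_apply, hc, hu, h.mul_one, sub_self]
      · rw [map_sub, map_one, map_sum, sub_eq_zero, ← h.dual]
        refine Finset.sum_congr rfl fun i _ => ?_
        rw [map_mul]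
        exact congrArg₂ (· * ·) (congrFun hphi i) (congrFun hu i)
      · rw [map_sub, map_one, map_mul, sub_eq_zero]
        show g.toRingHom (uw ι R) * g.toRingHom (sandwich (uc ι R)).det = 1
        rw [map_det, map_sandwich, hc, show g.toRingHom (uw ι R) = ↑(h.det.unit⁻¹) from MvPolynomial.aeval_X val _]
        exact h.det.val_inv_mul
  exact ⟨Ideal.Quotient.liftₐ _ g h0, fun i j k => congrFun (congrFun (congrFun hc i) j) k,
    fun i => congrFun hu i, fun i => congrFun hphi i⟩

instance smooth : Algebra.Smooth R (Coord ι R) := by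
  have hfin : (eqs ι R).Finite := by
    refine Set.Finite.union (Set.finite_range _) (Set.Finite.union (Set.finite_range _)
      (Set.Finite.union (Set.finite_range _) ?_))
    exact (Set.finite_singleton _).insert _
  have hfp : Algebra.FinitePresentation R (Coord ι R) :=
    Algebra.FinitePresentation.quotient ⟨hfin.toFinset, by rw [hfin.coe_toFinset]⟩
  refine ⟨Algebra.FormallySmooth.of_comp_surjective fun B _ _ I hI ψ => ?_, hfp⟩
  obtain ⟨c, u, φ, h, hc, hu, hφ⟩ := exists_lift hI _ _ _ (hom_isStruct ψ)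
  obtain ⟨τ, hτc, hτu, hτφ⟩ := exists_hom (R := R) c u φ h
  refine ⟨τ, Ideal.Quotient.algHom_ext _ (MvPolynomial.algHom_ext fun v => ?_)⟩
  have hτw : ∀ (σ : Coord ι R →ₐ[R] B ⧸ I), σ (Ideal.Quotient.mk _ (uw ι R)) *
      σ (Ideal.Quotient.mk _ (sandwich (uc ι R)).det) = 1 := fun σ => by
    rw [← map_mul, ← map_mul, ← map_one σ, ← map_one (Ideal.Quotient.mk (Ideal.span (eqs ι R)))]
    exact congrArg σ (Ideal.Quotient.eq.2 (Ideal.subset_span (Or.inr (Or.inr (Or.inr (Or.inr rfl))))))
  have hcc : ∀ i j k, ((Ideal.Quotient.mkₐ R I).comp τ) (Ideal.Quotient.mk _ (uc ι R i j k)) =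
      ψ (Ideal.Quotient.mk _ (uc ι R i j k)) := fun i j k => by
    show Ideal.Quotient.mk I (τ _) = _
    rw [hτc, hc]; rfl
  rcases v with ⟨i, j, k⟩ | i | i | ⟨⟩
  · exact hcc i j k
  · show Ideal.Quotient.mk I (τ (Ideal.Quotient.mk _ (uu ι R i))) = _
    rw [hτu]; exact congrFun hu i
  · show Ideal.Quotient.mk I (τ (Ideal.Quotient.mk _ (uphi ι R i))) = _
    rw [hτφ]; exact congrFun hφ i
  · show ((Ideal.Quotient.mkₐ R I).comp τ) (Ideal.Quotient.mk _ (uw ι R)) = ψ (Ideal.Quotient.mk _ (uw ι R))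
    have hd : ((Ideal.Quotient.mkₐ R I).comp τ) (Ideal.Quotient.mk _ (sandwich (uc ι R)).det) =
        ψ (Ideal.Quotient.mk _ (sandwich (uc ι R)).det) := by
      show ((((Ideal.Quotient.mkₐ R I).comp τ).toRingHom.comp (Ideal.Quotient.mk _)) (sandwich (uc ι R)).det) =
        (ψ.toRingHom.comp (Ideal.Quotient.mk _)) (sandwich (uc ι R)).det
      rw [map_det, map_det, map_sandwich, map_sandwich]
      congr 1
      exact congrArg sandwich (funext fun i => funext fun j => funext fun k => hcc i j k)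
    have h1 := hτw ((Ideal.Quotient.mkₐ R I).comp τ)
    have h2 := hτw ψ
    rw [hd] at h1
    exact (IsUnit.of_mul_eq_one_right _ h2).mul_right_cancel (h1.trans h2.symm)

/-- Lifting a structure over a henselian local ring. -/
theorem exists_lift_henselian [HenselianLocalRing R]
    (c₀ : ι → ι → ι → IsLocalRing.ResidueField R) (u₀ φ₀ : ι → IsLocalRing.ResidueField R)
    (h₀ : IsStruct c₀ u₀ φ₀) :
    ∃ (c : ι → ι → ι → R) (u φ : ι → R), IsStruct c u φ ∧
      (∀ i j k, IsLocalRing.residue R (c i j k) = c₀ i j k) ∧ IsLocalRing.residue R ∘ u = u₀ := by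
  have := Groth.Agent.Hensel.henselianRing_maximalIdeal R
  obtain ⟨σ, hσc, hσu, -⟩ := exists_hom (R := R) (B := IsLocalRing.ResidueField R) c₀ u₀ φ₀ h₀
  obtain ⟨τ, hτ⟩ := Groth.Agent.Hensel.exists_algHom_lift_smooth (A := R) (I := IsLocalRing.maximalIdeal R)
    (Coord ι R) σ
  refine ⟨_, _, _, hom_isStruct τ, fun i j k => ?_, funext fun i => ?_⟩
  · exact (AlgHom.congr_fun hτ _).trans (hσc i j k)
  · exact (AlgHom.congr_fun hτ _).trans (hσu i)

end Groth.Agent.CSA.AlgStruct
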