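import Groth.Agent.CSA.Subfield
import Groth.Prelude.Def_GSzCSA
import Mathlib.LinearAlgebra.Charpoly.BaseChange
import Mathlib.LinearAlgebra.Charpoly.ToMatrix
import Mathlib.LinearAlgebra.Matrix.Charpoly.Coeff
import Mathlib.RingTheory.Norm.Basic
import Mathlib.RingTheory.Trace.Basic
import Mathlib.FieldTheory.Galois.Basic
import Mathlib.RingTheory.AlgebraTower
import Mathlib.RingTheory.Polynomial.RationalRoot

/-!
Reduced characteristic polynomial, reduced norm and trace.
-/

set_option autoImplicit false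

universe u v w x

open scoped TensorProduct Kronecker Polynomial

namespace Groth.Agent.CSA

theorem charpoly_kronecker_one {R : Type*} [CommRing R] {m n : Type*} [Fintype m] [DecidableEq m] [Fintype n]
    [DecidableEq n] (M : Matrix m m R) :
    (M ⊗ₖ (1 : Matrix n n R)).charpoly = M.charpoly ^ Fintype.card n := by
  have h : (M ⊗ₖ (1 : Matrix n n R)).charmatrix = M.charmatrix ⊗ₖ (1 : Matrix n n R[X]) := by
    ext ⟨i, i'⟩ ⟨j, j'⟩
    by_cases h1 : i = j <;> by_cases h2 : i' = j' <;>
      simp [Matrix.charmatrix_apply, Matrix.kroneckerMap_apply, Matrix.diagonal_apply, h1, h2]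
  rw [Matrix.charpoly, h, Matrix.det_kronecker, Matrix.det_one, one_pow, mul_one, Matrix.charpoly]

theorem charpoly_mulLeft_matrix {L : Type*} [Field L] {n : ℕ} (M : Matrix (Fin n) (Fin n) L) :
    (LinearMap.mulLeft L M : Matrix (Fin n) (Fin n) L →ₗ[L] Matrix (Fin n) (Fin n) L).charpoly = M.charpoly ^ n := by
  set B := Matrix.stdBasis L (Fin n) (Fin n)
  have h : LinearMap.toMatrix B B (LinearMap.mulLeft L M) = M ⊗ₖ (1 : Matrix (Fin n) (Fin n) L) := by
    ext ⟨i, i'⟩ ⟨j, j'⟩
    rw [LinearMap.toMatrix_apply]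
    by_cases hij : i' = j' <;>
      simp [B, Matrix.stdBasis_eq_single, Matrix.kroneckerMap_apply, hij, Matrix.mul_apply, Matrix.single_apply,
        Matrix.stdBasis, Pi.single_apply, ite_apply]
  rw [← LinearMap.charpoly_toMatrix _ B, h, charpoly_kronecker_one, Fintype.card_fin]

theorem eq_of_monic_pow_eq {L : Type*} [Field L] {P Q : L[X]} (hP : P.Monic) (hQ : Q.Monic) {n : ℕ} (hn : n ≠ 0)
    (h : P ^ n = Q ^ n) : P = Q :=
  Polynomial.eq_of_monic_of_associated hP hQ
    (associated_of_dvd_dvd ((IsIntegrallyClosed.pow_dvd_pow_iff hn).1 h.dvd) ((IsIntegrallyClosed.pow_dvd_pow_iff hn).1 h.symm.dvd))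

variable {k : Type u} [Field k] {A : Type v} [Ring A] [Algebra k A]

/-- Two matrix representations of a central simple algebra are conjugate. -/
theorem hom_conj [Algebra.IsCentral k A] [IsSimpleRing A] {L : Type w} [Field L] [Algebra k L] {n : ℕ}
    (hn : n ≠ 0) (f g : A →ₐ[k] Matrix (Fin n) (Fin n) L) :
    ∃ u : (Matrix (Fin n) (Fin n) L)ˣ, ∀ a, f a = (u : Matrix (Fin n) (Fin n) L) * g a * ((u⁻¹ : _ˣ) : Matrix (Fin n) (Fin n) L) := by
  have : IsSimpleRing (L ⊗[k] A) := isSimpleRing_tensor_right
  have : NeZero n := ⟨hn⟩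
  let lift' : (A →ₐ[k] Matrix (Fin n) (Fin n) L) → (L ⊗[k] A →ₐ[L] Matrix (Fin n) (Fin n) L) := fun h =>
    Algebra.TensorProduct.lift (Algebra.ofId L _) h fun c a => Algebra.commutes c _
  obtain ⟨u, hu⟩ := skolemNoether (lift' f) (lift' g)
  have e : ∀ (h : A →ₐ[k] Matrix (Fin n) (Fin n) L) (a : A), lift' h (1 ⊗ₜ[k] a) = h a := fun h a =>
    (Algebra.TensorProduct.lift_tmul _ _ _ _ _).trans (by rw [map_one, one_mul])
  exact ⟨u, fun a => by
    have h1 := hu (1 ⊗ₜ[k] a)
    rwa [e, e] at h1⟩

theorem charpoly_hom_eq [Algebra.IsCentral k A] [IsSimpleRing A] {L : Type w} [Field L] [Algebra k L] {n : ℕ}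
    (f g : A →ₐ[k] Matrix (Fin n) (Fin n) L) (a : A) : (f a).charpoly = (g a).charpoly := by
  rcases eq_or_ne n 0 with rfl | hn
  · rw [Subsingleton.elim (f a) (g a)]
  obtain ⟨u, hu⟩ := hom_conj hn f g
  rw [hu a, Matrix.coe_units_inv, Matrix.charpoly_units_conj]

/-- The characteristic polynomial of left multiplication is the `n`-th power of that of the representing matrix. -/
theorem charpoly_lmul_map [Algebra.IsCentral k A] [IsSimpleRing A] [FiniteDimensional k A]
    {L : Type w} [Field L] [Algebra k L] {n : ℕ} (hn : Module.finrank k A = n ^ 2)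
    (f : A →ₐ[k] Matrix (Fin n) (Fin n) L) (a : A) :
    (Algebra.lmul k A a).charpoly.map (algebraMap k L) = (f a).charpoly ^ n := by
  have hn0 : n ≠ 0 := by
    rintro rfl
    have := Module.finrank_pos (R := k) (M := A)
    simp [hn] at this
  have : IsSimpleRing (L ⊗[k] A) := isSimpleRing_tensor_right
  have : NeZero n := ⟨hn0⟩
  let F : L ⊗[k] A →ₐ[L] Matrix (Fin n) (Fin n) L :=
    Algebra.TensorProduct.lift (Algebra.ofId L _) f fun c a => Algebra.commutes c _
  have hinj : Function.Injective F := F.toRingHom.injective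
  have hdim : Module.finrank L (L ⊗[k] A) = Module.finrank L (Matrix (Fin n) (Fin n) L) := by
    rw [Module.finrank_baseChange, Module.finrank_matrix, Module.finrank_self, hn]
    simp [sq]
  let e : L ⊗[k] A ≃ₗ[L] Matrix (Fin n) (Fin n) L :=
    LinearEquiv.ofBijective F.toLinearMap
      ⟨hinj, (LinearMap.injective_iff_surjective_of_finrank_eq_finrank (f := F.toLinearMap) hdim).1 hinj⟩
  have hconj : e.conj ((Algebra.lmul k A a).baseChange L) = LinearMap.mulLeft L (f a) := by
    refine LinearMap.ext fun M => ?_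
    obtain ⟨x, rfl⟩ := e.surjective M
    rw [LinearEquiv.conj_apply_apply, LinearEquiv.symm_apply_apply]
    show F ((Algebra.lmul k A a).baseChange L x) = f a * F x
    have : (Algebra.lmul k A a).baseChange L x = (1 ⊗ₜ[k] a) * x := by
      induction x using TensorProduct.induction_on with
      | zero => simp
      | tmul c b => simp
      | add x y hx hy => rw [map_add, mul_add, hx, hy]
    rw [this, map_mul]
    congr 1
    exact (Algebra.TensorProduct.lift_tmul _ _ _ _ _).trans (by rw [map_one, one_mul])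
  rw [← LinearMap.charpoly_baseChange (A := L), ← LinearEquiv.charpoly_conj e, hconj, charpoly_mulLeft_matrix]

theorem charpoly_of_isUnit_norm [Algebra.IsCentral k A] [IsSimpleRing A] [FiniteDimensional k A]
    {L : Type w} [Field L] [Algebra k L] {n : ℕ} (hn : Module.finrank k A = n ^ 2)
    (f : A →ₐ[k] Matrix (Fin n) (Fin n) L) (a : A) : IsUnit a ↔ (f a).det ≠ 0 := by
  refine ⟨fun h => ((Matrix.isUnit_iff_isUnit_det (f a)).1 (h.map f)).ne_zero, fun h => ?_⟩
  have := IsArtinianRing.of_finite k A
  have hu : IsUnit (f a) := (Matrix.isUnit_iff_isUnit_det (f a)).2 (isUnit_iff_ne_zero.2 h)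
  have hinj : Function.Injective (LinearMap.mulLeft k a) := fun x y hxy => by
    have hfinj : Function.Injective f := by
      have : NeZero n := ⟨by rintro rfl; have := Module.finrank_pos (R := k) (M := A); simp [hn] at this⟩
      exact f.toRingHom.injective
    refine hfinj (hu.mul_left_cancel ?_)
    rw [← map_mul, ← map_mul]
    exact congrArg f hxy
  obtain ⟨b, hb⟩ := LinearMap.injective_iff_surjective.1 hinj 1
  exact IsUnit.of_mul_eq_one b hb

section RedNorm

variable [Algebra.IsCentral k A] [IsSimpleRing A] [FiniteDimensional k A]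

theorem exists_hom_of_isRedNorm {N : A →* k} (hN : CSAGal.IsRedNorm k A N) :
    ∃ f : A →ₐ[k] Matrix (Fin (deg k A)) (Fin (deg k A)) (AlgebraicClosure k),
      ∀ a, algebraMap k (AlgebraicClosure k) (N a) = (f a).det := by
  obtain ⟨K, _, _, _, n, φ, hφ⟩ := hN
  obtain rfl := splits_size k A φ
  let σ : K →ₐ[k] AlgebraicClosure k := IsAlgClosed.lift
  refine ⟨σ.mapMatrix.comp (splittingHom k A φ), fun a => ?_⟩
  rw [AlgHom.comp_apply, splittingHom_apply, ← AlgHom.map_det, ← hφ, σ.commutes]

theorem exists_hom_of_isRedTrace {T : A →+ k} (hT : CSAGal.IsRedTrace k A T) :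
    ∃ f : A →ₐ[k] Matrix (Fin (deg k A)) (Fin (deg k A)) (AlgebraicClosure k),
      ∀ a, algebraMap k (AlgebraicClosure k) (T a) = (f a).trace := by
  obtain ⟨K, _, _, _, n, φ, hφ⟩ := hT
  obtain rfl := splits_size k A φ
  let σ : K →ₐ[k] AlgebraicClosure k := IsAlgClosed.lift
  refine ⟨σ.mapMatrix.comp (splittingHom k A φ), fun a => ?_⟩
  rw [AlgHom.comp_apply, splittingHom_apply, AlgHom.mapMatrix_apply, ← AddMonoidHom.map_trace σ, ← hφ, σ.commutes]

/-- The reduced norm can be computed by any representation of degree `deg A`. -/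
theorem redNorm_eq_det {N : A →* k} (hN : CSAGal.IsRedNorm k A N) {L : Type w} [Field L] [Algebra k L] {n : ℕ}
    (hn : Module.finrank k A = n ^ 2) (f : A →ₐ[k] Matrix (Fin n) (Fin n) L) (a : A) :
    algebraMap k L (N a) = (f a).det := by
  obtain ⟨K, _, _, _, m, φ, hφ⟩ := hN
  obtain rfl : n = m := by rw [splits_size k A φ, deg_eq_of_finrank k A hn]
  let σ : K →ₐ[k] AlgebraicClosure L := IsAlgClosed.lift
  let τ : L →ₐ[k] AlgebraicClosure L := IsScalarTower.toAlgHom k L _
  apply τ.toRingHom.injective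
  show τ (algebraMap k L (N a)) = τ (f a).det
  rw [τ.commutes, ← σ.commutes, hφ, AlgHom.map_det, AlgHom.map_det]
  have h := charpoly_hom_eq (σ.mapMatrix.comp (splittingHom k A φ)) (τ.mapMatrix.comp f) a
  rw [Matrix.det_eq_sign_charpoly_coeff, Matrix.det_eq_sign_charpoly_coeff]
  exact congrArg (fun P => (-1) ^ Fintype.card (Fin n) * Polynomial.coeff P 0) h

theorem exists_redNorm : ∃ N : A →* k, CSAGal.IsRedNorm k A N := by
  obtain ⟨L, _, _, _, _, n, hn0, ⟨e⟩⟩ := exists_galois_splitting k A
  set f := splittingHom k A e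
  have hfix : ∀ a, (f a).det ∈ Set.range (algebraMap k L) := fun a => by
    obtain ⟨c, hc⟩ := IntermediateField.mem_bot.1 ((IsGalois.mem_bot_iff_fixed ((f a).det)).2 fun σ => by
      have h := charpoly_hom_eq (σ.toAlgHom.mapMatrix.comp f) f a
      show σ.toAlgHom (f a).det = (f a).det
      rw [AlgHom.map_det, Matrix.det_eq_sign_charpoly_coeff, Matrix.det_eq_sign_charpoly_coeff]
      exact congrArg (fun P => (-1) ^ Fintype.card (Fin n) * Polynomial.coeff P 0) h)
    exact ⟨c, hc⟩
  choose N hN using hfix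
  let M : A →* k :=
    { toFun := N
      map_one' := (algebraMap k L).injective (by simp [hN])
      map_mul' := fun a b => (algebraMap k L).injective (by simp [hN]) }
  exact ⟨M, L, inferInstance, inferInstance, inferInstance, n, e, fun a => hN a⟩

end RedNorm

/-- Left multiplication by an element of a subfield of degree `n`. -/
theorem charpoly_lmul_subfield [FiniteDimensional k A] [Nontrivial A] {K : Type w} [Field K] [Algebra k K]
    [FiniteDimensional k K] {n : ℕ}
    (hA : Module.finrank k A = n ^ 2) (hK : Module.finrank k K = n) (ι : K →ₐ[k] A) (x : K) :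
    (Algebra.lmul k A (ι x)).charpoly = (Algebra.lmul k K x).charpoly ^ n := by
  letI : Module K A := Module.compHom A ι.toRingHom
  have hs : ∀ (c : K) (y : A), c • y = ι c * y := fun _ _ => rfl
  have : IsScalarTower k K A := ⟨fun r c y => by rw [hs, hs, map_smul, smul_mul_assoc]⟩
  have : FiniteDimensional K A := Module.Finite.of_restrictScalars_finite k K A
  have hr : Module.finrank K A = n := by
    have h := Module.finrank_mul_finrank k K A
    rw [hK, hA, sq] at h
    exact Nat.eq_of_mul_eq_mul_left (hK ▸ Module.finrank_pos) h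
  let bK := Module.finBasis k K
  let bA := Module.finBasis K A
  have h : LinearMap.toMatrix (bK.smulTower bA) (bK.smulTower bA) (Algebra.lmul k A (ι x)) =
      LinearMap.toMatrix bK bK (Algebra.lmul k K x) ⊗ₖ (1 : Matrix _ _ k) := by
    ext ⟨i, i'⟩ ⟨j, j'⟩
    rw [LinearMap.toMatrix_apply, Module.Basis.smulTower_apply]
    have : (Algebra.lmul k A (ι x)) (bK j • bA j') = (x * bK j) • bA j' := by
      show ι x * (bK j • bA j') = _
      rw [hs, hs, map_mul, mul_assoc]
    rw [this, Module.Basis.smulTower_repr, map_smul, Finsupp.smul_apply, Matrix.kroneckerMap_apply,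
      LinearMap.toMatrix_apply, Module.Basis.repr_self, Finsupp.single_apply]
    by_cases h : j' = i'
    · subst h; simp [Matrix.one_apply]
    · simp [Matrix.one_apply, h, Ne.symm h]
  rw [← LinearMap.charpoly_toMatrix _ (bK.smulTower bA), h, charpoly_kronecker_one, Fintype.card_fin, hr,
    LinearMap.charpoly_toMatrix]

end Groth.Agent.CSA
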