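import Groth.Agent.CSA.BrauerSplit
import Groth.Agent.CSA.RedNorm
import Mathlib.GroupTheory.Perm.Sign
import Mathlib.Data.Finset.Sort
import Mathlib.FieldTheory.Galois.Basic
import Mathlib.LinearAlgebra.Matrix.Module

/-!
Galois descent of the antisymmetrizer: the index of a tensor power divides a binomial coefficient.
-/

set_option autoImplicit false

universe u v w x

open scoped TensorProduct

namespace Groth.Agent.CSA

section Matrices

variable (R : Type u) [CommRing R] (d r : ℕ)

/-- The antisymmetrizer on the `r`-th tensor power of `R^d`. -/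
def asym : Matrix (Fin r → Fin d) (Fin r → Fin d) R :=
  Matrix.of fun i j => ∑ σ : Equiv.Perm (Fin r), if j = i ∘ σ then ((Equiv.Perm.sign σ : ℤ) : R) else 0

variable {R d r}

/-- Kronecker power of matrices. -/
def kpow (u : Fin r → Matrix (Fin d) (Fin d) R) : Matrix (Fin r → Fin d) (Fin r → Fin d) R :=
  Matrix.of fun i j => ∏ t, u t (i t) (j t)

theorem kpow_mul (u v : Fin r → Matrix (Fin d) (Fin d) R) : kpow (fun t => u t * v t) = kpow u * kpow v := by
  ext i j
  simp only [kpow, Matrix.of_apply, Matrix.mul_apply, ← Finset.prod_mul_distrib]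
  exact Fintype.prod_sum (fun t l => u t (i t) l * v t l (j t))

theorem kpow_one : kpow (fun _ : Fin r => (1 : Matrix (Fin d) (Fin d) R)) = 1 := by
  ext i j
  simp only [kpow, Matrix.of_apply, Matrix.one_apply]
  split_ifs with h
  · simp [h]
  · obtain ⟨t, ht⟩ := Function.ne_iff.1 h
    exact Finset.prod_eq_zero (Finset.mem_univ t) (if_neg ht)

theorem asym_commute (u : Matrix (Fin d) (Fin d) R) :
    asym R d r * kpow (fun _ => u) = kpow (fun _ => u) * asym R d r := by
  ext i j
  simp only [Matrix.mul_apply, asym, kpow, Matrix.of_apply, Finset.sum_mul, Finset.mul_sum]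
  rw [Finset.sum_comm]
  conv_rhs => rw [Finset.sum_comm]
  refine Finset.sum_congr rfl fun σ _ => ?_
  rw [Fintype.sum_eq_single (i ∘ σ) (fun l hl => by rw [if_neg hl, zero_mul]),
    Fintype.sum_eq_single (j ∘ σ.symm) (fun l hl => by
      rw [if_neg (fun h => hl (by rw [h]; funext t; simp)), mul_zero]),
    if_pos rfl, if_pos (by funext t; simp), mul_comm]
  congr 1
  exact Fintype.prod_equiv σ _ _ fun t => by simp

theorem asym_row_comp (i : Fin r → Fin d) (π : Equiv.Perm (Fin r)) :
    asym R d r (i ∘ π) = ((Equiv.Perm.sign π : ℤ) : R) • asym R d r i := by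
  ext j
  simp only [asym, Matrix.of_apply, Pi.smul_apply, smul_eq_mul, Finset.mul_sum]
  refine Fintype.sum_equiv (Equiv.mulLeft π) _ _ fun σ => ?_
  simp only [Equiv.coe_mulLeft, map_mul, Units.val_mul, Int.cast_mul, Equiv.Perm.coe_mul, Function.comp_assoc,
    mul_ite, mul_zero]
  rw [← mul_assoc, ← Int.cast_mul, ← Units.val_mul, Int.units_mul_self, Units.val_one, Int.cast_one, one_mul]

theorem asym_row_eq_zero (i : Fin r → Fin d) (hi : ¬ Function.Injective i) : asym R d r i = 0 := by
  obtain ⟨s, t, hst, hne⟩ := Function.not_injective_iff.1 hi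
  ext j
  simp only [asym, Matrix.of_apply, Pi.zero_apply]
  refine Finset.sum_involution (fun σ _ => Equiv.swap s t * σ) (fun σ _ => ?_) (fun σ _ _ h => ?_)
    (fun σ _ => Finset.mem_univ _) (fun σ _ => Equiv.swap_mul_self_mul s t σ)
  · have : i ∘ ⇑(Equiv.swap s t * σ) = i ∘ σ := by
      funext z
      simp only [Function.comp_apply, Equiv.Perm.coe_mul, Equiv.swap_apply_def]
      split_ifs with h1 h2
      · rw [h1, hst]
      · rw [h2, hst]
      · rfl
    rw [this]
    split_ifs
    · simp [Equiv.Perm.sign_swap hne]
    · simp
  · exact hne (Equiv.swap_eq_one_iff.1 (mul_eq_right.1 h))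

theorem asym_map {S : Type w} [CommRing S] (f : R →+* S) : (asym R d r).map f = asym S d r := by
  ext i j
  simp [asym, apply_ite f]

end Matrices

section Rank

variable (K : Type u) [Field K] (d r : ℕ)

/-- The increasing enumeration of an `r`-subset. -/
noncomputable def subsetFun (s : {s : Finset (Fin d) // s.card = r}) : Fin r → Fin d := s.1.orderEmbOfFin s.2

theorem finrank_range_asym :
    Module.finrank K (Submodule.span K (Set.range (asym K d r))) = d.choose r := by
  classical
  set v : {s : Finset (Fin d) // s.card = r} → (Fin r → Fin d) → K := fun s => asym K d r (subsetFun d r s) with hv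
  have hdelta : ∀ s t, v s (subsetFun d r t) = if t = s then 1 else 0 := by
    intro s t
    simp only [hv, asym, Matrix.of_apply]
    split_ifs with h
    · subst h
      rw [Fintype.sum_eq_single 1 (fun σ hσ => if_neg fun hh => hσ ?_)]
      · simp
      · refine Equiv.ext fun z => ?_
        exact ((t.1.orderEmbOfFin t.2).injective (congr_fun hh z)).symm
    · refine Finset.sum_eq_zero fun σ _ => if_neg fun hh => h (Subtype.ext ?_)
      have := congrArg Set.range hh
      rw [Set.range_comp, σ.surjective.range_eq, Set.image_univ, subsetFun, subsetFun,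
        Finset.range_orderEmbOfFin, Finset.range_orderEmbOfFin] at this
      exact Finset.coe_injective this
  have hli : LinearIndependent K v := by
    rw [Fintype.linearIndependent_iff]
    intro g hg t
    have := congr_fun hg (subsetFun d r t)
    simpa [Finset.sum_apply, hdelta] using this
  have hspan : Submodule.span K (Set.range (asym K d r)) = Submodule.span K (Set.range v) := by
    refine le_antisymm (Submodule.span_le.2 ?_) (Submodule.span_mono ?_)
    · rintro _ ⟨i, rfl⟩
      by_cases hi : Function.Injective i
      · let s : {s : Finset (Fin d) // s.card = r} :=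
          ⟨Finset.univ.image i, by rw [Finset.card_image_of_injective _ hi, Finset.card_univ, Fintype.card_fin]⟩
        have hmem : ∀ z, ∃ w, subsetFun d r s w = i z := fun z => by
          have : i z ∈ Set.range (s.1.orderEmbOfFin s.2) := by
            rw [Finset.range_orderEmbOfFin]
            simp [s]
          exact this
        choose π hπ using hmem
        have hπi : Function.Injective π := fun a b hab => hi (by rw [← hπ a, ← hπ b, hab])
        have hie : i = subsetFun d r s ∘ Equiv.ofBijective π (Finite.injective_iff_bijective.1 hπi) :=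
          funext fun z => (hπ z).symm
        rw [hie, asym_row_comp]
        exact Submodule.smul_mem _ _ (Submodule.subset_span ⟨s, rfl⟩)
      · rw [asym_row_eq_zero i hi]
        exact zero_mem _
    · rintro _ ⟨s, rfl⟩
      exact ⟨_, rfl⟩
  rw [hspan, finrank_span_eq_card hli]
  simp

theorem finrank_range_mul_right {n : Type w} [Fintype n] [DecidableEq n] (S : Matrix n n K) :
    Module.finrank K (LinearMap.mulRight K S).range =
      Fintype.card n * Module.finrank K (Submodule.span K (Set.range S)) := by
  have hrow : LinearMap.range (Matrix.vecMulLinear S) = Submodule.span K (Set.range S) := by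
    rw [range_vecMulLinear]; rfl
  have : (LinearMap.mulRight K S).range = Submodule.pi Set.univ fun _ : n => LinearMap.range (Matrix.vecMulLinear S) := by
    ext M
    constructor
    · rintro ⟨X, rfl⟩ i _
      exact ⟨X i, rfl⟩
    · intro h
      choose X hX using fun i => h i (Set.mem_univ i)
      exact ⟨Matrix.of X, funext fun i => hX i⟩
  rw [this, ← hrow]
  refine (LinearEquiv.finrank_eq (?_ : _ ≃ₗ[K] (n → LinearMap.range (Matrix.vecMulLinear S)))).trans
    (Module.finrank_pi_fintype K |>.trans (by simp))
  exact
    { toFun := fun M i => ⟨(M : Matrix n n K) i, M.2 i (Set.mem_univ i)⟩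
      invFun := fun f => ⟨Matrix.of fun i => (f i : n → K), fun i _ => (f i).2⟩
      map_add' := fun M N => rfl
      map_smul' := fun c M => rfl
      left_inv := fun M => rfl
      right_inv := fun f => rfl }

end Rank

section Descent

variable {k : Type u} [Field k] {A : Type v} [Ring A] [Algebra k A]

theorem mem_range_of_fixed {K : Type w} [Field K] [Algebra k K] [FiniteDimensional k K] [IsGalois k K]
    {T : Type x} [Ring T] [Algebra k T] (x : K ⊗[k] T)
    (h : ∀ τ : K ≃ₐ[k] K, Algebra.TensorProduct.map τ.toAlgHom (AlgHom.id k T) x = x) :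
    ∃ t : T, x = 1 ⊗ₜ[k] t := by
  classical
  let b := Module.Free.chooseBasis k T
  let B := b.baseChange K
  have hcoord : ∀ (τ : K ≃ₐ[k] K) (y : K ⊗[k] T) (i), B.repr (Algebra.TensorProduct.map τ.toAlgHom (AlgHom.id k T) y) i
      = τ (B.repr y i) := by
    intro τ y i
    induction y using TensorProduct.induction_on with
    | zero => simp
    | tmul c t => simp [B]
    | add a a' ha ha' => simp only [map_add, Finsupp.add_apply, ha, ha']
  have hfix : ∀ i, ∃ c : k, algebraMap k K c = B.repr x i := fun i =>
    IntermediateField.mem_bot.1 ((IsGalois.mem_bot_iff_fixed _).2 fun τ => by rw [← hcoord τ x i, h τ])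
  choose c hc using hfix
  refine ⟨(B.repr x).sum fun i _ => c i • b i, ?_⟩
  conv_lhs => rw [← B.linearCombination_repr x]
  rw [Finsupp.linearCombination_apply, Finsupp.sum, Finsupp.sum, TensorProduct.tmul_sum]
  refine Finset.sum_congr rfl fun i _ => ?_
  rw [← hc i, algebraMap_smul, Module.Basis.baseChange_apply, TensorProduct.tmul_smul]

theorem finrank_range_baseChange (K : Type w) [Field K] [Algebra k K] {M : Type x} [AddCommGroup M] [Module k M]
    [FiniteDimensional k M] (f : M →ₗ[k] M) :
    Module.finrank K (f.baseChange K).range = Module.finrank k f.range := by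
  have h1 : f.range.subtype.comp f.rangeRestrict = f := rfl
  have hinj : Function.Injective (f.range.subtype.baseChange K) :=
    Module.Flat.lTensor_preserves_injective_linearMap (M := K) _ f.range.injective_subtype
  have hsurj : Function.Surjective (f.rangeRestrict.baseChange K) :=
    LinearMap.lTensor_surjective K f.surjective_rangeRestrict
  have : (f.baseChange K).range = (f.range.subtype.baseChange K).range := by
    conv_lhs => rw [← h1, LinearMap.baseChange_comp]
    exact LinearMap.range_comp_of_range_eq_top _ (LinearMap.range_eq_top.2 hsurj)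
  rw [this, LinearMap.finrank_range_of_inj hinj, Module.finrank_baseChange]

theorem finrank_tpow (k : Type u) [Field k] (A : Type v) [Ring A] [Algebra k A] [Algebra.IsCentral k A]
    [IsSimpleRing A] [FiniteDimensional k A] : ∀ r : ℕ, Module.finrank k (CSAGal.tpow k A r) = (deg k A ^ r) ^ 2
  | 0 => by rw [(powEmpty A (Fin 0)).toLinearEquiv.finrank_eq, Module.finrank_self]; simp
  | r + 1 => by
      rw [← (powAdd A r 1).toLinearEquiv.finrank_eq, Module.finrank_tensorProduct, finrank_tpow k A r,
        (powUnique A (Fin 1)).toLinearEquiv.finrank_eq, finrank_eq_deg_sq k A]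
      ring

theorem exists_leftIdeal_of_choose (hA : IsCSA k A) (r : ℕ) :
    ∃ L : Ideal (CSAGal.tpow k A r),
      Module.finrank k L = deg k A ^ r * (deg k A).choose r ∧
        Module.finrank k (CSAGal.tpow k A r) = (deg k A ^ r) ^ 2 := by
  classical
  obtain ⟨i1, i2, i3⟩ := hA
  obtain ⟨K, _, _, _, _, n, hn, ⟨e⟩⟩ := exists_galois_splitting k A
  obtain rfl := splits_size k A e
  set d := deg k A
  set f := splittingHom k A e
  let g : CSAGal.tpow k A r →ₐ[k] Matrix (Fin r → Fin d) (Fin r → Fin d) K :=
    PiTensorProduct.liftAlgHom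
      { toFun := fun a => kpow fun t => f (a t)
        map_update_add' := fun a t x y => by
          ext i j
          simp only [kpow, Matrix.of_apply, Matrix.add_apply]
          rw [Finset.prod_eq_prod_sdiff_singleton_mul (Finset.mem_univ t),
            Finset.prod_eq_prod_sdiff_singleton_mul (Finset.mem_univ t)
              (fun z => f (Function.update a t x z) (i z) (j z)),
            Finset.prod_eq_prod_sdiff_singleton_mul (Finset.mem_univ t)
              (fun z => f (Function.update a t y z) (i z) (j z))]
          simp only [Function.update_self, map_add, Matrix.add_apply, mul_add]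
          congr 2 <;> refine Finset.prod_congr rfl fun z hz => ?_ <;>
            · have : z ≠ t := by simpa using hz
              simp [Function.update_of_ne this]
        map_update_smul' := fun a t c x => by
          ext i j
          simp only [kpow, Matrix.of_apply, Matrix.smul_apply]
          rw [Finset.prod_eq_prod_sdiff_singleton_mul (Finset.mem_univ t),
            Finset.prod_eq_prod_sdiff_singleton_mul (Finset.mem_univ t)
              (fun z => f (Function.update a t x z) (i z) (j z))]
          simp only [Function.update_self, map_smul, Matrix.smul_apply, mul_smul_comm]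
          congr 2
          refine Finset.prod_congr rfl fun z hz => ?_
          have : z ≠ t := by simpa using hz
          simp [Function.update_of_ne this] }
      (by simp [kpow_one])
      (fun a b => by
        show kpow (fun t => f ((a * b) t)) = _
        simp only [Pi.mul_apply, map_mul]
        exact kpow_mul _ _)
  have hgt : ∀ a : Fin r → A, g (PiTensorProduct.tprod k a) = kpow fun t => f (a t) := fun a => by
    simp [g, PiTensorProduct.liftAlgHom]
  obtain ⟨j1, j2, j3⟩ := (IsCSA.of k A).tpow r
  let F : K ⊗[k] CSAGal.tpow k A r →ₐ[K] Matrix (Fin r → Fin d) (Fin r → Fin d) K :=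
    Algebra.TensorProduct.lift (Algebra.ofId K _) g fun c a => Algebra.commutes c _
  have : IsSimpleRing (K ⊗[k] CSAGal.tpow k A r) := isSimpleRing_tensor_right
  have : Nonempty (Fin r → Fin d) := ⟨fun _ => ⟨0, Nat.pos_of_ne_zero hn⟩⟩
  have hinj : Function.Injective F := F.toRingHom.injective
  have hT : Module.finrank k (CSAGal.tpow k A r) = (d ^ r) ^ 2 := finrank_tpow k A r
  have hcard : Fintype.card (Fin r → Fin d) = d ^ r := by simp
  have hdim : Module.finrank K (K ⊗[k] CSAGal.tpow k A r) =
      Module.finrank K (Matrix (Fin r → Fin d) (Fin r → Fin d) K) := by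
    rw [Module.finrank_baseChange, Module.finrank_matrix, Module.finrank_self, hT, hcard]
    ring
  have hsurj : Function.Surjective F :=
    (LinearMap.injective_iff_surjective_of_finrank_eq_finrank (f := F.toLinearMap) hdim).1 hinj
  obtain ⟨x, hx⟩ := hsurj (asym K d r)
  have hF : ∀ (c : K) (t : CSAGal.tpow k A r), F (c ⊗ₜ[k] t) = c • g t := fun c t => by
    simp [F, Algebra.smul_def]
  have hxfix : ∀ τ : K ≃ₐ[k] K, Algebra.TensorProduct.map τ.toAlgHom (AlgHom.id k _) x = x := by
    intro τ
    obtain ⟨u, hu⟩ := hom_conj hn (τ.toAlgHom.mapMatrix.comp f) f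
    set U := kpow (fun _ : Fin r => (u : Matrix (Fin d) (Fin d) K)) with hU
    set V := kpow (fun _ : Fin r => ((u⁻¹ : _ˣ) : Matrix (Fin d) (Fin d) K)) with hV
    have hUV : U * V = 1 := by rw [hU, hV, ← kpow_mul]; simp [kpow_one]
    have hVU : V * U = 1 := by rw [hU, hV, ← kpow_mul]; simp [kpow_one]
    have hgτ : ∀ t, (g t).map τ = U * g t * V := by
      intro t
      induction t using PiTensorProduct.induction_on with
      | smul_tprod c a =>
          rw [map_smul, hgt, hU, hV, mul_smul_comm, smul_mul_assoc, ← kpow_mul, ← kpow_mul]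
          have h2 : (kpow fun t => f (a t)).map τ = kpow fun t => (f (a t)).map τ := by
            ext i j; simp [kpow]
          ext i j
          simp only [Matrix.map_apply, Matrix.smul_apply, map_smul]
          rw [show τ (kpow (fun t => f (a t)) i j) = (kpow fun t => f (a t)).map τ i j from rfl, h2]
          congr 2
          exact funext fun t => hu (a t)
      | add s t hs ht =>
          rw [map_add, Matrix.map_add _ (by simp), hs, ht, mul_add, add_mul]
    have key : ∀ y : K ⊗[k] CSAGal.tpow k A r,
        (F y).map τ = U * F (Algebra.TensorProduct.map τ.toAlgHom (AlgHom.id k _) y) * V := by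
      intro y
      induction y using TensorProduct.induction_on with
      | zero => simp
      | tmul c t =>
          rw [Algebra.TensorProduct.map_tmul, hF, hF, mul_smul_comm, smul_mul_assoc, AlgHom.id_apply, ← hgτ t]
          ext i j
          simp
      | add y z hy hz => rw [map_add, Matrix.map_add _ (by simp), hy, hz, map_add, map_add, mul_add, add_mul]
    apply hinj
    rw [hx]
    calc F (Algebra.TensorProduct.map τ.toAlgHom (AlgHom.id k _) x)
        = V * (U * F (Algebra.TensorProduct.map τ.toAlgHom (AlgHom.id k _) x) * V) * U := by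
          rw [← mul_assoc, ← mul_assoc, hVU, one_mul, mul_assoc, hVU, mul_one]
      _ = asym K d r := by
          rw [← key x, hx]
          rw [show (asym K d r).map τ = asym K d r from asym_map τ.toRingEquiv.toRingHom, mul_assoc, hU,
            asym_commute, ← hU, ← mul_assoc, hVU, one_mul]
  obtain ⟨s, rfl⟩ := mem_range_of_fixed x hxfix
  refine ⟨LinearMap.range (LinearMap.toSpanSingleton (CSAGal.tpow k A r) (CSAGal.tpow k A r) s), ?_, hT⟩
  have hsame : (LinearMap.range (LinearMap.toSpanSingleton (CSAGal.tpow k A r) (CSAGal.tpow k A r) s)).restrictScalars k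
      = (LinearMap.mulRight k s).range := rfl
  show Module.finrank k ((LinearMap.range (LinearMap.toSpanSingleton (CSAGal.tpow k A r) (CSAGal.tpow k A r) s)).restrictScalars k) = _
  rw [hsame, ← finrank_range_baseChange K]
  let e' := (AlgEquiv.ofBijective F ⟨hinj, hsurj⟩).toLinearEquiv
  have hconj : e'.toLinearMap.comp ((LinearMap.mulRight k s).baseChange K) =
      (LinearMap.mulRight K (asym K d r)).comp e'.toLinearMap := by
    refine LinearMap.ext fun y => ?_
    show F (((LinearMap.mulRight k s).baseChange K) y) = F y * asym K d r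
    rw [← hx]
    induction y using TensorProduct.induction_on with
    | zero => simp
    | tmul c t =>
        rw [LinearMap.baseChange_tmul, LinearMap.mulRight_apply, ← map_mul,
          Algebra.TensorProduct.tmul_mul_tmul, mul_one]
    | add u v hu hv => rw [map_add, map_add, map_add, hu, hv, add_mul]
  have hr := congrArg (fun φ => Module.finrank K (LinearMap.range φ)) hconj
  replace hr : Module.finrank K (LinearMap.range (e'.toLinearMap.comp ((LinearMap.mulRight k s).baseChange K))) =
      Module.finrank K (LinearMap.range ((LinearMap.mulRight K (asym K d r)).comp e'.toLinearMap)) := hr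
  rw [LinearMap.range_comp, LinearMap.range_comp_of_range_eq_top _ e'.range] at hr
  rw [LinearEquiv.finrank_map_eq] at hr
  rw [hr, finrank_range_mul_right, hcard, finrank_range_asym]

open Matrix.Module in
theorem isSimpleModule_column (D : Type v) [DivisionRing D] (n : ℕ) [NeZero n] :
    IsSimpleModule (Matrix (Fin n) (Fin n) D) (Fin n → D) := by
  rw [isSimpleModule_iff_toSpanSingleton_surjective]
  refine ⟨inferInstance, fun v hv w => ?_⟩
  obtain ⟨j, hj⟩ := Function.ne_iff.1 hv
  refine ⟨∑ i, Matrix.single i j (w i * (v j)⁻¹), ?_⟩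
  rw [LinearMap.toSpanSingleton_apply, Finset.sum_smul]
  ext z
  simp [Matrix.Module.single_smul, mul_assoc, inv_mul_cancel₀ hj, Pi.single_apply]

open Matrix.Module in
theorem ind_dvd_of_module {B : Type v} [Ring B] [Algebra k B] (hB : IsCSA k B) (M : Type w) [AddCommGroup M]
    [Module B M] [Module k M] [IsScalarTower k B M] [FiniteDimensional k M] :
    deg k B * ind k B ∣ Module.finrank k M := by
  obtain ⟨a, ha, E, _, _, _, _, hd, ⟨eB⟩⟩ := exists_divisionPart hB
  obtain ⟨h1, h2, h3⟩ := hB.of_algEquiv eB
  letI : Module (Matrix (Fin a) (Fin a) E) M := Module.compHom M eB.symm.toRingEquiv.toRingHom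
  have : IsScalarTower k (Matrix (Fin a) (Fin a) E) M := ⟨fun c X m => by
    show eB.symm (c • X) • m = c • (eB.symm X • m)
    rw [map_smul, smul_assoc]⟩
  have : IsSimpleModule (Matrix (Fin a) (Fin a) E) (Fin a → E) := isSimpleModule_column E a
  have h := finrank_dvd_of_isSimpleModule (k := k) (R := Matrix (Fin a) (Fin a) E) (M := Fin a → E) (N := M)
  have hdeg : deg k B = a * ind k B := deg_eq_of_finrank k B (by
    rw [eB.toLinearEquiv.finrank_eq, Module.finrank_matrix, hd, Fintype.card_fin]; ring)
  rw [Module.finrank_pi_fintype, Finset.sum_const, Finset.card_univ, Fintype.card_fin, smul_eq_mul, hd] at h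
  rw [hdeg, mul_assoc, ← sq]
  exact h

/-- The index of the `r`-th tensor power divides `binom(ind A, r)`. -/
theorem ind_tpow_dvd_choose (hA : IsCSA k A) (r : ℕ) :
    ind k (CSAGal.tpow k A r) ∣ (ind k A).choose r := by
  obtain ⟨a, ha, E, _, _, _, _, hd, ⟨eA⟩⟩ := exists_divisionPart hA
  have hE : IsCSA k E := IsCSA.of k E
  rw [((BrEq.of_matrix eA (NeZero.ne a)).tpow r).ind_eq (hA.tpow r) (hE.tpow r)]
  obtain ⟨L, hL, hT⟩ := exists_leftIdeal_of_choose hE r
  obtain ⟨h1, h2, h3⟩ := hE.tpow r
  have : FiniteDimensional k L := inferInstanceAs (FiniteDimensional k (L.restrictScalars k))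
  have h := ind_dvd_of_module (hE.tpow r) L
  rw [deg_eq_of_finrank k E hd] at hL hT
  rw [deg_eq_of_finrank k _ hT, hL] at h
  exact Nat.dvd_of_mul_dvd_mul_left (pow_pos (ind_pos hA) r) h

theorem brEq_tpow_ind (hA : IsCSA k A) : BrEq k (CSAGal.tpow k A (ind k A)) k :=
  (ind_eq_one_iff (hA.tpow _)).1 (Nat.dvd_one.1 (Nat.choose_self (ind k A) ▸ ind_tpow_dvd_choose hA _))

end Descent

end Groth.Agent.CSA
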