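import Groth.Agent.CSA.Brauer
import Mathlib.RingTheory.Finiteness.Basic

/-!
Splitting fields and tensor products; base change of the index.
-/

set_option autoImplicit false

universe u v w x

open scoped TensorProduct

namespace Groth.Agent.CSA

variable {k : Type u} [Field k] {A : Type v} [Ring A] [Algebra k A] {B : Type w} [Ring B] [Algebra k B]

theorem splits_tensor (hA : IsCSA k A) (hB : IsCSA k B) (K : Type x) [Field K] [Algebra k K]
    (h : Curves.Splits k A K) (h' : Curves.Splits k B K) : Curves.Splits k (A ⊗[k] B) K := by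
  obtain ⟨m, hm, ⟨eA⟩⟩ := h
  obtain ⟨n, hn, ⟨eB⟩⟩ := h'
  obtain ⟨i1, i2, i3⟩ := hA
  obtain ⟨i4, i5, i6⟩ := hB
  have : Algebra.IsCentral k (A ⊗[k] B) := isCentral_tensor
  have : IsSimpleRing (A ⊗[k] B) := isSimpleRing_tensor_right
  let f : A →ₐ[k] Matrix (Fin m) (Fin m) K ⊗[K] Matrix (Fin n) (Fin n) K :=
    ((Algebra.TensorProduct.includeLeft :
      Matrix (Fin m) (Fin m) K →ₐ[K] _).restrictScalars k).comp (splittingHom k A eA)
  let g : B →ₐ[k] Matrix (Fin m) (Fin m) K ⊗[K] Matrix (Fin n) (Fin n) K :=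
    ((Algebra.TensorProduct.includeRight :
      Matrix (Fin n) (Fin n) K →ₐ[K] _).restrictScalars k).comp (splittingHom k B eB)
  let F : A ⊗[k] B →ₐ[k] Matrix (Fin (m * n)) (Fin (m * n)) K :=
    (((Matrix.kroneckerAlgEquiv (Fin m) (Fin n) K).trans
      (Matrix.reindexAlgEquiv K K finProdFinEquiv)).toAlgHom.restrictScalars k).comp
      (Algebra.TensorProduct.lift f g fun a b => by simp [f, g, Commute, SemiconjBy])
  refine splits_of_algHom_matrix k (A ⊗[k] B) K (m * n) ?_ F
  rw [Module.finrank_tensorProduct, finrank_eq_deg_sq k A, finrank_eq_deg_sq k B, splits_size k A eA,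
    splits_size k B eB, mul_pow]

theorem splits_self (K : Type x) [Field K] [Algebra k K] : Curves.Splits k k K :=
  ⟨1, one_ne_zero, ⟨(Algebra.TensorProduct.rid k K K).trans matrixOne.symm⟩⟩

theorem splits_tpow (hA : IsCSA k A) (K : Type x) [Field K] [Algebra k K] (h : Curves.Splits k A K) :
    ∀ e : ℕ, Curves.Splits k (CSAGal.tpow k A e) K
  | 0 => (brEq_tpow_zero.splits_iff (hA.tpow 0) (IsCSA.self k) K).2 (splits_self K)
  | e + 1 => ((brEq_tpow_add e 1).splits_iff (hA.tpow _) ((hA.tpow e).tensor (hA.tpow 1)) K).2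
      (splits_tensor (hA.tpow e) (hA.tpow 1) K (splits_tpow hA K h e)
        ((brEq_tpow_one.splits_iff (hA.tpow 1) hA K).2 h))

theorem ind_tpow_dvd (hA : IsCSA k A) (e : ℕ) : ind k (CSAGal.tpow k A e) ∣ ind k A := by
  obtain ⟨L, _, _, _, hL, hs⟩ := exists_splitting_of_degree_ind hA
  exact hL ▸ ind_dvd_of_splits (hA.tpow e) L (splits_tpow hA L hs e)

theorem ind_baseChange_dvd (hA : IsCSA k A) (K : Type x) [Field K] [Algebra k K] :
    ind K (K ⊗[k] A) ∣ ind k A := by
  obtain ⟨a, ha, E, _, _, _, _, hd, ⟨eA⟩⟩ := exists_divisionPart hA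
  have hE : IsCSA k E := IsCSA.of k E
  rw [((BrEq.of_matrix eA (NeZero.ne a)).baseChange K).ind_eq (hA.baseChange K) (hE.baseChange K)]
  have h : deg K (K ⊗[k] E) = ind k A := by rw [deg_eq_of_finrank]; rw [Module.finrank_baseChange, hd]
  exact h ▸ ind_dvd_deg (hE.baseChange K)

/-- `L ⊗[K] (K ⊗[k] A) ≃ L ⊗[k] A` as `L`-algebras, for a possibly noncommutative `A`. -/
noncomputable def cancelBC (K : Type x) [Field K] [Algebra k K] (L : Type*) [Field L] [Algebra k L] [Algebra K L]
    [IsScalarTower k K L] (A : Type v) [Ring A] [Algebra k A] : L ⊗[K] (K ⊗[k] A) ≃ₐ[L] L ⊗[k] A :=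
  AlgEquiv.symm <| AlgEquiv.ofLinearEquiv
    (TensorProduct.AlgebraTensorModule.cancelBaseChange k K L L A).symm
    (by simp [Algebra.TensorProduct.one_def]) <|
      LinearMap.map_mul_of_map_mul_tmul (fun _ _ _ _ ↦ by simp)

theorem ind_dvd_finrank_mul (hA : IsCSA k A) (K : Type x) [Field K] [Algebra k K] [FiniteDimensional k K] :
    ind k A ∣ Module.finrank k K * ind K (K ⊗[k] A) := by
  obtain ⟨L, _, _, _, hL, n, hn, ⟨e⟩⟩ := exists_splitting_of_degree_ind (hA.baseChange K)
  letI : Algebra k L := Algebra.compHom L (algebraMap k K)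
  have : IsScalarTower k K L := IsScalarTower.of_algebraMap_eq fun _ => rfl
  have : FiniteDimensional k L := Module.Finite.trans K L
  have hs : Curves.Splits k A L :=
    ⟨n, hn, ⟨(cancelBC (k := k) K L A).symm.trans e⟩⟩
  rw [← hL, Module.finrank_mul_finrank]
  exact ind_dvd_of_splits hA L hs

theorem ind_baseChange_self (hA : IsCSA k A) : ind k (k ⊗[k] A) = ind k A :=
  BrEq.tensor_left_base.ind_eq (hA.baseChange k) hA

end Groth.Agent.CSA
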