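import Groth.Agent.CSA.Simple
import Mathlib.RingTheory.SimpleRing.Field

/-!
A simple algebra as a central simple algebra over its centre.
-/

set_option autoImplicit false

universe u v

namespace Groth.Agent.CSA

variable (k : Type u) [Field k] (A : Type v) [Ring A] [Algebra k A]

/-- The centre as a base ring. -/
@[instance_reducible]
noncomputable def centerAlgebra : Algebra (Subalgebra.center k A) A :=
  (Subalgebra.center k A).val.toRingHom.toAlgebra' fun c x => (Subalgebra.mem_center_iff.1 c.2 x).symm

theorem isField_center [IsSimpleRing A] : IsField (Subalgebra.center k A) :=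
  (RingEquiv.subringCongr (show (Subalgebra.center k A).toSubring = Subring.center A from
    Subalgebra.center_toSubring k A)).toMulEquiv.isField (IsSimpleRing.isField_center A)

theorem isCentral_center :
    letI := centerAlgebra k A
    Algebra.IsCentral (Subalgebra.center k A) A :=
  letI := centerAlgebra k A
  ⟨fun x hx => Algebra.mem_bot.2 ⟨⟨x, Subalgebra.mem_center_iff.2 (Subalgebra.mem_center_iff.1 hx)⟩, rfl⟩⟩

theorem finiteDimensional_center [FiniteDimensional k A] :
    letI := centerAlgebra k A
    Module.Finite (Subalgebra.center k A) A :=
  letI := centerAlgebra k A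
  have : IsScalarTower k (Subalgebra.center k A) A :=
    IsScalarTower.of_algebraMap_eq fun _ => rfl
  Module.Finite.of_restrictScalars_finite k _ _

end Groth.Agent.CSA
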