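import Groth.Agent.CSA.Modules
import Mathlib.RingTheory.SimpleModule.Isotypic

/-!
The centralizer theorem.
-/

set_option autoImplicit false

universe u v w

open scoped TensorProduct

namespace Groth.Agent.CSA

/-- Dimension count for modules over a simple algebra: `M ≅ S^n` gives a simple commutant. -/
theorem commutant_simple {k : Type u} [Field k] {R : Type v} [Ring R] [Algebra k R] [IsSimpleRing R]
    [FiniteDimensional k R] (M : Type w) [AddCommGroup M] [Module R M] [Module k M] [IsScalarTower k R M]
    [FiniteDimensional k M] [Nontrivial M] :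
    IsSimpleRing (Module.End R M) ∧
      Module.finrank k (Module.End R M) * Module.finrank k R = Module.finrank k M ^ 2 := by
  classical
  have : IsArtinianRing R := IsArtinianRing.of_finite k R
  have : Module.Finite R M := Module.Finite.of_restrictScalars_finite k R M
  obtain ⟨n, hn, S, hS, ⟨e⟩⟩ := (IsSimpleRing.isIsotypic R M).linearEquiv_fun
  have hRS : IsIsotypicOfType R R S := fun m hm => by
    obtain ⟨I, ⟨e'⟩⟩ := IsSemisimpleRing.exists_linearEquiv_ideal_of_isSimpleModule R S
    have := IsSimpleModule.congr e'.symm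
    exact ⟨(IsSimpleRing.isIsotypic R R I m).some.trans e'.symm⟩
  obtain ⟨r, ⟨eR⟩⟩ := hRS.linearEquiv_fun
  have hr0 : r ≠ 0 := by
    rintro rfl
    exact not_subsingleton R eR.toEquiv.subsingleton
  have : NeZero r := ⟨hr0⟩
  let φ : Module.End R M ≃ₐ[k] Matrix (Fin n) (Fin n) (Module.End R S) :=
    (e.conjAlgEquiv k).trans (endVecAlgEquivMatrixEnd ..)
  let ψ : Rᵐᵒᵖ ≃ₐ[k] Matrix (Fin r) (Fin r) (Module.End R S) :=
    (AlgEquiv.moduleEndSelf k).trans ((eR.conjAlgEquiv k).trans (endVecAlgEquivMatrixEnd ..))
  have : Nonempty (Fin n) := ⟨0⟩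
  refine ⟨IsSimpleRing.of_ringEquiv φ.symm.toRingEquiv inferInstance, ?_⟩
  have h1 := φ.toLinearEquiv.finrank_eq
  have h2 := ψ.toLinearEquiv.finrank_eq
  rw [← (MulOpposite.opLinearEquiv k : R ≃ₗ[k] Rᵐᵒᵖ).finrank_eq] at h2
  rw [Module.finrank_matrix, Fintype.card_fin] at h1 h2
  have : FiniteDimensional k S := inferInstanceAs (FiniteDimensional k (S.restrictScalars k))
  have hM := (e.restrictScalars k).finrank_eq
  have hR := (eR.restrictScalars k).finrank_eq
  rw [Module.finrank_pi_fintype, Finset.sum_const, Finset.card_univ, Fintype.card_fin, smul_eq_mul] at hM hR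
  have hs : Module.finrank k S = r * Module.finrank k (Module.End R S) := by
    have hh : r * Module.finrank k S = r * (r * Module.finrank k (Module.End R S)) := by
      rw [← hR, h2, mul_assoc]
    exact Nat.eq_of_mul_eq_mul_left (Nat.pos_of_ne_zero hr0) hh
  rw [h1, h2, hM, hs]
  ring

section

variable {k : Type u} [Field k] {A : Type v} [Ring A] [Algebra k A]

/-- The centralizer is the commutant of the `A`-`B` bimodule `A`. -/
theorem centralizer_equiv_commutant (B : Subalgebra k A) :
    Nonempty ((Subalgebra.centralizer k (B : Set A))ᵐᵒᵖ ≃ₐ[k] Module.End (A ⊗[k] Bᵐᵒᵖ) (Twist B.val)) := by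
  have key : ∀ (c : (Subalgebra.centralizer k (B : Set A))ᵐᵒᵖ) (r : A ⊗[k] Bᵐᵒᵖ) (x : A),
      twistAction B.val r (x * (c.unop : A)) = twistAction B.val r x * (c.unop : A) := fun c r x => by
    induction r using TensorProduct.induction_on with
    | zero => simp
    | tmul a b =>
        simp only [twistAction, AlgHom.comp_apply, Algebra.TensorProduct.map_tmul, AlgHom.coe_id, id_eq,
          AlgHom.mulLeftRight_apply, AlgHom.op_apply_apply, MulOpposite.unop_op, Subalgebra.coe_val]
        rw [mul_assoc _ (b.unop : A), (Subalgebra.mem_centralizer_iff k).1 c.unop.2 b.unop b.unop.2]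
        simp only [mul_assoc]
    | add r s hr hs => simp only [map_add, LinearMap.add_apply, add_mul, hr, hs]
  let h : (Subalgebra.centralizer k (B : Set A))ᵐᵒᵖ → Module.End (A ⊗[k] Bᵐᵒᵖ) (Twist B.val) := fun c =>
    { toFun := fun x => (show Twist B.val from (show A from x) * (c.unop : A))
      map_add' := fun x y => add_mul (show A from x) (show A from y) (c.unop : A)
      map_smul' := fun r x => (key c r (show A from x)).symm }
  let H : (Subalgebra.centralizer k (B : Set A))ᵐᵒᵖ →ₐ[k] Module.End (A ⊗[k] Bᵐᵒᵖ) (Twist B.val) :=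
    { toFun := h
      map_one' := LinearMap.ext fun x => mul_one (show A from x)
      map_mul' := fun c d => LinearMap.ext fun x => (mul_assoc (show A from x) (d.unop : A) (c.unop : A)).symm
      map_zero' := LinearMap.ext fun x => mul_zero (show A from x)
      map_add' := fun c d => LinearMap.ext fun x => mul_add (show A from x) (c.unop : A) (d.unop : A)
      commutes' := fun r => LinearMap.ext fun x =>
        ((Algebra.commutes r (show A from x)).symm.trans (Algebra.smul_def r (show A from x)).symm) }
  refine ⟨AlgEquiv.ofBijective H ⟨fun c d hcd => ?_, fun g => ?_⟩⟩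
  · have := congrArg (fun f : Module.End (A ⊗[k] Bᵐᵒᵖ) (Twist B.val) => f (show Twist B.val from (1 : A))) hcd
    apply MulOpposite.unop_injective
    refine Subtype.ext ?_
    simpa [H, h] using (show (1 : A) * (c.unop : A) = (1 : A) * (d.unop : A) from this)
  · set g1 : A := g (show Twist B.val from (1 : A))
    have hg : ∀ a : A, ∀ b : B, (g (show Twist B.val from (a * (b : A))) : Twist B.val) = (a * g1 * (b : A) : A) := by
      intro a b
      have h1 := g.map_smul (a ⊗ₜ[k] MulOpposite.op b) (show Twist B.val from (1 : A))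
      rw [twist_smul_tmul, mul_one] at h1
      rw [show (B.val b : A) = (b : A) from rfl] at h1
      rw [h1]
      exact twist_smul_tmul B.val a b g1
    have hc : g1 ∈ Subalgebra.centralizer k (B : Set A) := by
      rw [Subalgebra.mem_centralizer_iff]
      intro b hb
      have h1 := hg b 1
      have h2 := hg 1 ⟨b, hb⟩
      simp only [one_mul, mul_one, OneMemClass.coe_one] at h1 h2
      exact h1.symm.trans h2
    refine ⟨MulOpposite.op ⟨g1, hc⟩, LinearMap.ext fun x => ?_⟩
    have := hg (show A from x) 1
    simp only [mul_one, OneMemClass.coe_one] at this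
    exact this.symm

variable [Algebra.IsCentral k A] [IsSimpleRing A] [FiniteDimensional k A]

theorem centralizer_isSimpleRing_and_finrank (B : Subalgebra k A) [IsSimpleRing B] :
    IsSimpleRing (Subalgebra.centralizer k (B : Set A)) ∧
      Module.finrank k A = Module.finrank k B * Module.finrank k (Subalgebra.centralizer k (B : Set A)) := by
  have : IsSimpleRing (A ⊗[k] Bᵐᵒᵖ) := isSimpleRing_tensor_left
  have : FiniteDimensional k (Twist B.val) := inferInstanceAs (FiniteDimensional k A)
  have : Nontrivial (Twist B.val) := inferInstanceAs (Nontrivial A)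
  have : FiniteDimensional k B := FiniteDimensional.finiteDimensional_submodule (Subalgebra.toSubmodule B)
  obtain ⟨h1, h2⟩ := commutant_simple (k := k) (R := A ⊗[k] Bᵐᵒᵖ) (Twist B.val)
  obtain ⟨φ⟩ := centralizer_equiv_commutant B
  constructor
  · have := IsSimpleRing.of_ringEquiv φ.symm.toRingEquiv h1
    exact IsSimpleRing.of_ringEquiv (RingEquiv.opOp _).symm inferInstance
  · rw [← φ.toLinearEquiv.finrank_eq, ← (MulOpposite.opLinearEquiv k :
      (Subalgebra.centralizer k (B : Set A)) ≃ₗ[k] _).finrank_eq, Module.finrank_tensorProduct,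
      ← (MulOpposite.opLinearEquiv k : B ≃ₗ[k] Bᵐᵒᵖ).finrank_eq,
      show Module.finrank k (Twist B.val) = Module.finrank k A from rfl, sq] at h2
    refine Nat.eq_of_mul_eq_mul_left (Module.finrank_pos (R := k) (M := A)) ?_
    rw [← h2]
    ring

theorem centralizer_centralizer (B : Subalgebra k A) [IsSimpleRing B] :
    Subalgebra.centralizer k (Subalgebra.centralizer k (B : Set A) : Set A) = B := by
  obtain ⟨h1, h2⟩ := centralizer_isSimpleRing_and_finrank B
  obtain ⟨_, h3⟩ := centralizer_isSimpleRing_and_finrank (Subalgebra.centralizer k (B : Set A))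
  have hle : B ≤ Subalgebra.centralizer k (Subalgebra.centralizer k (B : Set A) : Set A) :=
    fun b hb => (Subalgebra.mem_centralizer_iff k).2 fun c hc =>
      ((Subalgebra.mem_centralizer_iff k).1 hc b hb).symm
  refine (Subalgebra.toSubmodule_injective (Submodule.eq_of_le_of_finrank_le
    (show Subalgebra.toSubmodule B ≤ _ from hle) (le_of_eq ?_))).symm
  have : FiniteDimensional k (Subalgebra.centralizer k (B : Set A)) :=
    FiniteDimensional.finiteDimensional_submodule (Subalgebra.toSubmodule (Subalgebra.centralizer k (B : Set A)))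
  have hpos : 0 < Module.finrank k (Subalgebra.centralizer k (B : Set A)) := Module.finrank_pos
  refine Nat.eq_of_mul_eq_mul_left hpos ?_
  show Module.finrank k (Subalgebra.centralizer k (B : Set A)) *
      Module.finrank k (Subalgebra.centralizer k (Subalgebra.centralizer k (B : Set A) : Set A)) =
    Module.finrank k (Subalgebra.centralizer k (B : Set A)) * Module.finrank k B
  rw [← h3, h2, mul_comm]

end

end Groth.Agent.CSA
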