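import Groth.Agent.CSA.CharPDivision
import Mathlib.RingTheory.Adjoin.PowerBasis
import Mathlib.FieldTheory.Normal.Basic
import Mathlib.Algebra.CharP.Lemmas

/-!
Division algebras of degree equal to the characteristic: inseparable elements, degree two and three.
-/

set_option autoImplicit false

universe u v w

open Polynomial

namespace Groth.Agent.CSA

variable {k : Type u} [Field k] {D : Type v} [DivisionRing D] [Algebra k D] [Algebra.IsCentral k D]
  [FiniteDimensional k D] {p : ℕ}

/-- An inseparable element of a division algebra of degree `p = char k` has central `p`-th power. -/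
theorem pow_char_mem_of_not_isSeparable [Fact p.Prime] [CharP k p] (hD : Module.finrank k D = p ^ 2) {v : D}
    (hv : ¬ IsSeparable k v) : v ∉ (algebraMap k D).range ∧ v ^ p ∈ (algebraMap k D).range := by
  have hp : p.Prime := Fact.out
  have hvK : v ∉ (algebraMap k D).range := fun ⟨c, hc⟩ => hv (hc ▸ isSeparable_algebraMap c)
  refine ⟨hvK, ?_⟩
  obtain ⟨L, _, _, ι, y, hLp, rfl, htop⟩ := finrank_adjoin_singleton hp hD hvK
  have := finiteDimensional_of_algHom ι
  have hint : IsIntegral k y := Algebra.IsIntegral.isIntegral y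
  have hdeg : (minpoly k y).natDegree = p := by
    rw [← PowerBasis.ofAdjoinEqTop_dim hint htop, ← PowerBasis.finrank, hLp]
  have hns : ¬ (minpoly k y).Separable := fun h => hv (by
    rw [IsSeparable, minpoly.algHom_eq ι ι.toRingHom.injective]; exact h)
  obtain ⟨g, hg, hexp⟩ := ((separable_or p (minpoly.irreducible hint)).resolve_left hns).2
  have hg1 : g.natDegree = 1 := by
    have := congrArg natDegree hexp
    rw [natDegree_expand, hdeg] at this
    exact mul_right_cancel₀ hp.ne_zero (this.trans (one_mul p).symm)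
  obtain ⟨a, ha, b, hab⟩ := natDegree_eq_one.1 hg1
  have h0 := minpoly.aeval k y
  rw [← hexp, expand_aeval, ← hab, map_add, map_mul, aeval_C, aeval_C, aeval_X] at h0
  refine ⟨-(a⁻¹ * b), ?_⟩
  rw [← map_pow, ← AlgHom.commutes ι]
  congr 1
  rw [map_neg, map_mul, map_inv₀, neg_eq_iff_eq_neg, eq_neg_of_add_eq_zero_right h0, ← neg_mul_eq_mul_neg,
    inv_mul_cancel_left₀ (by simpa using ha)]

/-- Non-central `v` with central `p`-th power has a partner `u` with `v u - u v = 1`. -/
theorem exists_commutator_eq_one [Fact p.Prime] [CharP k p] {v : D} (hvK : v ∉ (algebraMap k D).range)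
    (hvp : v ^ p ∈ (algebraMap k D).range) : ∃ u : D, v * u - u * v = 1 := by
  classical
  haveI : CharP (Module.End k D) p :=
    charP_of_injective_algebraMap (algebraMap k (Module.End k D)).injective p
  set N : Module.End k D := LinearMap.mulLeft k v - LinearMap.mulRight k v with hN
  have hNp : N ^ p = 0 := by
    obtain ⟨c, hc⟩ := hvp
    rw [hN, sub_pow_char_of_commute (p := p) (LinearMap.commute_mulLeft_right v v), LinearMap.pow_mulLeft,
      LinearMap.pow_mulRight, ← hc, sub_eq_zero]
    exact LinearMap.ext fun x => by simp [Algebra.commutes]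
  obtain ⟨w, hw⟩ : ∃ w, N w ≠ 0 := by
    by_contra! h
    refine hvK ?_
    obtain ⟨r, hr⟩ := Algebra.mem_bot.1
      (Algebra.IsCentral.out (K := k) (D := D) (Subalgebra.mem_center_iff.2 fun x => (sub_eq_zero.1 (h x)).symm))
    exact ⟨r, hr⟩
  have hex : ∃ j, (N ^ j) w = 0 := ⟨p, by rw [hNp, LinearMap.zero_apply]⟩
  have hmin : (N ^ Nat.find hex) w = 0 := Nat.find_spec hex
  obtain ⟨j, hj⟩ : ∃ j, Nat.find hex = j + 2 := ⟨Nat.find hex - 2, by
    rcases h : Nat.find hex with _ | _ | n
    · rw [h, pow_zero] at hmin; exact absurd (by rw [show w = 0 from hmin, map_zero]) hw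
    · rw [h, pow_one] at hmin; exact absurd hmin hw
    · rfl⟩
  set w' := (N ^ j) w
  set z := N w' with hz
  have hz0 : z ≠ 0 := fun h => Nat.find_min hex (m := j + 1) (by omega) (by
    rw [pow_succ', Module.End.mul_apply]; exact h)
  have hzc : Commute v z := sub_eq_zero.1 (show N z = 0 by
    rw [hj, pow_succ', pow_succ', Module.End.mul_apply, Module.End.mul_apply] at hmin
    exact hmin)
  refine ⟨w' * z⁻¹, ?_⟩
  rw [mul_assoc, (hzc.inv_right₀).symm.eq, ← mul_assoc, ← mul_assoc, ← sub_mul]
  exact mul_inv_cancel₀ hz0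

omit [Algebra.IsCentral k D] [FiniteDimensional k D] in
/-- If `v u - u v = 1` then `u ^ p` commutes with `v`. -/
theorem commute_pow_char_of_commutator_eq_one [CharP k p] {v u : D} (h : v * u - u * v = 1) :
    u ^ p * v = v * u ^ p := by
  have key : ∀ n : ℕ, v * u ^ (n + 1) = u ^ (n + 1) * v + (n + 1) • u ^ n := by
    intro n
    induction n with
    | zero => rw [zero_add, pow_one, pow_zero, one_smul, ← h]; abel
    | succ n ih =>
        rw [pow_succ u (n + 1), ← mul_assoc, ih, add_mul, smul_mul_assoc, ← pow_succ, mul_assoc,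
          eq_add_of_sub_eq' h, mul_add, mul_one, ← mul_assoc, add_assoc]
        simp only [add_smul, one_smul]
        abel
  haveI : CharP D p := charP_of_injective_algebraMap (algebraMap k D).injective p
  rcases p with _ | q
  · simp
  · rw [key q, nsmul_eq_mul, CharP.cast_eq_zero, zero_mul, add_zero]

/-- Degree two in characteristic two. -/
theorem exists_not_isSeparable_two [hp : Fact p.Prime] [CharP k p] (hp2 : p = 2) (hD : Module.finrank k D = p ^ 2) :
    ∃ v : D, ¬ IsSeparable k v := by
  by_contra! hsep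
  obtain ⟨v, hv⟩ : ∃ v : D, v ∉ (algebraMap k D).range := by
    by_contra! h
    have htop : (⊥ : Subalgebra k D) = ⊤ := top_unique fun x _ => Algebra.mem_bot.2 (h x)
    have h1 := Subalgebra.finrank_bot (F := k) (E := D)
    rw [htop, subalgebra_top_finrank_eq_submodule_top_finrank, finrank_top, hD, hp2] at h1
    norm_num at h1
  obtain ⟨L, _, _, ι, y, hLp, -, -⟩ := finrank_adjoin_singleton hp.out hD hv
  have : Algebra.IsSeparable k L := ⟨fun x => by
    have h := hsep (ι x)
    rwa [IsSeparable, minpoly.algHom_eq ι ι.toRingHom.injective] at h⟩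
  have : Module.Finite k L := finiteDimensional_of_algHom ι
  have : Algebra.IsQuadraticExtension k L := ⟨hLp.trans hp2⟩
  obtain ⟨u, hu⟩ := exists_not_isSeparable_of_galois hD (L := L) hLp ι
  exact hu (hsep u)

/-- Degree three in characteristic three (Wedderburn's cyclicity argument). -/
theorem exists_not_isSeparable_three [CharP k 3] (hD : Module.finrank k D = 3 ^ 2) : ∃ v : D, ¬ IsSeparable k v := by
  classical
  have : Fact (Nat.Prime 3) := ⟨Nat.prime_three⟩
  by_contra! hsep
  obtain ⟨a, ha⟩ : ∃ v : D, v ∉ (algebraMap k D).range := by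
    by_contra! h
    have htop : (⊥ : Subalgebra k D) = ⊤ := top_unique fun x _ => Algebra.mem_bot.2 (h x)
    have h1 := Subalgebra.finrank_bot (F := k) (E := D)
    rw [htop, subalgebra_top_finrank_eq_submodule_top_finrank, finrank_top, hD] at h1
    norm_num at h1
  obtain ⟨L, _, _, ι, y, hLp, rfl, htop⟩ := finrank_adjoin_singleton Nat.prime_three hD ha
  have := finiteDimensional_of_algHom ι
  have hint : IsIntegral k y := Algebra.IsIntegral.isIntegral y
  have hmin : minpoly k (ι y) = minpoly k y := minpoly.algHom_eq ι ι.toRingHom.injective y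
  set pb := PowerBasis.ofAdjoinEqTop hint htop
  have hdeg : (minpoly k y).natDegree = 3 := by
    rw [← PowerBasis.ofAdjoinEqTop_dim hint htop, ← PowerBasis.finrank, hLp]
  set f := minpoly k y with hf
  have hmonic : f.Monic := minpoly.monic hint
  -- a conjugate `x ≠ ι y` of `ι y`
  obtain ⟨z, hz⟩ : ∃ z : D, z * ι y ≠ ι y * z := by
    by_contra! h
    obtain ⟨r, hr⟩ := Algebra.mem_bot.1 (Algebra.IsCentral.out (K := k) (D := D) (Subalgebra.mem_center_iff.2 h))
    exact ha ⟨r, hr⟩
  have hz0 : z ≠ 0 := fun h => hz (by simp [h])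
  set a := ι y with hadef
  set x := z * a * z⁻¹ with hx
  have hxa : x - a ≠ 0 := fun h => hz (by
    have := congrArg (· * z) (sub_eq_zero.1 h)
    simpa [hx, hz0] using this)
  set s : k := -f.coeff 2
  set t : k := f.coeff 1
  set r : k := -f.coeff 0
  set S := algebraMap k D s
  set T := algebraMap k D t
  set R := algebraMap k D r
  have hSc : ∀ q : D, S * q = q * S := fun q => Algebra.commutes s q
  have hTc : ∀ q : D, T * q = q * T := fun q => Algebra.commutes t q
  have hS' : ∀ q w : D, q * S * w = q * w * S := fun q w => by rw [mul_assoc, hSc, ← mul_assoc]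
  have hT' : ∀ q w : D, q * T * w = q * w * T := fun q w => by rw [mul_assoc, hTc, ← mul_assoc]
  have hcube : ∀ q : D, aeval q f = q ^ 3 - S * q ^ 2 + T * q - R := fun q => by
    rw [aeval_eq_sum_range, hdeg, Finset.sum_range_succ, Finset.sum_range_succ, Finset.sum_range_succ,
      Finset.sum_range_succ, Finset.sum_range_zero, (show f.coeff 3 = 1 by rw [← hdeg]; exact hmonic.leadingCoeff)]
    simp only [Algebra.smul_def, map_one, pow_zero, pow_one, mul_one, one_mul, zero_add, S, T, R, s, t, r, map_neg]
    noncomm_ring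
  have hfa : aeval a f = 0 := by rw [hadef, aeval_algHom_apply, minpoly.aeval, map_zero]
  have hconj : ∀ (d q : D), d ≠ 0 → aeval q f = 0 → aeval (d * q * d⁻¹) f = 0 := fun d q hd hq => by
    rw [hcube] at hq ⊢
    have h1 : ∀ n : ℕ, (d * q * d⁻¹) ^ n = d * q ^ n * d⁻¹ := fun n => by
      induction n with
      | zero => simp [hd]
      | succ n ih =>
          rw [pow_succ, ih, pow_succ]
          simp only [mul_assoc, inv_mul_cancel_left₀ hd]
    have hR : d * R * d⁻¹ = R := by rw [← Algebra.commutes r d, mul_inv_cancel_right₀ hd]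
    calc (d * q * d⁻¹) ^ 3 - S * (d * q * d⁻¹) ^ 2 + T * (d * q * d⁻¹) - R
        = d * (q ^ 3 - S * q ^ 2 + T * q - R) * d⁻¹ := by
          rw [h1, h1]
          simp only [mul_sub, mul_add, sub_mul, add_mul, hR, ← mul_assoc, hSc d, hTc d]
      _ = 0 := by rw [hq, mul_zero, zero_mul]
  have hfx : aeval x f = 0 := hconj z a hz0 hfa
  set b := (x - a) * x * (x - a)⁻¹ with hb
  have hfb : aeval b f = 0 := hconj _ x hxa hfx
  have hgb : b ^ 2 + (a - S) * b + (a ^ 2 - S * a + T) = 0 := by
    have hbd : b * (x - a) = (x - a) * x := by rw [hb, inv_mul_cancel_right₀ hxa]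
    refine (mul_eq_zero.1 ?_).resolve_right hxa
    rw [add_mul, add_mul, pow_two b, mul_assoc b, hbd, ← mul_assoc b, hbd, mul_assoc (a - S), hbd]
    calc (x - a) * x * x + (a - S) * ((x - a) * x) + (a ^ 2 - S * a + T) * (x - a)
        = (x ^ 3 - S * x ^ 2 + T * x - R) - (a ^ 3 - S * a ^ 2 + T * a - R) := by
          noncomm_ring
          try simp only [← mul_assoc, hSc a, hSc x, hTc a, hTc x, hS' _ a, hS' _ x, hT' _ a, hT' _ x]
          try abel
      _ = 0 := by rw [← hcube, ← hcube, hfx, hfa, sub_zero]
  rw [hcube] at hfa hfb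
  by_cases hab : a * b = b * a
  · -- `b` lies in `k(a)`, which is therefore Galois
    obtain ⟨y', hy'⟩ := mem_range_of_commute ι hD hLp b fun m => by
      have hm : m ∈ Algebra.adjoin k ({y} : Set L) := htop ▸ Algebra.mem_top
      induction hm using Algebra.adjoin_induction with
      | mem m hm => rw [Set.mem_singleton_iff.1 hm]; exact hab
      | algebraMap r => rw [AlgHom.commutes]; exact Algebra.commutes r b
      | add s t _ _ hs ht => rw [map_add, add_mul, mul_add, hs, ht]
      | mul s t _ _ hs ht => rw [map_mul, mul_assoc, ht, ← mul_assoc, hs, mul_assoc]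
    have hy'' : ι y' = b := hy'
    have hroot : aeval y' f = 0 := ι.toRingHom.injective (by
      show ι (aeval y' f) = ι 0
      rw [← aeval_algHom_apply, hy'', hcube, hfb, map_zero])
    have hne : y' ≠ y := by
      intro h
      have hba : b = a := by rw [← hy'', h]
      rw [hba] at hgb
      have hd : aeval y (derivative f) = 0 := ι.toRingHom.injective (by
        show ι (aeval y (derivative f)) = ι 0
        rw [← aeval_algHom_apply, ← hadef, map_zero, ← hgb, aeval_eq_sum_range' (n := 3)
          (lt_of_le_of_lt (natDegree_derivative_le f) (by omega)), Finset.sum_range_succ, Finset.sum_range_succ,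
          Finset.sum_range_succ, Finset.sum_range_zero]
        simp only [coeff_derivative, (show f.coeff 3 = 1 by rw [← hdeg]; exact hmonic.leadingCoeff),
          Algebra.smul_def, map_add, map_mul, map_one, map_natCast, S, T, s, t, map_neg]
        norm_num
        noncomm_ring)
      exact (hmin ▸ hsep a : f.Separable).aeval_derivative_ne_zero (minpoly.aeval k y) hd
    set σ : L →ₐ[k] L := pb.lift y' hroot
    have hσy : σ y = y' := pb.lift_gen y' hroot
    let σ' : L ≃ₐ[k] L := AlgEquiv.ofBijective σ (AlgHom.bijective σ)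
    have : IsGalois k L := by
      refine IsGalois.of_fixedField_eq_bot k L ?_
      have := IntermediateField.isSimpleOrder_of_finrank_prime k L (hLp ▸ Nat.prime_three)
      refine (IsSimpleOrder.eq_bot_or_eq_top _).resolve_right fun h => hne ?_
      have hy : y ∈ IntermediateField.fixedField (⊤ : Subgroup (L ≃ₐ[k] L)) := h ▸ IntermediateField.mem_top
      exact hσy.symm.trans (hy ⟨σ', Subgroup.mem_top σ'⟩)
    obtain ⟨u, hu⟩ := exists_not_isSeparable_of_galois hD (L := L) hLp ι
    exact hu (hsep u)
  · set c := a * b - b * a with hc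
    have hb2 : b ^ 2 = -((a - S) * b) - (a ^ 2 - S * a + T) := by
      rw [eq_sub_iff_add_eq, ← sub_eq_zero, sub_neg_eq_add, ← hgb]; abel
    have hca : c * a = b * c := by
      have h1 : b * (a * b + a ^ 2 - S * a) + R = 0 := by
        rw [← neg_eq_zero, ← hfb]
        have : a * b + a ^ 2 - S * a = -b ^ 2 + S * b - T := by rw [hb2]; noncomm_ring
        rw [this]
        noncomm_ring
        try simp only [← mul_assoc, hSc b, hTc b, hS' _ b, hT' _ b]
        try abel
      rw [← sub_eq_zero, ← neg_eq_zero, ← h1, hc]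
      have hR : R = a ^ 3 - S * a ^ 2 + T * a := (sub_eq_zero.1 hfa).symm
      have : b * (a * b - b * a) = b * a * b - b ^ 2 * a := by noncomm_ring
      rw [this, hR, hb2]
      noncomm_ring
      try simp only [← mul_assoc, hSc a, hSc b, hTc a, hTc b, hS' _ a, hS' _ b, hT' _ a, hT' _ b]
      try abel
    have hcb : c * b = (S - a - b) * c := by
      rw [← sub_eq_zero]
      have : c * b - (S - a - b) * c = (a * b ^ 2 - b ^ 2 * a) - (S * (a * b) - S * (b * a) - a ^ 2 * b + a * b * a) := by
        rw [hc]; noncomm_ring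
      rw [this, hb2]
      noncomm_ring
      try simp only [← mul_assoc, hSc a, hSc b, hTc a, hTc b, hS' _ a, hS' _ b, hT' _ a, hT' _ b]
      try abel
    have hcc : c * (S - a - b) = a * c := by
      rw [mul_sub, mul_sub, ← hSc c, hca, hcb]; noncomm_ring
    have h3a : c ^ 3 * a = a * c ^ 3 := by
      rw [pow_three', mul_assoc, hca, ← mul_assoc, mul_assoc c c b, hcb, ← mul_assoc, hcc, mul_assoc a, mul_assoc a]
    have h3b : c ^ 3 * b = b * c ^ 3 := by
      rw [pow_three', mul_assoc, hcb, ← mul_assoc, mul_assoc c c (S - a - b), hcc, ← mul_assoc, hca, mul_assoc b,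
        mul_assoc b]
    obtain ⟨-, hcentral⟩ := adjoin_pair_eq_top_of_prime Nat.prime_three hD hab
    refine not_isSeparable_of_pow_char 3 (hcentral _ h3a h3b) ?_ (hsep c)
    rintro ⟨q, hq⟩
    have hq' : c = algebraMap k D q := hq.symm
    have hc0 : c ≠ 0 := sub_ne_zero.2 hab
    rw [hq', Algebra.commutes, ← hq'] at hca
    exact hab (by rw [mul_right_cancel₀ hc0 hca])

end Groth.Agent.CSA
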