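import Groth.Agent.CSA.Subfield

/-!
Maximal subfields through a given element of a division algebra.
-/

set_option autoImplicit false

universe u v

namespace Groth.Agent.CSA

variable (k : Type u) [Field k] {D : Type v} [DivisionRing D] [Algebra k D] [Algebra.IsCentral k D]
  [FiniteDimensional k D]

theorem exists_maximal_subfield_through (d : D) :
    ∃ (L : Type v) (_ : Field L) (_ : Algebra k L) (ι : L →ₐ[k] D) (x : L),
      Module.finrank k D = Module.finrank k L ^ 2 ∧ Curves.Splits k D L ∧ ι x = d := by
  classical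
  let P : Subalgebra k D → Prop := fun S => d ∈ S ∧ ∀ x ∈ S, ∀ y ∈ S, x * y = y * x
  have h0 : P (Algebra.adjoin k {d}) := ⟨Algebra.subset_adjoin rfl, fun x hx y hy => by
    have := Algebra.isMulCommutative_adjoin k (s := ({d} : Set D)) (by rintro _ rfl _ rfl; rfl)
    exact congrArg Subtype.val (this.is_comm.comm ⟨x, hx⟩ ⟨y, hy⟩)⟩
  have hex : ∃ m : ℕ, ∃ S : Subalgebra k D, P S ∧ Module.finrank k D - Module.finrank k S = m := ⟨_, _, h0, rfl⟩
  obtain ⟨S, ⟨hdS, hcomm⟩, hm⟩ := Nat.find_spec hex
  have hle : ∀ T : Subalgebra k D, Module.finrank k T ≤ Module.finrank k D := fun T =>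
    Submodule.finrank_le (Subalgebra.toSubmodule T)
  have hmax : ∀ T : Subalgebra k D, (∀ x ∈ T, ∀ y ∈ T, x * y = y * x) → S ≤ T → T = S := by
    intro T hT hST
    have h1 := Nat.find_min' hex ⟨T, ⟨hST hdS, hT⟩, rfl⟩
    rw [← hm] at h1
    refine (Subalgebra.toSubmodule_injective (Submodule.eq_of_le_of_finrank_le
      (show Subalgebra.toSubmodule S ≤ Subalgebra.toSubmodule T from hST) ?_)).symm
    have := hle T
    have := hle S
    show Module.finrank k T ≤ Module.finrank k S
    omega
  let : CommRing S := { (inferInstance : Ring S) with mul_comm := fun a b => Subtype.ext (hcomm a a.2 b b.2) }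
  have : FiniteDimensional k S := FiniteDimensional.finiteDimensional_submodule (Subalgebra.toSubmodule S)
  have : IsDomain S := S.toSubring.instIsDomainSubtypeMem
  letI : Field S := fieldOfFiniteDimensional k S
  refine ⟨S, inferInstance, inferInstance, S.val, ⟨d, hdS⟩, ?_⟩
  have hcen : ∀ c, (∀ x, S.val x * c = c * S.val x) → c ∈ S.val.range := by
    intro c hc
    have hT : ∀ x ∈ Algebra.adjoin k (insert c (S : Set D)), ∀ y ∈ Algebra.adjoin k (insert c (S : Set D)),
        x * y = y * x := by
      intro x hx y hy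
      have := Algebra.isMulCommutative_adjoin k (s := insert c (S : Set D)) (by
        rintro a (rfl | ha) b (rfl | hb)
        · rfl
        · exact (hc ⟨b, hb⟩).symm
        · exact hc ⟨a, ha⟩
        · exact hcomm a ha b hb)
      exact congrArg Subtype.val (this.is_comm.comm ⟨x, hx⟩ ⟨y, hy⟩)
    have h := hmax _ hT fun x hx => Algebra.subset_adjoin (Set.mem_insert_of_mem _ hx)
    rw [Subalgebra.range_val, ← h]
    exact Algebra.subset_adjoin (Set.mem_insert _ _)
  have h := finrank_sq_of_centralizer S.val hcen
  exact ⟨h, splits_of_subfield S.val h rfl, rfl⟩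

end Groth.Agent.CSA
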