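import Groth.Agent.CSA.RedCharpoly
import Groth.Agent.CSA.Centralizer
import Groth.Agent.CSA.SubfieldThrough
import Mathlib.Algebra.Algebra.Subalgebra.IsSimpleOrder
import Mathlib.FieldTheory.Galois.Basic

/-!
Division algebras of prime degree.
-/

set_option autoImplicit false

universe u v w

open scoped TensorProduct
open Polynomial

namespace Groth.Agent.CSA

variable {k : Type u} [Field k] {D : Type v} [DivisionRing D] [Algebra k D] [Algebra.IsCentral k D]
  [FiniteDimensional k D] {p : ℕ}

/-- A non-central element of a division algebra of prime degree spans a maximal subfield. -/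
theorem finrank_adjoin_singleton (hp : p.Prime) (hD : Module.finrank k D = p ^ 2) {v : D}
    (hv : v ∉ (algebraMap k D).range) :
    ∃ (L : Type v) (_ : Field L) (_ : Algebra k L) (ι : L →ₐ[k] D) (y : L),
      Module.finrank k L = p ∧ ι y = v ∧ Algebra.adjoin k ({y} : Set L) = ⊤ := by
  classical
  obtain ⟨L, _, _, ι, y, hL, -, rfl⟩ := exists_maximal_subfield_through k v
  have := finiteDimensional_of_algHom ι
  have hLp : Module.finrank k L = p := (Nat.pow_left_injective two_ne_zero (hD.symm.trans hL)).symm
  refine ⟨L, inferInstance, inferInstance, ι, y, hLp, rfl, ?_⟩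
  have := Subalgebra.isSimpleOrder_of_finrank_prime k L (hLp ▸ hp)
  refine (IsSimpleOrder.eq_bot_or_eq_top (Algebra.adjoin k ({y} : Set L))).resolve_left fun h => hv ?_
  obtain ⟨c, hc⟩ := Algebra.mem_bot.1 (h ▸ Algebra.subset_adjoin (Set.mem_singleton y) : y ∈ (⊥ : Subalgebra k L))
  exact ⟨c, by rw [← hc, AlgHom.commutes]⟩

/-- Two non-commuting elements generate a division algebra of prime degree. -/
theorem adjoin_pair_eq_top_of_prime (hp : p.Prime) (hD : Module.finrank k D = p ^ 2) {a b : D} (hab : a * b ≠ b * a) :
    Algebra.adjoin k ({a, b} : Set D) = ⊤ ∧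
      ∀ c, c * a = a * c → c * b = b * c → c ∈ (algebraMap k D).range := by
  classical
  set B := Algebra.adjoin k ({a, b} : Set D) with hB
  have haK : a ∉ (algebraMap k D).range := fun ⟨c, hc⟩ => hab (by rw [← hc]; exact Algebra.commutes c b)
  obtain ⟨L, _, _, ι, y, hLp, rfl, -⟩ := finrank_adjoin_singleton hp hD haK
  have : FiniteDimensional k L := finiteDimensional_of_algHom ι
  have key : ∀ c, c * ι y = ι y * c → c * b = b * c → c ∈ (algebraMap k D).range := by
    intro c h1 h2
    by_contra hc
    obtain ⟨M, _, _, κ, z, hMp, rfl, htop⟩ := finrank_adjoin_singleton hp hD hc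
    have hmem : ∀ x : D, x * κ z = κ z * x → x ∈ κ.range := fun x hx => by
      refine mem_range_of_commute κ hD hMp x fun m => ?_
      have hm : m ∈ Algebra.adjoin k ({z} : Set M) := htop ▸ Algebra.mem_top
      induction hm using Algebra.adjoin_induction with
      | mem m hm => rw [Set.mem_singleton_iff.1 hm]; exact hx.symm
      | algebraMap r => rw [AlgHom.commutes]; exact Algebra.commutes r x
      | add s t _ _ hs ht => rw [map_add, add_mul, mul_add, hs, ht]
      | mul s t _ _ hs ht => rw [map_mul, mul_assoc, ht, ← mul_assoc, hs, mul_assoc]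
    obtain ⟨s, hs⟩ := hmem _ h1.symm
    obtain ⟨t, ht⟩ := hmem _ h2.symm
    exact hab (by rw [← (show κ s = ι y from hs), ← (show κ t = b from ht), ← map_mul, ← map_mul, mul_comm])
  refine ⟨?_, key⟩
  have : IsDomain B := B.toSubring.instIsDomainSubtypeMem
  have : FiniteDimensional k B := FiniteDimensional.finiteDimensional_submodule (Subalgebra.toSubmodule B)
  letI := divisionRingOfFiniteDimensional k B
  obtain ⟨-, hdim⟩ := centralizer_isSimpleRing_and_finrank B
  have hC : Subalgebra.centralizer k (B : Set D) = ⊥ := eq_bot_iff.2 fun c hc => by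
    obtain ⟨r, hr⟩ := key c
      ((Subalgebra.mem_centralizer_iff k).1 hc _ (Algebra.subset_adjoin (Set.mem_insert _ _))).symm
      ((Subalgebra.mem_centralizer_iff k).1 hc _ (Algebra.subset_adjoin (Set.mem_insert_of_mem _ rfl))).symm
    exact Algebra.mem_bot.2 ⟨r, hr⟩
  rw [hC, Subalgebra.finrank_bot, mul_one] at hdim
  refine Subalgebra.toSubmodule_injective ?_
  rw [Algebra.top_toSubmodule]
  exact Submodule.eq_top_of_finrank_eq hdim.symm

/-- A cyclic maximal subfield of degree the characteristic gives an inseparable element. -/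
theorem exists_not_isSeparable_of_galois [Fact p.Prime] [CharP k p] (hD : Module.finrank k D = p ^ 2)
    {L : Type w} [Field L] [Algebra k L] [IsGalois k L] (hL : Module.finrank k L = p) (ι : L →ₐ[k] D) :
    ∃ v : D, ¬ IsSeparable k v := by
  classical
  have := finiteDimensional_of_algHom ι
  have hp : p.Prime := Fact.out
  have : Nontrivial (L ≃ₐ[k] L) := by
    refine Finite.one_lt_card_iff_nontrivial.1 ?_
    rw [IsGalois.card_aut_eq_finrank, hL]
    exact hp.one_lt
  obtain ⟨σ, hσ⟩ := exists_ne (1 : L ≃ₐ[k] L)
  obtain ⟨u, hu⟩ := skolemNoether (k := k) (A := D) (B := L) (ι.comp σ.toAlgHom) ι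
  have hpow : ∀ (i : ℕ) x, ι ((σ ^ i) x) = (u : D) ^ i * ι x * (↑(u ^ i)⁻¹ : D) := by
    intro i
    induction i with
    | zero => intro x; simp
    | succ i ih =>
        intro x
        rw [pow_succ σ, AlgEquiv.mul_apply, ih, show ι (σ x) = _ from hu x, pow_succ u, mul_inv_rev, Units.val_mul,
          pow_succ (u : D)]
        simp only [mul_assoc]
  refine ⟨u, not_isSeparable_of_pow_char p ?_ ?_⟩
  · have hσp : σ ^ p = 1 := by
      rw [← hL, ← IsGalois.card_aut_eq_finrank k L]
      exact pow_card_eq_one'
    have hcomm : ∀ x, ι x * (u : D) ^ p = (u : D) ^ p * ι x := fun x => by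
      have h := hpow p x
      rw [hσp, AlgEquiv.one_apply] at h
      nth_rewrite 1 [h]
      rw [mul_assoc, ← Units.val_pow_eq_pow_val, Units.inv_mul, mul_one]
    obtain ⟨z, hz⟩ := mem_range_of_commute ι hD hL _ hcomm
    have hz' : ι z = (u : D) ^ p := hz
    have hfix : σ z = z := ι.toRingHom.injective (by
      show ι (σ z) = ι z
      rw [show ι (σ z) = _ from hu z, hz', ← pow_succ', pow_succ, mul_assoc, Units.mul_inv, mul_one])
    have hmem : z ∈ (⊥ : IntermediateField k L) := (IsGalois.mem_bot_iff_fixed _).2 fun τ => by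
      have hcard : Nat.card (L ≃ₐ[k] L) = p := (IsGalois.card_aut_eq_finrank k L).trans hL
      have hmem := (mem_zpowers_of_prime_card hcard (g := σ) (g' := τ) hσ)
      exact MulAction.mem_stabilizer_iff.1 ((Subgroup.zpowers_le (H := MulAction.stabilizer (L ≃ₐ[k] L) z)).2
        (MulAction.mem_stabilizer_iff.2 hfix) hmem)
    obtain ⟨c, hc⟩ := IntermediateField.mem_bot.1 hmem
    exact ⟨c, by rw [← hz', ← hc, AlgHom.commutes]⟩
  · rintro ⟨c, hc⟩
    refine hσ (AlgEquiv.ext fun x => ι.toRingHom.injective ?_)
    show ι (σ x) = ι x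
    rw [show ι (σ x) = _ from hu x, ← hc, Algebra.commutes, hc, mul_assoc, Units.mul_inv, mul_one]

/-- `v x v⁻¹ = x + 1` makes `k(x)` Galois of degree `p`. -/
theorem exists_galois_of_shift [Fact p.Prime] [CharP k p] (hD : Module.finrank k D = p ^ 2) {v x : D}
    (hvx : v * x = (x + 1) * v) (hv : v ≠ 0) :
    ∃ (L : Type v) (_ : Field L) (_ : Algebra k L), IsGalois k L ∧ Module.finrank k L = p ∧ Nonempty (L →ₐ[k] D) := by
  classical
  have hp : p.Prime := Fact.out
  have hx : x ∉ (algebraMap k D).range := fun ⟨c, hc⟩ => by
    rw [← hc, ← Algebra.commutes c v, add_mul, one_mul, left_eq_add] at hvx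
    exact hv hvx
  obtain ⟨L, _, _, ι, y, hLp, rfl, htop⟩ := finrank_adjoin_singleton hp hD hx
  have := finiteDimensional_of_algHom ι
  refine ⟨L, inferInstance, inferInstance, ?_, hLp, ⟨ι⟩⟩
  have : CharP L p := charP_of_injective_algebraMap (algebraMap k L).injective p
  have hint : IsIntegral k y := Algebra.IsIntegral.isIntegral y
  have hroot : ∀ i : ℕ, aeval (y + (i : L)) (minpoly k y) = 0 := by
    intro i
    induction i with
    | zero => simp
    | succ i ih =>
        have h1 : ∀ q : k[X], v * ι (aeval (y + (i : L)) q) = ι (aeval (y + ((i + 1 : ℕ) : L)) q) * v := by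
          intro q
          induction q using Polynomial.induction_on with
          | C c => rw [aeval_C, aeval_C, AlgHom.commutes]; exact (Algebra.commutes c v).symm
          | add q r hq hr => rw [map_add, map_add, mul_add, hq, hr, map_add, map_add, add_mul]
          | monomial m c h =>
              have hstep : v * ι (y + (i : L)) = ι (y + ((i + 1 : ℕ) : L)) * v := by
                rw [map_add, map_add, map_natCast, map_natCast, Nat.cast_succ, mul_add, hvx, add_mul, one_mul,
                  add_mul, add_mul, one_mul, (Nat.cast_commute i v).eq]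
                abel
              simp only [pow_succ, ← mul_assoc, map_mul, aeval_X] at h ⊢
              rw [h, mul_assoc _ v, hstep, ← mul_assoc]
        have h2 := h1 (minpoly k y)
        rw [ih, map_zero, mul_zero, eq_comm, mul_eq_zero] at h2
        exact ι.toRingHom.injective ((h2.resolve_right hv).trans (map_zero ι).symm)
  have hdeg : (minpoly k y).natDegree = p := by
    rw [← IntermediateField.adjoin.finrank hint, ← hLp]
    have hfield : IntermediateField.adjoin k ({y} : Set L) = ⊤ := by
      refine IntermediateField.toSubalgebra_injective ?_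
      rw [IntermediateField.adjoin_simple_toSubalgebra_of_isAlgebraic hint.isAlgebraic, htop,
        IntermediateField.top_toSubalgebra]
    rw [hfield, IntermediateField.finrank_top']
  let roots : Multiset L := (Multiset.range p).map fun i : ℕ => y + (i : L)
  have hnodup : roots.Nodup := (Multiset.nodup_range p).map_on fun i hi j hj h => by
    rw [Multiset.mem_range] at hi hj
    exact (CharP.natCast_injOn_Iio L p) hi hj (add_left_cancel h)
  have hne : (minpoly k y).map (algebraMap k L) ≠ 0 := Polynomial.map_ne_zero (minpoly.ne_zero hint)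
  have hsub : roots ≤ ((minpoly k y).map (algebraMap k L)).roots := (Multiset.le_iff_subset hnodup).2 fun r hr => by
    obtain ⟨i, -, rfl⟩ := Multiset.mem_map.1 hr
    rw [Polynomial.mem_roots hne, Polynomial.IsRoot, Polynomial.eval_map, ← Polynomial.aeval_def]
    exact hroot i
  have hcard : roots.card = p := by simp [roots]
  have hle : ((minpoly k y).map (algebraMap k L)).roots.card ≤ p :=
    (Polynomial.card_roots' _).trans (by rw [Polynomial.natDegree_map, hdeg])
  have heq : roots = ((minpoly k y).map (algebraMap k L)).roots :=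
    Multiset.eq_of_le_of_card_le hsub (hle.trans hcard.ge)
  have hsplit : ((minpoly k y).map (algebraMap k L)).Splits := Polynomial.splits_iff_card_roots.2 (by
    rw [← heq, hcard, Polynomial.natDegree_map, hdeg])
  have hsep : (minpoly k y).Separable := by
    refine (Polynomial.separable_map (algebraMap k L)).1 ?_
    exact (Polynomial.nodup_roots_iff_of_splits hne hsplit).1 (heq ▸ hnodup)
  have : (minpoly k y).IsSplittingField k L := by
    refine ⟨hsplit, eq_top_iff.2 (htop.symm.le.trans (Algebra.adjoin_mono ?_))⟩
    rw [Set.singleton_subset_iff, Polynomial.mem_rootSet]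
    exact ⟨minpoly.ne_zero hint, minpoly.aeval k y⟩
  exact IsGalois.of_separable_splitting_field hsep

end Groth.Agent.CSA
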