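import Groth.Agent.CSA.SplitEmbed
import Groth.Agent.CSA.AntiSym
import Mathlib.GroupTheory.SpecificGroups.Cyclic.Basic
import Mathlib.RingTheory.Norm.Transitivity

/-!
Cyclic algebras.
-/

set_option autoImplicit false

universe u v w x

open scoped TensorProduct

namespace Groth.Agent.CSA

variable {k : Type u} [Field k] {K : Type v} [Field K] [Algebra k K]

/-- A generator of the Galois group. -/
theorem orderOf_generator [FiniteDimensional k K] [IsGalois k K] {σ : K ≃ₐ[k] K}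
    (hσ : ∀ τ : K ≃ₐ[k] K, τ ∈ Subgroup.zpowers σ) : orderOf σ = Module.finrank k K := by
  rw [orderOf_eq_card_of_forall_mem_zpowers hσ, IsGalois.card_aut_eq_finrank]

/-- `ι` and `y` satisfy the defining relations of `(K, σ, b)`. -/
structure CycRel (σ : K ≃ₐ[k] K) (b : kˣ) {A : Type w} [Ring A] [Algebra k A] (ι : K →ₐ[k] A) (y : A) : Prop where
  pow_eq : y ^ Module.finrank k K = algebraMap k A (b : k)
  rel : ∀ x : K, ι x * y = y * ι (σ x)

variable {σ : K ≃ₐ[k] K} {b : kˣ} {A : Type w} [Ring A] [Algebra k A] {ι : K →ₐ[k] A} {y : A}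

theorem CycRel.rel_pow (h : CycRel σ b ι y) : ∀ (j : ℕ) (x : K), ι x * y ^ j = y ^ j * ι ((σ ^ j) x)
  | 0, x => by simp
  | j + 1, x => by
      rw [pow_succ, ← mul_assoc, h.rel_pow j x, mul_assoc, h.rel, ← mul_assoc, ← AlgEquiv.mul_apply, ← pow_succ']

theorem CycRel.mul_monomial (h : CycRel σ b ι y) (i j : ℕ) (f g : K) :
    (y ^ i * ι f) * (y ^ j * ι g) = y ^ (i + j) * ι ((σ ^ j) f * g) := by
  rw [mul_assoc, ← mul_assoc (ι f), h.rel_pow, mul_assoc, ← map_mul, ← mul_assoc, pow_add]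

theorem CycRel.mul_pow (h : CycRel σ b ι y) (z : K) :
    ∀ m : ℕ, (y * ι z) ^ m = y ^ m * ι (∏ i ∈ Finset.range m, (σ ^ i) z)
  | 0 => by simp
  | m + 1 => by
      rw [pow_succ, h.mul_pow z m]
      have := h.mul_monomial m 1 (∏ i ∈ Finset.range m, (σ ^ i) z) z
      rw [pow_one, pow_one] at this
      rw [this, map_prod, Finset.prod_range_succ' (fun i => (σ ^ i) z), pow_zero, AlgEquiv.one_apply]
      congr 3
      exact Finset.prod_congr rfl fun i _ => by rw [pow_succ', AlgEquiv.mul_apply]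

theorem CycRel.pow_mod (h : CycRel σ b ι y) (m : ℕ) :
    y ^ m = algebraMap k A ((b : k) ^ (m / Module.finrank k K)) * y ^ (m % Module.finrank k K) := by
  rw [map_pow, ← h.pow_eq, ← pow_mul, ← pow_add, Nat.div_add_mod]

theorem CycRel.isUnit (h : CycRel σ b ι y) [FiniteDimensional k K] : IsUnit y := by
  refine (isUnit_pow_iff (Module.finrank_pos (R := k) (M := K)).ne').1 ?_
  rw [h.pow_eq]
  exact (Units.isUnit b).map _

/-- The basis map `f ↦ ∑ yʲ fⱼ`. -/
noncomputable def cycMap (ι : K →ₐ[k] A) (y : A) : (Fin (Module.finrank k K) → K) →ₗ[k] A :=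
  ∑ j : Fin (Module.finrank k K), ((LinearMap.mulLeft k (y ^ j.val)).comp ι.toLinearMap).comp (LinearMap.proj j)

theorem cycMap_apply (f : Fin (Module.finrank k K) → K) : cycMap ι y f = ∑ j, y ^ j.val * ι (f j) := by
  simp [cycMap]

theorem cycMap_single (j : Fin (Module.finrank k K)) (c : K) : cycMap ι y (Pi.single j c) = y ^ j.val * ι c := by
  rw [cycMap_apply, Finset.sum_eq_single j (fun i _ hi => by rw [Pi.single_eq_of_ne hi, map_zero, mul_zero])
    (fun h => absurd (Finset.mem_univ j) h), Pi.single_eq_same]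

section

variable [FiniteDimensional k K] [IsGalois k K]

theorem exists_ne_pow (hσ : ∀ τ : K ≃ₐ[k] K, τ ∈ Subgroup.zpowers σ) {i j : Fin (Module.finrank k K)} (hij : i ≠ j) :
    ∃ x : K, (σ ^ i.val) x ≠ (σ ^ j.val) x := by
  by_contra! h
  refine hij (Fin.ext (pow_injOn_Iio_orderOf ?_ ?_ (AlgEquiv.ext h)))
  · rw [Set.mem_Iio, orderOf_generator hσ]; exact i.2
  · rw [Set.mem_Iio, orderOf_generator hσ]; exact j.2

/-- A sub-bimodule containing a non-zero sum contains a monomial. -/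
theorem CycRel.exists_monomial_mem (h : CycRel σ b ι y) (hσ : ∀ τ : K ≃ₐ[k] K, τ ∈ Subgroup.zpowers σ)
    (W : AddSubgroup A) (hl : ∀ x a, a ∈ W → ι x * a ∈ W) (hr : ∀ x a, a ∈ W → a * ι x ∈ W) :
    ∀ f : Fin (Module.finrank k K) → K, f ≠ 0 → cycMap ι y f ∈ W →
      ∃ (j : Fin (Module.finrank k K)) (g : K), g ≠ 0 ∧ y ^ j.val * ι g ∈ W := by
  classical
  intro f
  induction hn : (Finset.univ.filter fun j => f j ≠ 0).card using Nat.strong_induction_on generalizing f with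
  | _ n ih =>
  intro hf hmem
  obtain ⟨j1, hj1⟩ := Function.ne_iff.1 hf
  by_cases hone : ∀ j, j ≠ j1 → f j = 0
  · refine ⟨j1, f j1, hj1, ?_⟩
    rwa [cycMap_apply, Finset.sum_eq_single j1 (fun i _ hi => by rw [hone i hi, map_zero, mul_zero])
      (fun h => absurd (Finset.mem_univ j1) h)] at hmem
  · push_neg at hone
    obtain ⟨j2, h21, hj2⟩ := hone
    obtain ⟨x, hx⟩ := exists_ne_pow hσ h21
    let g : Fin (Module.finrank k K) → K := fun j => ((σ ^ j.val) x - (σ ^ j1.val) x) * f j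
    have hg : cycMap ι y g = ι x * cycMap ι y f - cycMap ι y f * ι ((σ ^ j1.val) x) := by
      simp only [cycMap_apply, Finset.mul_sum, Finset.sum_mul, ← Finset.sum_sub_distrib]
      refine Finset.sum_congr rfl fun j _ => ?_
      rw [← mul_assoc, h.rel_pow, mul_assoc, mul_assoc, ← map_mul, ← map_mul, ← mul_sub, ← map_sub]
      congr 2
      simp only [g, sub_mul]
      ring
    refine ih _ ?_ g rfl ?_ (hg ▸ sub_mem (hl _ _ hmem) (hr _ _ hmem))
    · rw [← hn]
      refine Finset.card_lt_card (Finset.ssubset_iff_of_subset (fun j hj => ?_) |>.2 ⟨j1, ?_, ?_⟩)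
      · simp only [Finset.mem_filter, Finset.mem_univ, true_and, g] at hj ⊢
        exact right_ne_zero_of_mul hj
      · simpa using hj1
      · simp [g]
    · exact Function.ne_iff.2 ⟨j2, mul_ne_zero (sub_ne_zero.2 hx) hj2⟩

theorem CycRel.cycMap_injective (h : CycRel σ b ι y) (hσ : ∀ τ : K ≃ₐ[k] K, τ ∈ Subgroup.zpowers σ) [Nontrivial A] :
    Function.Injective (cycMap ι y) := by
  rw [injective_iff_map_eq_zero]
  intro f hf
  by_contra hne
  obtain ⟨j, g, hg, hz⟩ := h.exists_monomial_mem hσ ⊥ (fun x a ha => by simp [AddSubgroup.mem_bot.1 ha])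
    (fun x a ha => by simp [AddSubgroup.mem_bot.1 ha]) f hne (by rw [hf]; exact zero_mem _)
  exact ((h.isUnit.pow j.val).mul ((isUnit_iff_ne_zero.2 hg).map ι)).ne_zero (AddSubgroup.mem_bot.1 hz)

theorem CycRel.cycMap_bijective (h : CycRel σ b ι y) (hσ : ∀ τ : K ≃ₐ[k] K, τ ∈ Subgroup.zpowers σ)
    (hd : Module.finrank k A = Module.finrank k K ^ 2) : Function.Bijective (cycMap ι y) := by
  have hpos : 0 < Module.finrank k A := hd ▸ pow_pos Module.finrank_pos 2
  have : Nontrivial A := Module.nontrivial_of_finrank_pos hpos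
  have : FiniteDimensional k A := Module.finite_of_finrank_pos hpos
  refine ⟨h.cycMap_injective hσ, (LinearMap.injective_iff_surjective_of_finrank_eq_finrank ?_).1
    (h.cycMap_injective hσ)⟩
  rw [Module.finrank_pi_fintype, Finset.sum_const, Finset.card_univ, Fintype.card_fin, smul_eq_mul, hd, sq]

theorem CycRel.adjoin_eq_top (h : CycRel σ b ι y) (hσ : ∀ τ : K ≃ₐ[k] K, τ ∈ Subgroup.zpowers σ)
    (hd : Module.finrank k A = Module.finrank k K ^ 2) : Algebra.adjoin k (Set.range ι ∪ {y}) = ⊤ := by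
  refine Algebra.eq_top_iff.2 fun a => ?_
  obtain ⟨f, rfl⟩ := (h.cycMap_bijective hσ hd).2 a
  rw [cycMap_apply]
  refine Subalgebra.sum_mem _ fun j _ => Subalgebra.mul_mem _ (Subalgebra.pow_mem _ ?_ _) ?_
  · exact Algebra.subset_adjoin (Set.mem_union_right _ rfl)
  · exact Algebra.subset_adjoin (Set.mem_union_left _ ⟨_, rfl⟩)

theorem CycRel.isCyclicAlg (h : CycRel σ b ι y) (hσ : ∀ τ : K ≃ₐ[k] K, τ ∈ Subgroup.zpowers σ)
    (hd : Module.finrank k A = Module.finrank k K ^ 2) : CSAGal.IsCyclicAlg k K σ b A :=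
  ⟨ι, y, h.pow_eq, h.rel, h.adjoin_eq_top hσ hd, Module.finrank_pos, hd⟩

theorem exists_cycRel (h : CSAGal.IsCyclicAlg k K σ b A) :
    ∃ (ι : K →ₐ[k] A) (y : A), CycRel σ b ι y ∧ Module.finrank k A = Module.finrank k K ^ 2 := by
  obtain ⟨ι, y, h1, h2, -, -, h3⟩ := h
  exact ⟨ι, y, ⟨h1, h2⟩, h3⟩

theorem CycRel.isCSA (h : CycRel σ b ι y) (hσ : ∀ τ : K ≃ₐ[k] K, τ ∈ Subgroup.zpowers σ)
    (hd : Module.finrank k A = Module.finrank k K ^ 2) : IsCSA k A := by
  have hpos : 0 < Module.finrank k A := hd ▸ pow_pos Module.finrank_pos 2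
  have : Nontrivial A := Module.nontrivial_of_finrank_pos hpos
  have hbij := h.cycMap_bijective hσ hd
  refine ⟨⟨fun z hz => ?_⟩, ⟨⟨fun I => ?_⟩⟩, Module.finite_of_finrank_pos hpos⟩
  · obtain ⟨f, rfl⟩ := hbij.2 z
    have hc := Subalgebra.mem_center_iff.1 hz
    have hf : ∀ j : Fin (Module.finrank k K), j.val ≠ 0 → f j = 0 := fun j hj => by
      have hj0 : j ≠ (⟨0, Module.finrank_pos⟩ : Fin (Module.finrank k K)) := fun h => hj (congrArg Fin.val h)
      obtain ⟨x, hx⟩ := exists_ne_pow hσ hj0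
      have heq : cycMap ι y (fun i => ((σ ^ i.val) x - x) * f i) = 0 := by
        rw [← sub_self (cycMap ι y f * ι x)]
        nth_rewrite 1 [← hc (ι x)]
        simp only [cycMap_apply, Finset.mul_sum, Finset.sum_mul, ← Finset.sum_sub_distrib]
        refine Finset.sum_congr rfl fun i _ => ?_
        rw [← mul_assoc, h.rel_pow, mul_assoc, mul_assoc, ← map_mul, ← map_mul, ← mul_sub, ← map_sub]
        congr 2
        ring
      have := congr_fun (hbij.1 (heq.trans (map_zero _).symm)) j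
      exact (mul_eq_zero.1 this).resolve_left (sub_ne_zero.2 (by simpa using hx))
    have hz0 : cycMap ι y f = ι (f ⟨0, Module.finrank_pos⟩) := by
      rw [cycMap_apply, Finset.sum_eq_single (⟨0, Module.finrank_pos⟩ : Fin (Module.finrank k K))
        (fun i _ hi => by rw [hf i fun h => hi (Fin.ext h), map_zero, mul_zero])
        (fun h => absurd (Finset.mem_univ _) h), pow_zero, one_mul]
    rw [hz0] at hc ⊢
    have hfix : σ (f ⟨0, Module.finrank_pos⟩) = f ⟨0, Module.finrank_pos⟩ := by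
      have := hc y
      rw [h.rel] at this
      exact (ι.toRingHom.injective (h.isUnit.mul_left_cancel this)).symm
    have hmem : f ⟨0, Module.finrank_pos⟩ ∈ (⊥ : IntermediateField k K) :=
      (IsGalois.mem_bot_iff_fixed _).2 fun τ => MulAction.mem_stabilizer_iff.1
        ((Subgroup.zpowers_le (H := MulAction.stabilizer (K ≃ₐ[k] K) (f ⟨0, Module.finrank_pos⟩))).2
          (MulAction.mem_stabilizer_iff.2 hfix) (hσ τ))
    obtain ⟨c, hcc⟩ := IntermediateField.mem_bot.1 hmem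
    exact Algebra.mem_bot.2 ⟨c, by rw [← hcc, AlgHom.commutes]⟩
  · by_cases hI : I = ⊥
    · exact Or.inl hI
    · refine Or.inr ?_
      obtain ⟨a, ha, ha0⟩ : ∃ a ∈ I, a ≠ 0 := by
        by_contra! hall
        exact hI (eq_bot_iff.2 fun a ha => (TwoSidedIdeal.mem_bot _).2 (hall a ha))
      obtain ⟨f, rfl⟩ := hbij.2 a
      obtain ⟨j, g, hg, hz⟩ := h.exists_monomial_mem hσ I.asIdeal.toAddSubgroup
        (fun x a ha => I.mul_mem_left _ _ ha) (fun x a ha => I.mul_mem_right _ _ ha) f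
        (fun h0 => ha0 (by rw [h0, map_zero])) ha
      obtain ⟨u, hu⟩ := (h.isUnit.pow j.val).mul ((isUnit_iff_ne_zero.2 hg).map ι)
      refine eq_top_iff.2 fun a _ => ?_
      have : a * (u⁻¹ : Aˣ) * (u : A) ∈ I := I.mul_mem_left _ _ (by rw [hu]; exact hz)
      rwa [mul_assoc, Units.inv_mul, mul_one] at this

theorem isCSA_of_isCyclicAlg (h : CSAGal.IsCyclicAlg k K σ b A) (hσ : ∀ τ : K ≃ₐ[k] K, τ ∈ Subgroup.zpowers σ) :
    IsCSA k A ∧ Curves.Splits k A K := by
  obtain ⟨ι, y, h, hd⟩ := exists_cycRel h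
  obtain ⟨i1, i2, i3⟩ := h.isCSA hσ hd
  exact ⟨⟨i1, i2, i3⟩, splits_of_subfield ι hd rfl⟩

/-- Cyclic algebras with the same parameters are isomorphic. -/
theorem CycRel.exists_algHom {B : Type x} [Ring B] [Algebra k B] {ι' : K →ₐ[k] B} {y' : B}
    (h : CycRel σ b ι y) (h' : CycRel σ b ι' y') (hσ : ∀ τ : K ≃ₐ[k] K, τ ∈ Subgroup.zpowers σ)
    (hd : Module.finrank k A = Module.finrank k K ^ 2) :
    ∃ φ : A →ₐ[k] B, φ y = y' ∧ ∀ c, φ (ι c) = ι' c := by
  classical
  let e := LinearEquiv.ofBijective (cycMap ι y) (h.cycMap_bijective hσ hd)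
  let φ : A →ₗ[k] B := (cycMap ι' y').comp e.symm.toLinearMap
  have hmono : ∀ (m : ℕ) (c : K), φ (y ^ m * ι c) = y' ^ m * ι' c := by
    intro m c
    have hlt : m % Module.finrank k K < Module.finrank k K := Nat.mod_lt _ Module.finrank_pos
    have hm : y ^ m * ι c =
        (b : k) ^ (m / Module.finrank k K) • cycMap ι y (Pi.single ⟨_, hlt⟩ c) := by
      rw [cycMap_single, h.pow_mod m, mul_assoc, Algebra.smul_def]
    rw [hm, map_smul, h'.pow_mod m, mul_assoc, ← Algebra.smul_def, ← cycMap_single ⟨_, hlt⟩ c]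
    congr 1
    exact congrArg _ (e.symm_apply_apply _)
  refine ⟨AlgHom.ofLinearMap φ ?_ ?_, ?_, fun c => ?_⟩
  · simpa using hmono 0 1
  · intro a a'
    obtain ⟨f, rfl⟩ := (h.cycMap_bijective hσ hd).2 a
    obtain ⟨g, rfl⟩ := (h.cycMap_bijective hσ hd).2 a'
    simp only [cycMap_apply, Finset.sum_mul, Finset.mul_sum, map_sum]
    refine Finset.sum_congr rfl fun i _ => Finset.sum_congr rfl fun j _ => ?_
    rw [h.mul_monomial, hmono, hmono, hmono, h'.mul_monomial]
  · simpa using hmono 1 1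
  · simpa using hmono 0 c

theorem nonempty_algEquiv_of_isCyclicAlg {B : Type x} [Ring B] [Algebra k B]
    (h : CSAGal.IsCyclicAlg k K σ b A) (h' : CSAGal.IsCyclicAlg k K σ b B)
    (hσ : ∀ τ : K ≃ₐ[k] K, τ ∈ Subgroup.zpowers σ) : Nonempty (A ≃ₐ[k] B) := by
  obtain ⟨ι, y, h, hd⟩ := exists_cycRel h
  obtain ⟨ι', y', h', hd'⟩ := exists_cycRel h'
  obtain ⟨φ, h1, -⟩ := h.exists_algHom h' hσ hd
  obtain ⟨i1, i2, i3⟩ := h.isCSA hσ hd
  obtain ⟨j1, j2, j3⟩ := h'.isCSA hσ hd'
  exact ⟨AlgEquiv.ofBijective φ ⟨φ.toRingHom.injective,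
    (LinearMap.injective_iff_surjective_of_finrank_eq_finrank (f := φ.toLinearMap) (hd.trans hd'.symm)).1
      φ.toRingHom.injective⟩⟩

end

end Groth.Agent.CSA
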