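import Groth.Agent.CSA.CyclicTensor
import Mathlib.Data.Matrix.Basic
import Mathlib.LinearAlgebra.Matrix.ToLin

/-!
The matrix model of a cyclic algebra.
-/

set_option autoImplicit false

universe u v w

open scoped TensorProduct

namespace Groth.Agent.CSA

variable {k : Type u} [Field k] {K : Type v} [Field K] [Algebra k K]

/-- The companion matrix of `Xⁿ - b`. -/
noncomputable def cycMat (b : kˣ) : Matrix (Fin (Module.finrank k K)) (Fin (Module.finrank k K)) K :=
  Matrix.of fun i j : Fin (Module.finrank k K) =>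
    if j.val + 1 = i.val then (1 : K)
    else if i.val = 0 ∧ j.val + 1 = Module.finrank k K then algebraMap k K (b : k) else 0

theorem cycMat_map (σ : K ≃ₐ[k] K) (b : kˣ) : (cycMat (K := K) b).map (fun x => σ x) = cycMat b := by
  ext i j
  simp only [cycMat, Matrix.map_apply, Matrix.of_apply]
  split_ifs <;> simp

/-- The fixed algebra of the twisted Galois action on matrices. -/
noncomputable def cycModel (σ : K ≃ₐ[k] K) (b : kˣ) :
    Subalgebra k (Matrix (Fin (Module.finrank k K)) (Fin (Module.finrank k K)) K) :=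
  let f := σ.toAlgHom.mapMatrix (m := Fin (Module.finrank k K))
  { carrier := {M | cycMat b * f M = M * cycMat b}
    mul_mem' := fun {a c} (ha : _ = _) (hc : _ = _) => show _ = _ by
      rw [map_mul, ← mul_assoc, ha, mul_assoc, hc, mul_assoc]
    add_mem' := fun {a c} (ha : _ = _) (hc : _ = _) => show _ = _ by
      rw [map_add, mul_add, add_mul, ha, hc]
    algebraMap_mem' := fun r => show _ = _ by
      rw [AlgHom.commutes, Algebra.commutes] }

theorem mem_cycModel {σ : K ≃ₐ[k] K} {b : kˣ} {M : Matrix (Fin (Module.finrank k K)) (Fin (Module.finrank k K)) K} :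
    M ∈ cycModel σ b ↔ cycMat b * M.map (fun x => σ x) = M * cycMat b := Iff.rfl

variable [FiniteDimensional k K] [IsGalois k K] {σ : K ≃ₐ[k] K}

theorem cycModel_spec (hσ : ∀ τ : K ≃ₐ[k] K, τ ∈ Subgroup.zpowers σ) (b : kˣ) :
    ∃ (ι : K →ₐ[k] cycModel σ b) (y : cycModel σ b), CycRel σ b ι y ∧
      Module.finrank k (cycModel σ b) = Module.finrank k K ^ 2 := by
  classical
  set n := Module.finrank k K with hn
  have hpos : 0 < n := Module.finrank_pos
  have hσn : σ ^ n = 1 := by rw [hn, ← orderOf_generator hσ]; exact pow_orderOf_eq_one σ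
  let N : Matrix (Fin n) (Fin n) K := cycMat b
  let e : ∀ m : ℕ, m < n → Fin n → K := fun m hm => Pi.single ⟨m, hm⟩ 1
  have hNe : ∀ m (hm : m + 1 < n), N.mulVec (e m (by omega)) = e (m + 1) hm := by
    intro m hm
    ext i
    simp only [e, N, Matrix.mulVec_single_one, Matrix.col_apply, cycMat, Matrix.of_apply, Pi.single_apply, Fin.ext_iff]
    split_ifs <;> first | rfl | omega
  have hNlast : N.mulVec (e (n - 1) (by omega)) = algebraMap k K b • e 0 hpos := by
    ext i
    simp only [e, N, Matrix.mulVec_single_one, Matrix.col_apply, cycMat, Matrix.of_apply, Pi.single_apply,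
      Fin.ext_iff, Pi.smul_apply, smul_eq_mul, mul_ite, mul_one, mul_zero]
    have := i.2
    split_ifs <;> first | rfl | omega
  have hpow : ∀ m (hm : m < n), (N ^ m).mulVec (e 0 hpos) = e m hm := by
    intro m
    induction m with
    | zero => intro hm; rw [pow_zero, Matrix.one_mulVec]
    | succ m ih =>
        intro hm
        rw [pow_succ', ← Matrix.mulVec_mulVec, ih (by omega), hNe m hm]
  have hNn : N ^ n = algebraMap k (Matrix (Fin n) (Fin n) K) (b : k) := by
    refine Matrix.ext_of_mulVec_single fun i => ?_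
    rw [Algebra.algebraMap_eq_smul_one, Matrix.smul_mulVec, Matrix.one_mulVec,
      show (Pi.single i 1 : Fin n → K) = e i.val i.2 from rfl, ← hpow i.val i.2, Matrix.mulVec_mulVec, ← pow_add,
      Nat.add_comm, pow_add, ← Matrix.mulVec_mulVec]
    rw [show (N ^ n).mulVec (e 0 hpos) = (b : k) • e 0 hpos by
      rw [show N ^ n = N ^ (n - 1 + 1) from congrArg (N ^ ·) (by omega), pow_succ', ← Matrix.mulVec_mulVec,
        hpow (n - 1) (by omega), hNlast]
      exact algebraMap_smul K (b : k) (e 0 hpos), Matrix.mulVec_smul]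
  let D : K →ₐ[k] Matrix (Fin n) (Fin n) K :=
    (Matrix.diagonalAlgHom k).comp
      { toFun := fun x i => (σ ^ i.val) x, map_one' := funext fun i => map_one _,
        map_mul' := fun a c => funext fun i => map_mul _ a c, map_zero' := funext fun i => map_zero _,
        map_add' := fun a c => funext fun i => map_add _ a c,
        commutes' := fun c => funext fun i => AlgEquiv.commutes _ c }
  have hD : ∀ x, D x = Matrix.diagonal fun i => (σ ^ i.val) x := fun x => rfl
  have hshift : ∀ (x : K) (i j : Fin n), N i j * σ ((σ ^ j.val) x) = (σ ^ i.val) x * N i j := by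
    intro x i j
    simp only [N, cycMat, Matrix.of_apply]
    split_ifs with h1 h2
    · rw [one_mul, mul_one, ← AlgEquiv.mul_apply, ← pow_succ', h1]
    · rw [mul_comm, ← AlgEquiv.mul_apply, ← pow_succ', h2.2, hσn, h2.1, pow_zero]
    · rw [zero_mul, mul_zero]
  have hDmem : ∀ x, D x ∈ cycModel σ b := fun x => by
    rw [mem_cycModel, hD, Matrix.diagonal_map (map_zero σ)]
    ext i j
    rw [Matrix.mul_diagonal, Matrix.diagonal_mul]
    exact hshift x i j
  have hNmem : N ∈ cycModel σ b := by rw [mem_cycModel, cycMat_map]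
  have hrel : CycRel σ b (D.codRestrict (cycModel σ b) hDmem) (⟨N, hNmem⟩ : cycModel σ b) :=
    ⟨Subtype.ext hNn, fun x => Subtype.ext (by
      show D x * N = N * D (σ x)
      ext i j
      rw [hD, hD, Matrix.mul_diagonal, Matrix.diagonal_mul, ← hshift x i j, ← AlgEquiv.mul_apply,
        ← AlgEquiv.mul_apply, ← pow_succ', pow_succ])⟩
  have : Nontrivial (cycModel σ b) := by
    have : Nonempty (Fin n) := ⟨⟨0, hpos⟩⟩
    exact ⟨⟨0, 1, fun h => zero_ne_one (congrArg Subtype.val h)⟩⟩
  refine ⟨_, _, hrel, le_antisymm ?_ ?_⟩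
  · let col : cycModel σ b →ₗ[k] (Fin n → K) :=
      { toFun := fun M i => M.1 i ⟨0, hpos⟩, map_add' := fun _ _ => rfl, map_smul' := fun _ _ => rfl }
    have hcol : Function.Injective col := by
      rw [injective_iff_map_eq_zero]
      intro M hM
      refine Subtype.ext (Matrix.ext fun i j => ?_)
      obtain ⟨j, hj⟩ := j
      induction j generalizing i with
      | zero => exact congr_fun hM i
      | succ j ih =>
          have h2 := congr_fun (congr_fun (mem_cycModel.1 M.2) i) ⟨j, by omega⟩
          rw [Matrix.mul_apply, Finset.sum_eq_zero (fun l _ => by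
              rw [Matrix.map_apply, ih l (by omega)]; simp),
            Matrix.mul_apply, Finset.sum_eq_single ⟨j + 1, hj⟩ (fun l _ hl => by
              rw [cycMat, Matrix.of_apply, if_neg fun h => hl (Fin.ext h.symm), if_neg (fun h => by
                have := h.2; simp only at this; omega), mul_zero])
              (fun h => absurd (Finset.mem_univ _) h), cycMat, Matrix.of_apply, if_pos rfl, mul_one] at h2
          exact h2.symm
    have := LinearMap.finrank_le_finrank_of_injective hcol
    rw [Module.finrank_pi_fintype, Finset.sum_const, Finset.card_univ, Fintype.card_fin, smul_eq_mul, ← sq] at this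
    exact this
  · have := LinearMap.finrank_le_finrank_of_injective (hrel.cycMap_injective hσ)
    rw [Module.finrank_pi_fintype, Finset.sum_const, Finset.card_univ, Fintype.card_fin, smul_eq_mul, ← sq] at this
    exact this

theorem isCyclicAlg_cycModel (hσ : ∀ τ : K ≃ₐ[k] K, τ ∈ Subgroup.zpowers σ) (b : kˣ) :
    CSAGal.IsCyclicAlg k K σ b (cycModel σ b) := by
  obtain ⟨ι, y, h, hd⟩ := cycModel_spec hσ b
  exact h.isCyclicAlg hσ hd

theorem brEq_tpow_cyclic (hσ : ∀ τ : K ≃ₐ[k] K, τ ∈ Subgroup.zpowers σ) (b : kˣ) {A : Type w} [Ring A]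
    [Algebra k A] (hA : CSAGal.IsCyclicAlg k K σ b A) :
    ∀ e : ℕ, BrEq k (CSAGal.tpow k A e) (cycModel σ (b ^ e))
  | 0 => brEq_tpow_zero.trans ((brEq_self_iff_norm (isCyclicAlg_cycModel hσ (b ^ 0)) hσ).2
      ⟨1, by simp⟩).symm
  | e + 1 => (brEq_tpow_add e 1).trans (((brEq_tpow_cyclic hσ b hA e).tensor brEq_tpow_one).trans
      (brEq_tensor_cyclic hσ (isCyclicAlg_cycModel hσ (b ^ e)) hA
        (by rw [← pow_succ]; exact isCyclicAlg_cycModel hσ (b ^ (e + 1)))))

end Groth.Agent.CSA
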