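import Groth.Agent.CSA.Cyclic

/-!
Cyclic algebras: norms, splitting, recognition.
-/

set_option autoImplicit false

universe u v w x

open scoped TensorProduct

namespace Groth.Agent.CSA

variable {k : Type u} [Field k] {K : Type v} [Field K] [Algebra k K] [FiniteDimensional k K] [IsGalois k K]
  {σ : K ≃ₐ[k] K} {b : kˣ} {A : Type w} [Ring A] [Algebra k A] {ι : K →ₐ[k] A} {y : A}

theorem prod_pow_eq_norm (hσ : ∀ τ : K ≃ₐ[k] K, τ ∈ Subgroup.zpowers σ) (z : K) :
    ∏ i ∈ Finset.range (Module.finrank k K), (σ ^ i) z = algebraMap k K (Algebra.norm k z) := by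
  classical
  rw [Algebra.norm_eq_prod_automorphisms, Finset.prod_range]
  refine Fintype.prod_bijective (fun i : Fin (Module.finrank k K) => σ ^ i.val) ?_ _ _ fun i => rfl
  refine (Fintype.bijective_iff_injective_and_card _).2 ⟨fun i j hij => Fin.ext (pow_injOn_Iio_orderOf ?_ ?_ hij), ?_⟩
  · rw [Set.mem_Iio, orderOf_generator hσ]; exact i.2
  · rw [Set.mem_Iio, orderOf_generator hσ]; exact j.2
  · rw [Fintype.card_fin, ← IsGalois.card_aut_eq_finrank k K, Nat.card_eq_fintype_card]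

/-- Scaling the generator by `z` multiplies the parameter by the norm of `z`. -/
theorem CycRel.scale (h : CycRel σ b ι y) (hσ : ∀ τ : K ≃ₐ[k] K, τ ∈ Subgroup.zpowers σ) {c : kˣ} {z : K}
    (hc : (c : k) = b * Algebra.norm k z) : CycRel σ c ι (y * ι z) where
  pow_eq := by rw [h.mul_pow, prod_pow_eq_norm hσ, h.pow_eq, AlgHom.commutes, ← map_mul, hc]
  rel x := by rw [← mul_assoc, h.rel, mul_assoc, ← map_mul, mul_comm (σ x) z, map_mul, ← mul_assoc]

/-- Two presentations with the same `ι` differ by a norm. -/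
theorem CycRel.exists_norm {b' : kˣ} {y' : A} (h : CycRel σ b ι y) (h' : CycRel σ b' ι y')
    (hσ : ∀ τ : K ≃ₐ[k] K, τ ∈ Subgroup.zpowers σ) (hd : Module.finrank k A = Module.finrank k K ^ 2) :
    ∃ z : K, (b' : k) = b * Algebra.norm k z := by
  obtain ⟨i1, i2, i3⟩ := h.isCSA hσ hd
  obtain ⟨u, hu⟩ := h.isUnit
  obtain ⟨z, hz⟩ := mem_range_of_commute ι hd rfl ((u⁻¹ : Aˣ) * y') fun x => by
    have h1 := h'.rel (σ.symm x)
    have h2 := h.rel (σ.symm x)
    rw [σ.apply_symm_apply, ← hu] at h2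
    rw [σ.apply_symm_apply] at h1
    have h3 : ι x * (u⁻¹ : Aˣ) = (u⁻¹ : Aˣ) * ι (σ.symm x) := by
      rw [Units.eq_inv_mul_iff_mul_eq, ← mul_assoc, ← h2, mul_assoc, Units.mul_inv, mul_one]
    rw [← mul_assoc, h3, mul_assoc, h1, ← mul_assoc]
  refine ⟨z, ?_⟩
  have hy : y' = y * ι z := by
    rw [show ι z = (u⁻¹ : Aˣ) * y' from hz, ← hu, ← mul_assoc, Units.mul_inv, one_mul]
  have := h'.pow_eq
  rw [hy, h.mul_pow, prod_pow_eq_norm hσ, h.pow_eq, AlgHom.commutes, ← map_mul] at this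
  exact ((algebraMap k A).injective this).symm

/-- `End_k K` is the cyclic algebra with parameter one. -/
theorem cycRel_end :
    CycRel σ 1 (Algebra.lmul k K) (σ.symm.toLinearMap : Module.End k K) where
  pow_eq := by
    have hpow : ∀ m : ℕ, (σ.symm.toLinearMap : Module.End k K) ^ m = (σ⁻¹ ^ m : K ≃ₐ[k] K).toLinearMap := by
      intro m
      induction m with
      | zero => rfl
      | succ m ih => rw [pow_succ, ih, pow_succ]; rfl
    rw [hpow, Units.val_one, map_one]
    have hdvd : orderOf σ⁻¹ ∣ Module.finrank k K := by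
      rw [orderOf_inv]
      exact (orderOf_dvd_natCard σ).trans (dvd_of_eq (IsGalois.card_aut_eq_finrank k K))
    rw [orderOf_dvd_iff_pow_eq_one.1 hdvd]
    rfl
  rel x := LinearMap.ext fun v => by
    show x * σ.symm v = σ.symm (σ x * v)
    rw [map_mul, σ.symm_apply_apply]

omit [IsGalois k K] in
theorem finrank_end_sq : Module.finrank k (Module.End k K) = Module.finrank k K ^ 2 := by
  rw [Module.finrank_linearMap, sq]

omit [IsGalois k K] in
theorem brEq_end : BrEq k (Module.End k K) k :=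
  .of_matrix (algEquivMatrix (Module.finBasis k K)) (Module.finrank_pos (R := k) (M := K)).ne'

/-- The norm criterion. -/
theorem brEq_self_iff_norm (h : CSAGal.IsCyclicAlg k K σ b A) (hσ : ∀ τ : K ≃ₐ[k] K, τ ∈ Subgroup.zpowers σ) :
    BrEq k A k ↔ ∃ x : K, Algebra.norm k x = (b : k) := by
  have h0 : CycRel σ 1 (Algebra.lmul k K) (σ.symm.toLinearMap : Module.End k K) := cycRel_end
  have hE := h0.isCSA hσ finrank_end_sq
  have hA := (isCSA_of_isCyclicAlg h hσ).1
  obtain ⟨ι, y, h, hd⟩ := exists_cycRel h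
  constructor
  · intro hbr
    obtain ⟨ψ⟩ := (hbr.trans brEq_end.symm).algEquiv_of_finrank hA hE (hd.trans finrank_end_sq.symm)
    obtain ⟨e1, e2, e3⟩ := hE
    obtain ⟨u, hu⟩ := skolemNoether (k := k) (A := Module.End k K) (B := K) (ψ.toAlgHom.comp ι) (Algebra.lmul k K)
    have h2 : CycRel σ b (Algebra.lmul k K) ((u⁻¹ : (Module.End k K)ˣ) * ψ y * u) := by
      constructor
      · rw [show ((u⁻¹ : (Module.End k K)ˣ) : Module.End k K) * ψ y * u = (u⁻¹ : (Module.End k K)ˣ) * ψ y *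
          ((u⁻¹)⁻¹ : (Module.End k K)ˣ) by rw [inv_inv], Units.conj_pow, ← map_pow, h.pow_eq, AlgEquiv.commutes,
          inv_inv, ← Algebra.commutes, mul_assoc, Units.inv_mul, mul_one]
      · intro x
        have h1 := congrArg ψ (h.rel x)
        rw [map_mul, map_mul] at h1
        change (ψ.toAlgHom.comp ι) x * ψ y = ψ y * (ψ.toAlgHom.comp ι) (σ x) at h1
        rw [hu, hu] at h1
        have h1' := congrArg (fun t => ((u⁻¹ : (Module.End k K)ˣ) : Module.End k K) * t * u) h1
        simp only [mul_assoc, Units.inv_mul_cancel_left, Units.inv_mul, mul_one] at h1'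
        simpa only [mul_assoc] using h1'
    obtain ⟨z, hz⟩ := h0.exists_norm h2 hσ finrank_end_sq
    exact ⟨z, by rw [hz, Units.val_one, one_mul]⟩
  · rintro ⟨x, hx⟩
    have hx0 : x ≠ 0 := fun h0 => by
      rw [h0, Algebra.norm_zero] at hx
      exact b.ne_zero hx.symm
    have h1 : CycRel σ 1 ι (y * ι x⁻¹) :=
      h.scale hσ (by rw [Units.val_one, Algebra.norm_inv, hx, mul_inv_cancel₀ b.ne_zero])
    obtain ⟨e⟩ := nonempty_algEquiv_of_isCyclicAlg (h1.isCyclicAlg hσ hd) (h0.isCyclicAlg hσ finrank_end_sq) hσ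
    exact (BrEq.of_algEquiv e).trans brEq_end

/-- A central simple algebra of degree `[K:k]` split by `K` is cyclic. -/
theorem exists_isCyclicAlg_of_embedding (hA : IsCSA k A) (hd : Module.finrank k A = Module.finrank k K ^ 2)
    (ι : K →ₐ[k] A) (hσ : ∀ τ : K ≃ₐ[k] K, τ ∈ Subgroup.zpowers σ) : ∃ b : kˣ, CSAGal.IsCyclicAlg k K σ b A := by
  obtain ⟨i1, i2, i3⟩ := hA
  obtain ⟨u, hu⟩ := skolemNoether (k := k) (A := A) (B := K) ι (ι.comp σ.toAlgHom)
  have hrel : ∀ x : K, ι x * (u : A) = u * ι (σ x) := fun x => by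
    conv_lhs => rw [hu x]
    rw [mul_assoc, Units.inv_mul, mul_one]
    rfl
  have hpow : ∀ (j : ℕ) (x : K), ι x * (u : A) ^ j = (u : A) ^ j * ι ((σ ^ j) x) := by
    intro j
    induction j with
    | zero => intro x; simp
    | succ j ih =>
        intro x
        rw [pow_succ, ← mul_assoc, ih, mul_assoc, hrel, ← mul_assoc, ← AlgEquiv.mul_apply, ← pow_succ']
  have hn : σ ^ Module.finrank k K = 1 := by
    rw [← orderOf_generator hσ]; exact pow_orderOf_eq_one σ
  obtain ⟨c, hc⟩ := mem_range_of_commute ι hd rfl ((u : A) ^ Module.finrank k K) fun x => by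
    rw [hpow, hn]; rfl
  have hc' : ι c = (u : A) ^ Module.finrank k K := hc
  have hfix : σ c = c := by
    refine (ι.toRingHom.injective (u.isUnit.mul_left_cancel ?_)).symm
    show (u : A) * ι c = u * ι (σ c)
    rw [← hrel, hc', ← pow_succ, ← pow_succ']
  have hmem : c ∈ (⊥ : IntermediateField k K) := (IsGalois.mem_bot_iff_fixed _).2 fun τ =>
    MulAction.mem_stabilizer_iff.1 ((Subgroup.zpowers_le (H := MulAction.stabilizer (K ≃ₐ[k] K) c)).2
      (MulAction.mem_stabilizer_iff.2 hfix) (hσ τ))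
  obtain ⟨b, rfl⟩ := IntermediateField.mem_bot.1 hmem
  rw [AlgHom.commutes] at hc'
  have hb : b ≠ 0 := fun h0 => by
    rw [h0, map_zero] at hc'
    exact (u.isUnit.pow _).ne_zero hc'.symm
  exact ⟨Units.mk0 b hb, CycRel.isCyclicAlg (σ := σ) (b := Units.mk0 b hb) ⟨hc'.symm, hrel⟩ hσ hd⟩

omit [IsGalois k K] in
/-- A central simple algebra of degree `[K:k]` split by `K` contains `K`. -/
theorem exists_embedding_of_splits (hA : IsCSA k A) (hd : Module.finrank k A = Module.finrank k K ^ 2)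
    (hs : Curves.Splits k A K) : Nonempty (K →ₐ[k] A) := by
  obtain ⟨C, _, _, ι, hC, hCd, hbr⟩ := exists_brEq_of_splits hA K hs
  obtain ⟨e⟩ := hbr.algEquiv_of_finrank hC hA (hCd.trans hd.symm)
  exact ⟨e.toAlgHom.comp ι⟩

end Groth.Agent.CSA
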