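import Groth.Agent.CSA.AntiSym
import Mathlib.GroupTheory.Sylow
import Mathlib.Data.Nat.Factorization.Basic

/-!
Period and index have the same prime factors.
-/

set_option autoImplicit false

universe u v w x

open scoped TensorProduct

namespace Groth.Agent.CSA

variable {k : Type u} [Field k] {A : Type v} [Ring A] [Algebra k A] {B : Type w} [Ring B] [Algebra k B]

/-- `M ⊗[K] (K ⊗[k] B) ≃ M ⊗[k] B` for noncommutative algebras. -/
noncomputable def cancelBC' (K : Type x) [Field K] [Algebra k K] (M : Type*) [Ring M] [Algebra k M] [Algebra K M]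
    [IsScalarTower k K M] (B : Type w) [Ring B] [Algebra k B] : M ⊗[K] (K ⊗[k] B) ≃ₐ[K] M ⊗[k] B :=
  AlgEquiv.symm <| AlgEquiv.ofLinearEquiv
    (TensorProduct.AlgebraTensorModule.cancelBaseChange k K K M B).symm
    (by simp [Algebra.TensorProduct.one_def]) <|
      LinearMap.map_mul_of_map_mul_tmul (fun _ _ _ _ ↦ by simp)

/-- Base change commutes with tensor products of algebras. -/
noncomputable def baseChangeTensor (K : Type x) [Field K] [Algebra k K] (A : Type v) [Ring A] [Algebra k A]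
    (B : Type w) [Ring B] [Algebra k B] : (K ⊗[k] A) ⊗[K] (K ⊗[k] B) ≃ₐ[K] K ⊗[k] (A ⊗[k] B) :=
  (cancelBC' K (K ⊗[k] A) B).trans (Algebra.TensorProduct.assoc k k K K A B)

theorem brEq_baseChange_tpow (K : Type x) [Field K] [Algebra k K] :
    ∀ e : ℕ, BrEq K (CSAGal.tpow K (K ⊗[k] A) e) (K ⊗[k] CSAGal.tpow k A e)
  | 0 => brEq_tpow_zero.trans ((BrEq.of_algEquiv (Algebra.TensorProduct.rid k K K)).symm.trans
      (brEq_tpow_zero (k := k) (A := A) |>.baseChange K).symm)
  | e + 1 => (brEq_tpow_add e 1).trans ((((brEq_baseChange_tpow K e).tensor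
      (brEq_tpow_one.trans ((brEq_tpow_one (k := k) (A := A)).baseChange K).symm))).trans
      ((BrEq.of_algEquiv (baseChangeTensor K _ _)).trans
        ((brEq_tpow_add (k := k) (A := A) e 1).baseChange K).symm))

theorem exists_period (hA : IsCSA k A) : ∃ e, CSAGal.IsPeriod k A e := by
  classical
  have h : ∃ e, 0 < e ∧ Curves.Splits k (CSAGal.tpow k A e) k :=
    ⟨ind k A, ind_pos hA, (splits_self_iff_brEq (hA.tpow _)).2 (brEq_tpow_ind hA)⟩
  exact ⟨Nat.find h, (Nat.find_spec h).1, (Nat.find_spec h).2, fun e' he' hlt hs => Nat.find_min h hlt ⟨he', hs⟩⟩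

theorem period_dvd_ind (hA : IsCSA k A) {e : ℕ} (he : CSAGal.IsPeriod k A e) : e ∣ ind k A :=
  period_dvd hA he (brEq_tpow_ind hA)

theorem brEq_of_coprime (hA : IsCSA k A) {m n : ℕ} (hm : BrEq k (CSAGal.tpow k A m) k)
    (hn : BrEq k (CSAGal.tpow k A n) k) (h : Nat.Coprime m n) : BrEq k A k := by
  obtain ⟨e, he⟩ := exists_period hA
  have : e = 1 := Nat.eq_one_of_dvd_coprimes h (period_dvd hA he hm) (period_dvd hA he hn)
  subst this
  exact brEq_tpow_one.symm.trans ((splits_self_iff_brEq (hA.tpow 1)).1 he.2.1)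

/-- Every prime factor of the index divides every exponent killing the class. -/
theorem prime_dvd_of_dvd_ind (hA : IsCSA k A) {e : ℕ} (he : BrEq k (CSAGal.tpow k A e) k) {p : ℕ}
    (hp : p.Prime) (hpd : p ∣ ind k A) : p ∣ e := by
  obtain ⟨i1, i2, i3⟩ := hA
  have hA : IsCSA k A := ⟨i1, i2, i3⟩
  obtain ⟨K, _, _, _, _, hK⟩ := exists_galois_splitting k A
  have : Fact p.Prime := ⟨hp⟩
  obtain ⟨P⟩ : Nonempty (Sylow p (K ≃ₐ[k] K)) := inferInstance
  set L := IntermediateField.fixedField (P : Subgroup (K ≃ₐ[k] K)) with hL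
  have hKL : Module.finrank L K = Nat.card P := IntermediateField.finrank_fixedField_eq_card _
  have hidx : ¬ p ∣ Module.finrank k L := by
    intro hdvd
    have hmul := Module.finrank_mul_finrank k L K
    rw [hKL, ← IsGalois.card_aut_eq_finrank k K, ← Subgroup.index_mul_card (P : Subgroup (K ≃ₐ[k] K))] at hmul
    exact P.not_dvd_index (Nat.eq_of_mul_eq_mul_right Nat.card_pos hmul ▸ hdvd)
  have hAL : IsCSA L (L ⊗[k] A) := hA.baseChange L
  have hsK : Curves.Splits L (L ⊗[k] A) K := by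
    obtain ⟨n, hn, ⟨φ⟩⟩ := hK
    exact ⟨n, hn, ⟨(cancelBC (k := k) L K A).trans φ⟩⟩
  obtain ⟨a, ha⟩ := P.isPGroup'.exists_card_eq
  have hdvd : ind L (L ⊗[k] A) ∣ p ^ a := ha ▸ hKL ▸ ind_dvd_of_splits hAL K hsK
  obtain ⟨b, -, hb⟩ := (Nat.dvd_prime_pow hp).1 hdvd
  have hpL : p ∣ ind L (L ⊗[k] A) := by
    refine (hp.dvd_mul.1 (hpd.trans (ind_dvd_finrank_mul hA L))).resolve_left hidx
  by_contra hpe
  have htriv : BrEq L (L ⊗[k] A) L := by
    refine brEq_of_coprime hAL (brEq_tpow_ind hAL) ?_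
      (hb ▸ Nat.Coprime.pow_left b ((Nat.Prime.coprime_iff_not_dvd hp).2 hpe))
    exact (brEq_baseChange_tpow L e).trans ((he.baseChange L).trans
      (.of_algEquiv (Algebra.TensorProduct.rid k L L)))
  rw [(ind_eq_one_iff hAL).2 htriv] at hpL
  exact hp.one_lt.ne' (Nat.dvd_one.1 hpL)

theorem ind_dvd_pow {e : ℕ} (hA : IsCSA k A) (he0 : 0 < e) (he : BrEq k (CSAGal.tpow k A e) k) :
    ind k A ∣ e ^ (ind k A - 1) := by
  have hd := ind_pos hA
  refine (Nat.factorization_le_iff_dvd hd.ne' (pow_ne_zero _ he0.ne')).1 fun p => ?_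
  rw [Nat.factorization_pow, Finsupp.coe_smul, Pi.smul_apply, smul_eq_mul]
  by_cases h : (ind k A).factorization p = 0
  · simp [h]
  · have hmem : p ∈ (ind k A).primeFactors := by
      rw [← Nat.support_factorization]; exact Finsupp.mem_support_iff.2 h
    have hp := Nat.prime_of_mem_primeFactors hmem
    have h1 : 1 ≤ e.factorization p :=
      hp.factorization_pos_of_dvd he0.ne' (prime_dvd_of_dvd_ind hA he hp (Nat.dvd_of_mem_primeFactors hmem))
    have h2 := Nat.factorization_lt p hd.ne'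
    calc (ind k A).factorization p ≤ ind k A - 1 := by omega
      _ ≤ (ind k A - 1) * e.factorization p := Nat.le_mul_of_pos_right _ h1

theorem ind_coprime {e n : ℕ} (hA : IsCSA k A) (he : BrEq k (CSAGal.tpow k A e) k) (h : Nat.Coprime e n) :
    Nat.Coprime (ind k A) n := by
  refine Nat.coprime_of_dvd fun p hp h1 h2 => ?_
  exact hp.one_lt.ne' (Nat.dvd_one.1 (h ▸ Nat.dvd_gcd (prime_dvd_of_dvd_ind hA he hp h1) h2))

end Groth.Agent.CSA
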