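import Groth.Agent.CSA.PiTensor
import Groth.Agent.CSA.Period
import Mathlib.Algebra.Algebra.Shrink
import Mathlib.Algebra.Field.Shrink
import Mathlib.Data.Nat.ModEq

/-!
Primary decomposition of central division algebras.
-/

set_option autoImplicit false

universe u v w

open scoped TensorProduct

namespace Groth.Agent.CSA

theorem exists_crt_exponents (d : ℕ) (hd : d ≠ 0) :
    ∃ m : d.primeFactors → ℕ,
      (∀ p q : d.primeFactors, m p ≡ (if p = q then 1 else 0) [MOD q.1 ^ d.factorization q.1]) ∧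
      (∀ p : d.primeFactors, d ∣ m p * p.1 ^ d.factorization p.1) ∧
      (∑ p, m p) ≡ 1 [MOD d] := by
  classical
  have hpr : ∀ p : d.primeFactors, p.1.Prime := fun p => Nat.prime_of_mem_primeFactors p.2
  have hco : ∀ p : d.primeFactors, (p.1 ^ d.factorization p.1).Coprime (d / p.1 ^ d.factorization p.1) :=
    fun p => (Nat.coprime_ordCompl (hpr p) hd).pow_left _
  let m : d.primeFactors → ℕ := fun p => (Nat.chineseRemainder (hco p) 1 0).1
  have hm1 : ∀ p, m p ≡ 1 [MOD p.1 ^ d.factorization p.1] := fun p => (Nat.chineseRemainder (hco p) 1 0).2.1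
  have hm0 : ∀ p, d / p.1 ^ d.factorization p.1 ∣ m p :=
    fun p => Nat.modEq_zero_iff_dvd.1 (Nat.chineseRemainder (hco p) 1 0).2.2
  have hd' : ∀ p : d.primeFactors, d ∣ m p * p.1 ^ d.factorization p.1 := fun p => by
    conv_lhs => rw [← Nat.div_mul_cancel (Nat.ordProj_dvd d p.1)]
    exact Nat.mul_dvd_mul_right (hm0 p) _
  have key : ∀ p q : d.primeFactors, m p ≡ (if p = q then 1 else 0) [MOD q.1 ^ d.factorization q.1] := by
    intro p q
    split_ifs with h
    · exact h ▸ hm1 p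
    · refine Nat.modEq_zero_iff_dvd.2 (Nat.Coprime.dvd_of_dvd_mul_right ?_
        ((Nat.ordProj_dvd d q.1).trans (hd' p)))
      exact Nat.coprime_pow_primes _ _ (hpr q) (hpr p) fun h' => h (Subtype.ext h'.symm)
  refine ⟨m, key, hd', ?_⟩
  refine Nat.modEq_iff_dvd.2 (Int.natCast_dvd.2 ((Nat.dvd_iff_prime_pow_dvd_dvd _ _).2 fun p k hp hk => ?_))
  rcases Nat.eq_zero_or_pos k with rfl | hk0
  · simp
  have hpm : p ∈ d.primeFactors :=
    Nat.mem_primeFactors.2 ⟨hp, (dvd_pow_self p hk0.ne').trans hk, hd⟩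
  refine (Nat.pow_dvd_pow p ((hp.pow_dvd_iff_le_factorization hd).1 hk)).trans ?_
  refine Int.natCast_dvd.1 (Nat.modEq_iff_dvd.1 ?_)
  show (∑ x, m x) % _ = 1 % _
  rw [Finset.sum_nat_mod, Finset.sum_congr rfl fun x _ => key x ⟨p, hpm⟩, ← Finset.sum_nat_mod,
    Finset.sum_ite_eq' Finset.univ (⟨p, hpm⟩ : d.primeFactors) (fun _ => 1), if_pos (Finset.mem_univ _)]

variable {k : Type u} [Field k] {A : Type v} [Ring A] [Algebra k A]

theorem brEq_tpow_of_modEq {n a b : ℕ} (hn : BrEq k (CSAGal.tpow k A n) k) (h : a ≡ b [MOD n]) :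
    BrEq k (CSAGal.tpow k A a) (CSAGal.tpow k A b) := by
  have key : ∀ c, BrEq k (CSAGal.tpow k A c) (CSAGal.tpow k A (c % n)) := fun c =>
    (BrEq.of_algEquiv (powReindex A (finCongr (Nat.mod_add_div c n).symm))).trans ((brEq_tpow_add _ _).trans
      ((BrEq.refl.tensor (brEq_tpow_mul_of_brEq hn _)).trans BrEq.tensor_right_base))
  exact (key a).trans ((BrEq.of_algEquiv (powReindex A (finCongr h))).trans (key b).symm)

theorem brEq_pi_primary (hA : IsCSA k A) {d : ℕ} (hd : BrEq k (CSAGal.tpow k A d) k) (m : d.primeFactors → ℕ)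
    (hm : (∑ p, m p) ≡ 1 [MOD d]) : BrEq k (⨂[k] p, CSAGal.tpow k A (m p)) A :=
  (brEq_pi_tpow_sum d.primeFactors m).trans ((brEq_tpow_of_modEq hd hm).trans brEq_tpow_one)

theorem exists_divisionRing_small (D : Type v) [Ring D] [Algebra k D] [Nontrivial D]
    {B : Type w} [Ring B] [Algebra k B] (hB : IsCSA k B) :
    ∃ (E : Type v) (_ : DivisionRing E) (_ : Algebra k E), IsCSA k E ∧ Module.finrank k E = ind k B ^ 2 ∧
      BrEq k E B := by
  obtain ⟨a, ha, F, _, _, hfd, hc, hd, ⟨eB⟩⟩ := exists_divisionPart hB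
  have : Small.{v} k := small_of_injective (algebraMap k D).injective
  have : Small.{v} F := small_of_injective (Module.finBasis k F).equivFun.injective
  let e : Shrink.{v} F ≃ₐ[k] F := Shrink.algEquiv k F
  exact ⟨Shrink.{v} F, inferInstance, inferInstance, (IsCSA.of k F).of_algEquiv e.symm,
    e.toLinearEquiv.finrank_eq.trans hd, (BrEq.of_algEquiv e).trans (BrEq.of_matrix eB (NeZero.ne a)).symm⟩

end Groth.Agent.CSA
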