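import Groth.Agent.CSA.CyclicModel
import Groth.Agent.CSA.Primary
import Mathlib.RingTheory.AdjoinRoot
import Mathlib.FieldTheory.IntermediateField.Adjoin.Basic

/-!
Recognizing cyclic algebras from generators; transporting universes.
-/

set_option autoImplicit false

universe u v w

open scoped TensorProduct
open Polynomial

namespace Groth.Agent.CSA

variable {k : Type u} [Field k] {K : Type v} [Field K] [Algebra k K] [FiniteDimensional k K]

theorem exists_algHom_of_gen {A : Type w} [Ring A] [Algebra k A] (α : K)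
    (hgen : IntermediateField.adjoin k ({α} : Set K) = ⊤) (q : k[X]) (hq : q.Monic)
    (hdeg : q.natDegree = Module.finrank k K) (hqα : aeval α q = 0) (x : A) (hx : aeval x q = 0) :
    Algebra.adjoin k ({α} : Set K) = ⊤ ∧ ∃ ι : K →ₐ[k] A, ι α = x := by
  have hint : IsIntegral k α := Algebra.IsIntegral.isIntegral α
  have h1 : Algebra.adjoin k ({α} : Set K) = ⊤ := by
    rw [← IntermediateField.adjoin_simple_toSubalgebra_of_isAlgebraic hint.isAlgebraic, hgen,
      IntermediateField.top_toSubalgebra]
  have hmin : minpoly k α = q := by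
    refine (minpoly.unique' k α hq hqα fun r hr => ?_).symm
    by_cases hr0 : r = 0
    · exact Or.inl hr0
    · refine Or.inr fun h => ?_
      have h2 : Module.finrank k (IntermediateField.adjoin k ({α} : Set K)) = (minpoly k α).natDegree :=
        IntermediateField.adjoin.finrank hint
      rw [hgen, IntermediateField.finrank_top'] at h2
      have h3 : r.natDegree < q.natDegree := Polynomial.natDegree_lt_natDegree hr0 hr
      have h4 := Polynomial.natDegree_le_of_dvd (minpoly.dvd k α h) hr0
      omega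
  refine ⟨h1, ?_⟩
  let pb : PowerBasis k K := (IntermediateField.adjoin.powerBasis hint).map ((IntermediateField.equivOfEq hgen).trans IntermediateField.topEquiv)
  have hgen' : pb.gen = α := rfl
  exact ⟨pb.lift x (by rw [hgen', hmin, hx]), (congrArg _ hgen').symm.trans (PowerBasis.lift_gen pb x _)⟩

omit [FiniteDimensional k K] in
theorem rel_of_gen {A : Type w} [Ring A] [Algebra k A] {ι : K →ₐ[k] A} {y : A} {σ : K ≃ₐ[k] K} {α : K}
    (htop : Algebra.adjoin k ({α} : Set K) = ⊤) (h : ι α * y = y * ι (σ α)) (z : K) : ι z * y = y * ι (σ z) := by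
  have hz : z ∈ Algebra.adjoin k ({α} : Set K) := htop ▸ Algebra.mem_top
  induction hz using Algebra.adjoin_induction with
  | mem z hz => rw [Set.mem_singleton_iff.1 hz]; exact h
  | algebraMap r => rw [AlgEquiv.commutes, AlgHom.commutes]; exact Algebra.commutes r y
  | add a c _ _ ha hc => rw [map_add, map_add, map_add, add_mul, mul_add, ha, hc]
  | mul a c _ _ ha hc => rw [map_mul, map_mul, map_mul, mul_assoc, hc, ← mul_assoc, ha, mul_assoc]

omit [FiniteDimensional k K] in
theorem adjoin_pair_eq_top {A : Type w} [Ring A] [Algebra k A] {ι : K →ₐ[k] A} {y : A} {α : K}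
    (htop : Algebra.adjoin k ({α} : Set K) = ⊤) (h : Algebra.adjoin k (Set.range ι ∪ {y}) = ⊤) :
    Algebra.adjoin k ({ι α, y} : Set A) = ⊤ := by
  refine eq_top_iff.2 (h.symm.le.trans (Algebra.adjoin_le ?_))
  rintro _ (⟨z, rfl⟩ | rfl)
  · have hz : ι z ∈ (Algebra.adjoin k ({α} : Set K)).map ι := ⟨z, htop ▸ Algebra.mem_top, rfl⟩
    rw [AlgHom.map_adjoin, Set.image_singleton] at hz
    exact Algebra.adjoin_mono (Set.singleton_subset_iff.2 (Set.mem_insert _ _)) hz
  · exact Algebra.subset_adjoin (Set.mem_insert_of_mem _ rfl)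

omit [FiniteDimensional k K] in
theorem isCyclicAlg_of_algEquiv {σ : K ≃ₐ[k] K} {b : kˣ} {A B : Type*} [Ring A] [Algebra k A] [Ring B] [Algebra k B]
    (h : CSAGal.IsCyclicAlg k K σ b A) (e : A ≃ₐ[k] B) : CSAGal.IsCyclicAlg k K σ b B := by
  obtain ⟨ι, y, h1, h2, h3, h4, h5⟩ := h
  refine ⟨e.toAlgHom.comp ι, e y, ?_, fun x => ?_, ?_, h4, e.toLinearEquiv.finrank_eq.symm.trans h5⟩
  · rw [← map_pow, h1, AlgEquiv.commutes]
  · show e (ι x) * e y = e y * e (ι (σ x))
    rw [← map_mul, h2, map_mul]
  · have h6 := congrArg (Subalgebra.map e.toAlgHom) h3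
    rw [AlgHom.map_adjoin, Algebra.map_top, (AlgHom.range_eq_top _).2 e.surjective, Set.image_union,
      Set.image_singleton, ← Set.range_comp] at h6
    exact h6

end Groth.Agent.CSA
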