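import Groth.Agent.CSA.CyclicNorm
import Groth.Agent.CSA.Centralizer
import Mathlib.FieldTheory.Fixed
import Mathlib.RingTheory.Flat.Basic
import Mathlib.LinearAlgebra.Basis.VectorSpace

/-!
Products of cyclic algebras.
-/

set_option autoImplicit false

universe u v w x

open scoped TensorProduct

namespace Groth.Agent.CSA

section General

variable {k : Type u} [Field k]

/-- A central simple algebra of degree `n` with `n` orthogonal non-zero idempotents is split. -/
theorem brEq_self_of_idempotents {C : Type v} [Ring C] [Algebra k C] (hC : IsCSA k C) {ι : Type x} [Fintype ι]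
    (e : ι → C) (hne : ∀ i, e i ≠ 0) (hid : ∀ i, e i * e i = e i) (ho : ∀ i j, i ≠ j → e i * e j = 0)
    (hcard : Fintype.card ι = deg k C) : BrEq k C k := by
  classical
  obtain ⟨c1, c2, c3⟩ := hC
  have hC : IsCSA k C := ⟨c1, c2, c3⟩
  let L : ι → Submodule k C := fun i => LinearMap.range (LinearMap.mulRight k (e i))
  have hdvd : ∀ i, deg k C * ind k C ≤ Module.finrank k (L i) := by
    intro i
    let J : Ideal C := LinearMap.range (LinearMap.toSpanSingleton C C (e i))
    have hJ : Module.finrank k (J.restrictScalars k) = Module.finrank k (L i) := rfl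
    have : FiniteDimensional k J := inferInstanceAs (FiniteDimensional k (J.restrictScalars k))
    have h := ind_dvd_of_module hC J
    refine Nat.le_of_dvd ?_ (hJ ▸ h)
    have : Nontrivial (L i) := ⟨⟨⟨e i, 1, one_mul _⟩, 0, fun h => hne i (congrArg Subtype.val h)⟩⟩
    exact Module.finrank_pos
  let F : (Π i, L i) →ₗ[k] C := ∑ i, (L i).subtype.comp (LinearMap.proj i)
  have hF : Function.Injective F := by
    rw [injective_iff_map_eq_zero]
    intro f hf
    funext j
    have hfix : ∀ i (a : L i), (a : C) * e i = a := by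
      rintro i ⟨_, c, rfl⟩
      show c * e i * e i = c * e i
      rw [mul_assoc, hid]
    have h1 : F f * e j = f j := by
      simp only [F, LinearMap.coe_sum, Finset.sum_apply, LinearMap.comp_apply, LinearMap.proj_apply,
        Submodule.coe_subtype, Finset.sum_mul]
      rw [Finset.sum_eq_single j (fun i _ hij => by rw [← hfix i (f i), mul_assoc, ho i j hij, mul_zero])
        (fun h => absurd (Finset.mem_univ j) h), hfix]
    rw [hf, zero_mul] at h1
    exact Subtype.ext h1.symm
  have h := LinearMap.finrank_le_finrank_of_injective hF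
  rw [Module.finrank_pi_fintype, finrank_eq_deg_sq k C] at h
  have h2 : ∑ _i : ι, deg k C * ind k C ≤ deg k C ^ 2 := le_trans (Finset.sum_le_sum fun i _ => hdvd i) h
  rw [Finset.sum_const, Finset.card_univ, hcard, smul_eq_mul, ← mul_assoc, ← sq] at h2
  have hpos : 0 < deg k C ^ 2 := pow_pos (deg_pos k C) 2
  refine (ind_eq_one_iff hC).1 (le_antisymm ?_ (ind_pos hC))
  exact Nat.le_of_mul_le_mul_left (by rwa [mul_one]) hpos

/-- Splitting off the centralizer of a central simple subalgebra. -/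
theorem exists_centralizer_factor {T : Type v} [Ring T] [Algebra k T] {B : Type w} [Ring B] [Algebra k B]
    (hT : IsCSA k T) (hB : IsCSA k B) (φ : B →ₐ[k] T) :
    IsCSA k (Subalgebra.centralizer k (φ.range : Set T)) ∧
      Module.finrank k T = Module.finrank k B * Module.finrank k (Subalgebra.centralizer k (φ.range : Set T)) ∧
      BrEq k T (B ⊗[k] Subalgebra.centralizer k (φ.range : Set T)) := by
  obtain ⟨t1, t2, t3⟩ := hT
  obtain ⟨b1, b2, b3⟩ := hB
  have hinj : Function.Injective φ := φ.toRingHom.injective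
  obtain ⟨r1, r2, r3⟩ := (IsCSA.of k B).of_algEquiv (B := ↥φ.range) (AlgEquiv.ofInjective φ hinj)
  obtain ⟨hsimp, hdim⟩ := centralizer_isSimpleRing_and_finrank φ.range
  rw [← (AlgEquiv.ofInjective φ hinj).toLinearEquiv.finrank_eq] at hdim
  have hC : IsCSA k (Subalgebra.centralizer k (φ.range : Set T)) := by
    refine ⟨⟨fun x hx => ?_⟩, hsimp, FiniteDimensional.finiteDimensional_submodule
      (Subalgebra.toSubmodule (Subalgebra.centralizer k (φ.range : Set T)))⟩
    have h1 : (x : T) ∈ Subalgebra.centralizer k (Subalgebra.centralizer k (φ.range : Set T) : Set T) :=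
      (Subalgebra.mem_centralizer_iff k).2 fun c hc =>
        congrArg Subtype.val (Subalgebra.mem_center_iff.1 hx ⟨c, hc⟩)
    rw [centralizer_centralizer φ.range] at h1
    have h2 : (⟨(x : T), h1⟩ : φ.range) ∈ Subalgebra.center k φ.range :=
      Subalgebra.mem_center_iff.2 fun b => Subtype.ext ((Subalgebra.mem_centralizer_iff k).1 x.2 b b.2)
    obtain ⟨r, hr⟩ := (Algebra.IsCentral.mem_center_iff k).1 h2
    exact Algebra.mem_bot.2 ⟨r, Subtype.ext (congrArg Subtype.val hr).symm⟩
  refine ⟨hC, hdim, ?_⟩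
  exact brEq_of_mulMap (IsCSA.of k T) (IsCSA.of k B) hC φ (Subalgebra.centralizer k (φ.range : Set T)).val
    (fun a c => (Subalgebra.mem_centralizer_iff k).1 c.2 (φ a) ⟨a, rfl⟩) hdim
where
  brEq_of_mulMap {T : Type v} [Ring T] [Algebra k T] {B : Type w} [Ring B] [Algebra k B] {C : Type v} [Ring C]
      [Algebra k C] (hT : IsCSA k T) (hB : IsCSA k B) (hC : IsCSA k C) (φ : B →ₐ[k] T) (f : C →ₐ[k] T)
      (hcomm : ∀ a c, φ a * f c = f c * φ a)
      (hd : Module.finrank k T = Module.finrank k B * Module.finrank k C) : BrEq k T (B ⊗[k] C) := by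
    obtain ⟨t1, t2, t3⟩ := hT
    obtain ⟨b1, b2, b3⟩ := hB
    obtain ⟨c1, c2, c3⟩ := hC
    have : IsSimpleRing (B ⊗[k] C) := isSimpleRing_tensor_right
    let ψ : B ⊗[k] C →ₐ[k] T := Algebra.TensorProduct.lift φ f hcomm
    have hψ : Function.Bijective ψ := ⟨ψ.toRingHom.injective,
      (LinearMap.injective_iff_surjective_of_finrank_eq_finrank (f := ψ.toLinearMap)
        (by rw [Module.finrank_tensorProduct, hd])).1 ψ.toRingHom.injective⟩
    exact (BrEq.of_algEquiv (AlgEquiv.ofBijective ψ hψ)).symm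

end General

variable {k : Type u} [Field k] {K : Type v} [Field K] [Algebra k K] [FiniteDimensional k K] [IsGalois k K]
  {σ : K ≃ₐ[k] K}

theorem exists_idempotents (hσ : ∀ τ : K ≃ₐ[k] K, τ ∈ Subgroup.zpowers σ) :
    ∃ e : (K ≃ₐ[k] K) → K ⊗[k] K, (∀ τ, e τ ≠ 0) ∧ (∀ τ, e τ * e τ = e τ) ∧ (∀ τ τ', τ ≠ τ' → e τ * e τ' = 0) ∧
      ∀ τ, Algebra.TensorProduct.map σ.toAlgHom σ.toAlgHom (e τ) = e τ := by
  classical
  let g : K →ₐ[k] ((K ≃ₐ[k] K) → K) :=
    { toFun := fun z τ => τ z, map_one' := funext fun τ => map_one τ, map_mul' := fun a c => funext fun τ => map_mul τ a c,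
      map_zero' := funext fun τ => map_zero τ, map_add' := fun a c => funext fun τ => map_add τ a c,
      commutes' := fun c => funext fun τ => τ.commutes c }
  let Ψ : K ⊗[k] K →ₐ[K] ((K ≃ₐ[k] K) → K) :=
    Algebra.TensorProduct.lift (Algebra.ofId K _) g fun c a => Commute.all _ _
  have hΨ : ∀ x z τ, Ψ (x ⊗ₜ[k] z) τ = x * τ z := fun x z τ => by
    simp [Ψ, g, Algebra.ofId_apply]
  have hsurj : Function.Surjective Ψ := by
    by_contra hns
    have hlt : LinearMap.range Ψ.toLinearMap < ⊤ :=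
      lt_top_iff_ne_top.2 fun h => hns (LinearMap.range_eq_top.1 h)
    obtain ⟨f, hf0, hker⟩ := Submodule.exists_le_ker_of_lt_top _ hlt
    have hli := (linearIndependent_toLinearMap k K K).comp (fun τ : K ≃ₐ[k] K => τ.toAlgHom)
      (fun a c h => AlgEquiv.ext fun z => congrArg (fun ψ : K →ₐ[k] K => ψ z) h)
    have hc := Fintype.linearIndependent_iff.1 hli (fun τ => f (Pi.single τ 1)) (LinearMap.ext fun z => by
      have h1 : f (Ψ (1 ⊗ₜ[k] z)) = 0 := hker ⟨1 ⊗ₜ[k] z, rfl⟩
      rw [pi_eq_sum_univ' (Ψ (1 ⊗ₜ[k] z)), map_sum] at h1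
      simp only [map_smul, hΨ, one_mul, smul_eq_mul] at h1
      simp only [LinearMap.coe_sum, Finset.sum_apply, LinearMap.smul_apply, smul_eq_mul, Function.comp_apply,
        AlgHom.toLinearMap_apply, LinearMap.zero_apply]
      rw [← h1]
      exact Finset.sum_congr rfl fun τ _ => mul_comm _ _)
    exact hf0 (LinearMap.pi_ext' fun τ => LinearMap.ext_ring (hc τ))
  have hinj : Function.Injective Ψ :=
    (LinearMap.injective_iff_surjective_of_finrank_eq_finrank (f := Ψ.toLinearMap) (by
      rw [Module.finrank_baseChange, Module.finrank_fintype_fun_eq_card, ← Nat.card_eq_fintype_card,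
        IsGalois.card_aut_eq_finrank])).2 hsurj
  choose e he using fun τ : K ≃ₐ[k] K => hsurj (Pi.single τ 1)
  have hS : ∀ t τ, Ψ (Algebra.TensorProduct.map σ.toAlgHom σ.toAlgHom t) τ = σ (Ψ t τ) := by
    intro t τ
    induction t using TensorProduct.induction_on with
    | zero => simp
    | tmul x z =>
        rw [Algebra.TensorProduct.map_tmul, hΨ, hΨ, map_mul]
        obtain ⟨m, rfl⟩ := Subgroup.mem_zpowers_iff.1 (hσ τ)
        have hcm : (σ ^ m) * σ = σ * (σ ^ m) := ((Commute.refl σ).zpow_left m).eq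
        exact congrArg (σ x * ·) (DFunLike.congr_fun hcm z)
    | add a c ha hc => simp only [map_add, Pi.add_apply, ha, hc]
  refine ⟨e, fun τ h => ?_, fun τ => hinj ?_, fun τ τ' h => hinj ?_, fun τ => hinj ?_⟩
  · have := congr_fun ((he τ).symm.trans (h ▸ map_zero Ψ)) τ
    simp at this
  · rw [map_mul, he]
    funext j
    by_cases hj : j = τ
    · subst hj; simp
    · simp [Pi.single_eq_of_ne hj]
  · rw [map_mul, he, he, map_zero]
    funext j
    by_cases hj : j = τ
    · subst hj; simp [Pi.single_eq_of_ne h]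
    · simp [Pi.single_eq_of_ne hj]
  · funext j
    rw [hS, he]
    by_cases hj : j = τ
    · subst hj; simp
    · simp [Pi.single_eq_of_ne hj]

variable {b b' : kˣ} {A : Type w} [Ring A] [Algebra k A] {A' : Type x} [Ring A'] [Algebra k A']

/-- The product of cyclic algebras is the cyclic algebra of the product. -/
theorem brEq_tensor_cyclic {A'' : Type*} [Ring A''] [Algebra k A'']
    (hσ : ∀ τ : K ≃ₐ[k] K, τ ∈ Subgroup.zpowers σ) (hA : CSAGal.IsCyclicAlg k K σ b A)
    (hA' : CSAGal.IsCyclicAlg k K σ b' A') (hA'' : CSAGal.IsCyclicAlg k K σ (b * b') A'') :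
    BrEq k (A ⊗[k] A') A'' := by
  classical
  have hcA := (isCSA_of_isCyclicAlg hA hσ).1
  have hcA' := (isCSA_of_isCyclicAlg hA' hσ).1
  have hcA'' := (isCSA_of_isCyclicAlg hA'' hσ).1
  obtain ⟨ι, y, h, hd⟩ := exists_cycRel hA
  obtain ⟨ι', y', h', hd'⟩ := exists_cycRel hA'
  obtain ⟨ι'', y'', h'', hd''⟩ := exists_cycRel hA''
  obtain ⟨a1, a2, a3⟩ := hcA
  obtain ⟨a1', a2', a3'⟩ := hcA'
  have hY : CycRel σ (b * b') (Algebra.TensorProduct.includeLeft.comp ι) (y ⊗ₜ[k] y' : A ⊗[k] A') := by
    constructor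
    · rw [Algebra.TensorProduct.tmul_pow, h.pow_eq, h'.pow_eq, Units.val_mul, Algebra.algebraMap_eq_smul_one,
        Algebra.algebraMap_eq_smul_one, Algebra.algebraMap_eq_smul_one (A := A ⊗[k] A'), TensorProduct.smul_tmul_smul, Algebra.TensorProduct.one_def]
    · intro c
      simp [h.rel]
  obtain ⟨φ, hφy, hφι⟩ := h''.exists_algHom hY hσ hd''
  obtain ⟨hC, hdim, hbr⟩ := exists_centralizer_factor ((IsCSA.of k A).tensor (IsCSA.of k A')) hcA'' φ
  refine hbr.trans ((BrEq.refl.tensor ?_).trans BrEq.tensor_right_base)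
  obtain ⟨e, hne, hid, ho, hfix⟩ := exists_idempotents hσ
  let j : K ⊗[k] K →ₐ[k] A ⊗[k] A' := Algebra.TensorProduct.map ι ι'
  have hj : Function.Injective j :=
    TensorProduct.map_injective_of_flat_flat ι.toLinearMap ι'.toLinearMap ι.toRingHom.injective ι'.toRingHom.injective
  have hjY : ∀ t, j t * (y ⊗ₜ[k] y') = (y ⊗ₜ[k] y') * j (Algebra.TensorProduct.map σ.toAlgHom σ.toAlgHom t) := by
    intro t
    induction t using TensorProduct.induction_on with
    | zero => simp
    | tmul c d => simp [j, h.rel, h'.rel]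
    | add p q hp hq => rw [map_add, map_add, map_add, add_mul, mul_add, hp, hq]
  have hjι : ∀ t c, Commute (j t) ((Algebra.TensorProduct.includeLeft.comp ι : K →ₐ[k] A ⊗[k] A') c) := by
    intro t c
    have : (Algebra.TensorProduct.includeLeft.comp ι : K →ₐ[k] A ⊗[k] A') c = j (c ⊗ₜ[k] 1) := by simp [j]
    rw [this]
    exact (Commute.all t _).map j
  have hmem : ∀ τ, j (e τ) ∈ Subalgebra.centralizer k (φ.range : Set (A ⊗[k] A')) := by
    refine fun τ => (Subalgebra.mem_centralizer_iff k).2 ?_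
    rintro _ ⟨a, rfl⟩
    obtain ⟨f, rfl⟩ := (h''.cycMap_bijective hσ hd'').2 a
    change φ (cycMap ι'' y'' f) * j (e τ) = j (e τ) * φ (cycMap ι'' y'' f)
    rw [cycMap_apply, map_sum, Finset.sum_mul, Finset.mul_sum]
    refine Finset.sum_congr rfl fun i _ => ?_
    rw [map_mul, map_pow, hφy, hφι]
    have h1 : Commute (j (e τ)) (y ⊗ₜ[k] y') := by
      rw [commute_iff_eq, hjY, hfix]
    exact ((h1.pow_right i.val).mul_right (hjι (e τ) (f i))).eq.symm
  refine brEq_self_of_idempotents hC (fun τ => ⟨j (e τ), hmem τ⟩) (fun τ h0 => hne τ (hj ?_)) (fun τ => ?_)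
    (fun τ τ' hne' => ?_) ?_
  · exact (congrArg Subtype.val h0).trans (map_zero j).symm
  · exact Subtype.ext (show j (e τ) * j (e τ) = j (e τ) by rw [← map_mul, hid])
  · exact Subtype.ext (show j (e τ) * j (e τ') = 0 by rw [← map_mul, ho τ τ' hne', map_zero])
  · rw [← Nat.card_eq_fintype_card, IsGalois.card_aut_eq_finrank]
    refine (deg_eq_of_finrank k _ ?_).symm
    rw [Module.finrank_tensorProduct, hd, hd', hd''] at hdim
    exact (Nat.eq_of_mul_eq_mul_left (pow_pos Module.finrank_pos 2) hdim).symm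

end Groth.Agent.CSA
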