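import Groth.Agent.CSA.Simple
import Mathlib.RingTheory.SimpleModule.WedderburnArtin
import Mathlib.LinearAlgebra.Matrix.Module

/-!
Modules over simple finite dimensional algebras, Skolem-Noether.
-/

set_option autoImplicit false

universe u v w x

open scoped TensorProduct

namespace Groth.Agent.CSA

section Modules

variable {k : Type u} [Field k] {R : Type v} [Ring R] [Algebra k R] [IsSimpleRing R] [FiniteDimensional k R]

variable {M : Type x} [AddCommGroup M] [Module R M] [Module k M] [IsScalarTower k R M] [FiniteDimensional k M]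

theorem nonempty_linearEquiv_of_finrank_eq {N : Type*} [AddCommGroup N] [Module R N] [Module k N]
    [IsScalarTower k R N] [FiniteDimensional k N] (h : Module.finrank k M = Module.finrank k N) :
    Nonempty (M ≃ₗ[R] N) := by
  have : IsArtinianRing R := IsArtinianRing.of_finite k R
  obtain ⟨S, hS⟩ := IsSemisimpleModule.exists_simple_submodule R R
  have hM : IsIsotypicOfType R M S := fun m hm => by
    obtain ⟨I, ⟨e⟩⟩ := IsSemisimpleRing.exists_linearEquiv_ideal_of_isSimpleModule R m
    have := IsSimpleModule.congr e.symm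
    exact ⟨e.trans (IsSimpleRing.isIsotypic R R S I).some⟩
  have hN : IsIsotypicOfType R N S := fun m hm => by
    obtain ⟨I, ⟨e⟩⟩ := IsSemisimpleRing.exists_linearEquiv_ideal_of_isSimpleModule R m
    have := IsSimpleModule.congr e.symm
    exact ⟨e.trans (IsSimpleRing.isIsotypic R R S I).some⟩
  have : Module.Finite R M := Module.Finite.of_restrictScalars_finite k R M
  have : Module.Finite R N := Module.Finite.of_restrictScalars_finite k R N
  obtain ⟨a, ⟨ea⟩⟩ := hM.linearEquiv_fun
  obtain ⟨b, ⟨eb⟩⟩ := hN.linearEquiv_fun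
  have : Nontrivial S := IsSimpleModule.nontrivial R S
  have : FiniteDimensional k S := inferInstanceAs (FiniteDimensional k (S.restrictScalars k))
  have hpos : 0 < Module.finrank k S := Module.finrank_pos
  have ha := (ea.restrictScalars k).finrank_eq
  have hb := (eb.restrictScalars k).finrank_eq
  rw [Module.finrank_pi_fintype, Finset.sum_const, Finset.card_univ, Fintype.card_fin, smul_eq_mul] at ha hb
  obtain rfl : a = b := Nat.eq_of_mul_eq_mul_right hpos (by rw [← ha, ← hb, h])
  exact ⟨ea.trans eb.symm⟩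

theorem finrank_dvd_of_isSimpleModule [IsSimpleModule R M] {N : Type*} [AddCommGroup N] [Module R N]
    [Module k N] [IsScalarTower k R N] [FiniteDimensional k N] :
    Module.finrank k M ∣ Module.finrank k N := by
  have : IsArtinianRing R := IsArtinianRing.of_finite k R
  obtain ⟨I, ⟨e⟩⟩ := IsSemisimpleRing.exists_linearEquiv_ideal_of_isSimpleModule R M
  have := IsSimpleModule.congr e.symm
  have hN : IsIsotypicOfType R N M := fun m hm => by
    obtain ⟨J, ⟨e'⟩⟩ := IsSemisimpleRing.exists_linearEquiv_ideal_of_isSimpleModule R m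
    have := IsSimpleModule.congr e'.symm
    exact ⟨e'.trans ((IsSimpleRing.isIsotypic R R I J).some.trans e.symm)⟩
  have : Module.Finite R N := Module.Finite.of_restrictScalars_finite k R N
  obtain ⟨b, ⟨eb⟩⟩ := hN.linearEquiv_fun
  exact ⟨b, by rw [(eb.restrictScalars k).finrank_eq, Module.finrank_pi_fintype]; simp [mul_comm]⟩

theorem nonempty_linearEquiv_of_isSimpleModule [IsSimpleModule R M] {N : Type*} [AddCommGroup N]
    [Module R N] [Module k N] [IsScalarTower k R N] [FiniteDimensional k N] [IsSimpleModule R N] :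
    Nonempty (M ≃ₗ[R] N) :=
  nonempty_linearEquiv_of_finrank_eq (k := k)
    (Nat.dvd_antisymm (finrank_dvd_of_isSimpleModule (k := k) (R := R))
      (finrank_dvd_of_isSimpleModule (k := k) (R := R)))

end Modules

section SkolemNoether

variable {k : Type u} [Field k] {A : Type v} [Ring A] [Algebra k A] {B : Type w} [Ring B] [Algebra k B]

/-- `A` regarded as an `A`-`B` bimodule through `f`. -/
def Twist (_f : B →ₐ[k] A) : Type v := A

noncomputable instance (f : B →ₐ[k] A) : AddCommGroup (Twist f) := inferInstanceAs (AddCommGroup A)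
noncomputable instance (f : B →ₐ[k] A) : Module k (Twist f) := inferInstanceAs (Module k A)

/-- The action of `A ⊗ Bᵐᵒᵖ` on `A` through `f`. -/
noncomputable def twistAction (f : B →ₐ[k] A) : A ⊗[k] Bᵐᵒᵖ →ₐ[k] Module.End k A :=
  (AlgHom.mulLeftRight k A).comp (Algebra.TensorProduct.map (AlgHom.id k A) f.op)

noncomputable instance (f : B →ₐ[k] A) : Module (A ⊗[k] Bᵐᵒᵖ) (Twist f) :=
  Module.compHom A (twistAction f).toRingHom

instance (f : B →ₐ[k] A) :
    @IsScalarTower k (A ⊗[k] Bᵐᵒᵖ) (Twist f) Algebra.toSMul _ _ :=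
  ⟨fun c r x => by
    change twistAction f (c • r) (show A from x) = c • twistAction f r (show A from x)
    rw [map_smul, LinearMap.smul_apply]⟩

theorem twist_smul_tmul (f : B →ₐ[k] A) (a : A) (b : B) (x : A) :
    ((a ⊗ₜ[k] MulOpposite.op b) • (show Twist f from x) : Twist f) = (a * x * f b : A) := by
  change twistAction f (a ⊗ₜ[k] MulOpposite.op b) x = _
  simp [twistAction]

/-- The Skolem–Noether theorem. -/
theorem skolemNoether [Algebra.IsCentral k A] [IsSimpleRing A] [FiniteDimensional k A] [IsSimpleRing B]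
    (f g : B →ₐ[k] A) : ∃ u : Aˣ, ∀ b : B, f b = (u : A) * g b * (u⁻¹ : Aˣ) := by
  have : FiniteDimensional k B :=
    Module.Finite.of_injective f.toLinearMap f.toRingHom.injective
  have : IsSimpleRing (A ⊗[k] Bᵐᵒᵖ) := isSimpleRing_tensor_left
  have : FiniteDimensional k (Twist f) := inferInstanceAs (FiniteDimensional k A)
  have : FiniteDimensional k (Twist g) := inferInstanceAs (FiniteDimensional k A)
  obtain ⟨φ⟩ := nonempty_linearEquiv_of_finrank_eq (k := k) (R := A ⊗[k] Bᵐᵒᵖ)
    (M := Twist f) (N := Twist g) (by rfl)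
  let ψ : A → A := fun a => φ (show Twist f from a)
  have hψ : ∀ a b x, ψ (a * x * f b) = a * ψ x * g b := by
    intro a b x
    have := φ.map_smul (a ⊗ₜ[k] MulOpposite.op b) (show Twist f from x)
    rw [twist_smul_tmul] at this
    exact this.trans (twist_smul_tmul g a b (ψ x))
  have hl : ∀ a, ψ a = a * ψ 1 := fun a => by simpa using hψ a 1 1
  obtain ⟨v, hv⟩ : ∃ v, ψ v = 1 := φ.surjective (show Twist g from (1 : A))
  have hv1 : v * ψ 1 = 1 := (hl v).symm.trans hv
  have := IsArtinianRing.of_finite k A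
  have hv2 : ψ 1 * v = 1 := mul_eq_one_symm hv1
  refine ⟨⟨ψ 1, v, hv2, hv1⟩, fun b => ?_⟩
  have h1 : f b * ψ 1 = ψ 1 * g b := by
    have := hψ 1 b 1
    rw [one_mul, one_mul, one_mul] at this
    rw [← hl, this]
  calc f b = f b * (ψ 1 * v) := by rw [hv2, mul_one]
    _ = ψ 1 * g b * v := by rw [← mul_assoc, h1]

theorem algEquiv_inner [Algebra.IsCentral k A] [IsSimpleRing A] [FiniteDimensional k A]
    (e : A ≃ₐ[k] A) : ∃ u : Aˣ, ∀ a : A, e a = (u : A) * a * (u⁻¹ : Aˣ) :=
  skolemNoether (e : A →ₐ[k] A) (AlgHom.id k A)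

end SkolemNoether

end Groth.Agent.CSA
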