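import Groth.Agent.CSA.Brauer
import Mathlib.Data.Fintype.Option
import Mathlib.LinearAlgebra.PiTensorProduct.Basis
import Mathlib.LinearAlgebra.FreeModule.Finite.Basic

/-!
Finite tensor products of families of central simple algebras, up to Brauer equivalence.
-/

set_option autoImplicit false

universe u v w x y

open scoped TensorProduct
open PiTensorProduct

namespace Groth.Agent.CSA

section Equivs

variable {R : Type u} [CommRing R] {ι : Type x} {κ : Type y}

/-- Transport of an algebra along an equality of indices. -/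
def piCast (A : κ → Type v) [∀ i, Ring (A i)] [∀ i, Algebra R (A i)] {i j : κ} (h : i = j) : A i ≃ₐ[R] A j :=
  h ▸ AlgEquiv.refl

/-- Reindexing a finite tensor product of a family. -/
noncomputable def piReindex (e : ι ≃ κ) (A : κ → Type v) [∀ i, Ring (A i)] [∀ i, Algebra R (A i)] :
    (⨂[R] i, A (e i)) ≃ₐ[R] ⨂[R] j, A j :=
  (AlgEquiv.ofLinearEquiv (PiTensorProduct.reindex R (fun i => A (e i)) e)
    (by
      show PiTensorProduct.reindex R (fun i => A (e i)) e (tprod R 1) = 1
      rw [reindex_tprod]; rfl)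
    ((LinearMap.map_mul_iff (PiTensorProduct.reindex R (fun i => A (e i)) e).toLinearMap).mpr (by
      ext a b
      simp
      rfl))).trans (piCongr fun j => piCast A (e.apply_symm_apply j))

/-- Splitting a finite tensor product of a family over a sum of index types. -/
noncomputable def piSum (A : ι ⊕ κ → Type v) [∀ i, Ring (A i)] [∀ i, Algebra R (A i)] :
    (⨂[R] i, A (.inl i)) ⊗[R] (⨂[R] j, A (.inr j)) ≃ₐ[R] ⨂[R] i, A i :=
  AlgEquiv.ofLinearEquiv (PiTensorProduct.tmulEquivDep R A)
    (by
      show PiTensorProduct.tmulEquivDep R A (tprod R 1 ⊗ₜ tprod R 1) = 1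
      exact (tmulEquivDep_apply (R := R) (N := A) 1 1).trans (congrArg (tprod R) (funext fun i => by cases i <;> rfl)))
    ((LinearMap.map_mul_iff (PiTensorProduct.tmulEquivDep R A).toLinearMap).mpr (by
      ext a b c d
      simp only [LinearMap.compr₂_apply, LinearMap.compl₁₂_apply, TensorProduct.AlgebraTensorModule.curry_apply,
        TensorProduct.curry_apply, LinearMap.coe_restrictScalars, LinearMap.compMultilinearMap_apply,
        LinearMap.mul_apply', LinearEquiv.coe_coe, LinearMap.compl₂_apply, LinearMap.comp_apply,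
        Algebra.TensorProduct.tmul_mul_tmul, tprod_mul_tprod, tmulEquivDep_apply]
      exact congrArg (tprod R) (funext fun i => by cases i <;> rfl)))

/-- The empty tensor product. -/
noncomputable def piEmpty [IsEmpty ι] (A : ι → Type v) [∀ i, Ring (A i)] [∀ i, Algebra R (A i)] :
    (⨂[R] i, A i) ≃ₐ[R] R :=
  AlgEquiv.ofLinearEquiv (PiTensorProduct.isEmptyEquiv ι)
    (by
      show PiTensorProduct.isEmptyEquiv ι (tprod R (1 : ∀ i, A i)) = 1
      simp [PiTensorProduct.isEmptyEquiv, MultilinearMap.constOfIsEmpty])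
    ((LinearMap.map_mul_iff (PiTensorProduct.isEmptyEquiv ι : (⨂[R] i, A i) ≃ₗ[R] R).toLinearMap).mpr (by
      ext a b
      simp [PiTensorProduct.isEmptyEquiv, MultilinearMap.constOfIsEmpty]))

/-- The tensor product over a one-element type. -/
noncomputable def piUnique [Unique ι] (A : ι → Type v) [∀ i, Ring (A i)] [∀ i, Algebra R (A i)] :
    (⨂[R] i, A i) ≃ₐ[R] A default :=
  AlgEquiv.ofLinearEquiv (PiTensorProduct.subsingletonEquiv (default : ι))
    (by
      show PiTensorProduct.subsingletonEquiv (default : ι) (tprod R (1 : ∀ i, A i)) = 1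
      simp [PiTensorProduct.subsingletonEquiv])
    ((LinearMap.map_mul_iff (PiTensorProduct.subsingletonEquiv (default : ι) :
        (⨂[R] i, A i) ≃ₗ[R] A default).toLinearMap).mpr (by
      ext a b
      simp [PiTensorProduct.subsingletonEquiv]))

end Equivs

section Brauer

variable {k : Type u} [Field k]

/-- `⨂_{Option ι}` splits off the `none` factor. -/
noncomputable def piOption {ι : Type x} (A : Option ι → Type v) [∀ i, Ring (A i)] [∀ i, Algebra k (A i)] :
    (⨂[k] i, A (some i)) ⊗[k] A none ≃ₐ[k] ⨂[k] i, A i :=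
  (Algebra.TensorProduct.congr AlgEquiv.refl (piUnique fun _ : PUnit.{1} => A none).symm).trans
    ((piSum fun s : ι ⊕ PUnit.{1} => A ((Equiv.optionEquivSumPUnit ι).symm s)).trans
      (piReindex (Equiv.optionEquivSumPUnit ι).symm A))

theorem finrank_pi {ι : Type x} [Fintype ι] (E : ι → Type v) [∀ i, Ring (E i)] [∀ i, Algebra k (E i)]
    [∀ i, FiniteDimensional k (E i)] :
    Module.finrank k (⨂[k] i, E i) = ∏ i, Module.finrank k (E i) := by
  classical
  rw [Module.finrank_eq_card_basis (Basis.piTensorProduct fun i => Module.Free.chooseBasis k (E i)),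
    Fintype.card_pi]
  exact Finset.prod_congr rfl fun i _ => (Module.finrank_eq_card_chooseBasisIndex k (E i)).symm

theorem isCSA_pi (ι : Type) [Fintype ι] : ∀ (E : ι → Type v) [∀ i, Ring (E i)] [∀ i, Algebra k (E i)],
    (∀ i, IsCSA k (E i)) → IsCSA k (⨂[k] i, E i) := by
  refine Fintype.induction_empty_option ?_ ?_ ?_ ι
  · intro α β _ e h E _ _ hE
    letI := Fintype.ofEquiv β e.symm
    exact (h (fun a => E (e a)) fun a => hE (e a)).of_algEquiv (piReindex e E)
  · intro E _ _ _
    exact (IsCSA.self k).of_algEquiv (piEmpty E).symm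
  · intro α _ h E _ _ hE
    exact ((h (fun a => E (some a)) fun a => hE _).tensor (hE none)).of_algEquiv (piOption E)

theorem brEq_pi_congr (ι : Type) [Fintype ι] : ∀ (E : ι → Type v) [∀ i, Ring (E i)] [∀ i, Algebra k (E i)]
    (F : ι → Type w) [∀ i, Ring (F i)] [∀ i, Algebra k (F i)],
    (∀ i, BrEq k (E i) (F i)) → BrEq k (⨂[k] i, E i) (⨂[k] i, F i) := by
  refine Fintype.induction_empty_option ?_ ?_ ?_ ι
  · intro α β _ e h E _ _ F _ _ hE
    letI := Fintype.ofEquiv β e.symm
    exact (BrEq.of_algEquiv (piReindex e E)).symm.trans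
      ((h (fun a => E (e a)) (fun a => F (e a)) fun a => hE (e a)).trans (.of_algEquiv (piReindex e F)))
  · intro E _ _ F _ _ _
    exact .of_algEquiv ((piEmpty E).trans (piEmpty F).symm)
  · intro α _ h E _ _ F _ _ hE
    exact (BrEq.of_algEquiv (piOption E)).symm.trans
      (((h (fun a => E (some a)) (fun a => F (some a)) fun a => hE _).tensor (hE none)).trans
        (.of_algEquiv (piOption F)))

theorem brEq_pi_tpow_sum {A : Type v} [Ring A] [Algebra k A] (ι : Type) [Fintype ι] : ∀ m : ι → ℕ,
    BrEq k (⨂[k] i, CSAGal.tpow k A (m i)) (CSAGal.tpow k A (∑ i, m i)) := by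
  refine Fintype.induction_empty_option (P := fun ι _ => ∀ m : ι → ℕ,
    BrEq k (⨂[k] i, CSAGal.tpow k A (m i)) (CSAGal.tpow k A (∑ i, m i))) ?_ ?_ ?_ ι
  · intro α β _ e h m
    letI := Fintype.ofEquiv β e.symm
    refine (BrEq.of_algEquiv (piReindex e fun b => CSAGal.tpow k A (m b))).symm.trans ((h fun a => m (e a)).trans ?_)
    rw [Equiv.sum_comp e m]
    exact .refl
  · intro m
    exact .of_algEquiv ((piEmpty fun i => CSAGal.tpow k A (m i)).trans
      ((powEmpty A (Fin 0)).symm.trans (powReindex A (finCongr (by simp)))))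
  · intro α _ h m
    refine (BrEq.of_algEquiv (piOption fun i => CSAGal.tpow k A (m i))).symm.trans
      (((h fun a => m (some a)).tensor .refl).trans ((brEq_tpow_add _ _).symm.trans ?_))
    rw [Fintype.sum_option, Nat.add_comm]
    exact .refl

theorem BrEq.tensor_tensor_comm {A : Type v} [Ring A] [Algebra k A] {B : Type w} [Ring B] [Algebra k B]
    {C : Type x} [Ring C] [Algebra k C] {D : Type y} [Ring D] [Algebra k D] :
    BrEq k ((A ⊗[k] B) ⊗[k] (C ⊗[k] D)) ((A ⊗[k] C) ⊗[k] (B ⊗[k] D)) :=
  .of_algEquiv (Algebra.TensorProduct.tensorTensorTensorComm k k k k A B C D)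

theorem brEq_tensor_tpow {A : Type v} [Ring A] [Algebra k A] {B : Type w} [Ring B] [Algebra k B] :
    ∀ e : ℕ, BrEq k (CSAGal.tpow k (A ⊗[k] B) e) (CSAGal.tpow k A e ⊗[k] CSAGal.tpow k B e)
  | 0 => brEq_tpow_zero.trans (BrEq.tensor_left_base.symm.trans (brEq_tpow_zero.symm.tensor brEq_tpow_zero.symm))
  | e + 1 => (brEq_tpow_add e 1).trans (((brEq_tensor_tpow e).tensor
      (brEq_tpow_one.trans (brEq_tpow_one.symm.tensor brEq_tpow_one.symm))).trans
      (BrEq.tensor_tensor_comm.trans ((brEq_tpow_add e 1).symm.tensor (brEq_tpow_add e 1).symm)))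

theorem brEq_pi_tpow (e : ℕ) (ι : Type) [Fintype ι] : ∀ (E : ι → Type v) [∀ i, Ring (E i)] [∀ i, Algebra k (E i)],
    BrEq k (CSAGal.tpow k (⨂[k] i, E i) e) (⨂[k] i, CSAGal.tpow k (E i) e) := by
  refine Fintype.induction_empty_option ?_ ?_ ?_ ι
  · intro α β _ e' h E _ _
    letI := Fintype.ofEquiv β e'.symm
    exact ((BrEq.of_algEquiv (piReindex e' E)).symm.tpow e).trans
      ((h fun a => E (e' a)).trans (.of_algEquiv (piReindex e' fun b => CSAGal.tpow k (E b) e)))
  · intro E _ _
    refine ((BrEq.of_algEquiv (piEmpty E)).tpow e).trans ((BrEq.trans ?_ .refl).trans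
      (BrEq.of_algEquiv (piEmpty fun i => CSAGal.tpow k (E i) e)).symm)
    have h := brEq_tpow_mul_of_brEq (k := k) (A := k) (n := 1) brEq_tpow_one e
    rwa [one_mul] at h
  · intro α _ h E _ _
    exact ((BrEq.of_algEquiv (piOption E)).symm.tpow e).trans ((brEq_tensor_tpow e).trans
      (((h fun a => E (some a)).tensor .refl).trans (.of_algEquiv (piOption fun i => CSAGal.tpow k (E i) e))))

theorem brEq_pi_trivial (ι : Type) [Fintype ι] : ∀ (E : ι → Type v) [∀ i, Ring (E i)] [∀ i, Algebra k (E i)],
    (∀ i, BrEq k (E i) k) → BrEq k (⨂[k] i, E i) k := by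
  refine Fintype.induction_empty_option ?_ ?_ ?_ ι
  · intro α β _ e h E _ _ hE
    letI := Fintype.ofEquiv β e.symm
    exact (BrEq.of_algEquiv (piReindex e E)).symm.trans (h (fun a => E (e a)) fun a => hE (e a))
  · intro E _ _ _
    exact .of_algEquiv (piEmpty E)
  · intro α _ h E _ _ hE
    exact (BrEq.of_algEquiv (piOption E)).symm.trans
      (((h (fun a => E (some a)) fun a => hE _).tensor (hE none)).trans BrEq.tensor_left_base)

theorem brEq_pi_single (ι : Type) [Fintype ι] : ∀ (E : ι → Type v) [∀ i, Ring (E i)] [∀ i, Algebra k (E i)]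
    (p : ι), (∀ i, i ≠ p → BrEq k (E i) k) → BrEq k (⨂[k] i, E i) (E p) := by
  refine Fintype.induction_empty_option ?_ ?_ ?_ ι
  · intro α β _ e h E _ _ p hE
    letI := Fintype.ofEquiv β e.symm
    refine (BrEq.of_algEquiv (piReindex e E)).symm.trans
      ((h (fun a => E (e a)) (e.symm p) fun a ha => hE _ fun h' => ha (by rw [← h', e.symm_apply_apply])).trans ?_)
    exact .of_algEquiv (piCast E (e.apply_symm_apply p))
  · intro E _ _ p
    exact p.elim
  · intro α _ h E _ _ p hE
    refine (BrEq.of_algEquiv (piOption E)).symm.trans ?_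
    cases p with
    | none =>
        exact ((brEq_pi_trivial α (fun a => E (some a)) fun a => hE _ (Option.some_ne_none a)).tensor .refl).trans
          BrEq.tensor_left_base
    | some q =>
        exact ((h (fun a => E (some a)) q fun a ha => hE _ fun h' => ha (Option.some_injective _ h')).tensor
          (hE none (by simp))).trans BrEq.tensor_right_base

end Brauer

end Groth.Agent.CSA
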