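import Groth.Agent.CSA.Period
import Mathlib.Algebra.QuaternionBasis
import Mathlib.LinearAlgebra.FreeModule.Finite.Quotient

/-!
Quaternion algebras: index two.
-/

set_option autoImplicit false

universe u v

open scoped TensorProduct Quaternion

namespace Groth.Agent.CSA

variable {k : Type u} [Field k]

theorem exists_quaternion_of_finrank_four (h2 : (2 : k) ≠ 0) (D : Type v) [DivisionRing D] [Algebra k D]
    [Algebra.IsCentral k D] [FiniteDimensional k D] (hD : Module.finrank k D = 2 ^ 2) :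
    ∃ a b : k, Nonempty (D ≃ₐ[k] QuaternionAlgebra k a 0 b) := by
  obtain ⟨L, _, _, ι, hL, -⟩ := exists_maximal_subfield k D
  have hL2 : Module.finrank k L = 2 := Nat.pow_left_injective two_ne_zero (hL.symm.trans hD)
  have hι : Function.Injective ι := ι.toRingHom.injective
  have := finiteDimensional_of_algHom ι
  obtain ⟨x, hx⟩ : ∃ x : L, x ∉ (⊥ : Subalgebra k L) := by
    by_contra! h
    have := Subalgebra.bot_eq_top_iff_finrank_eq_one.1 (Algebra.eq_top_iff.2 h : (⊥ : Subalgebra k L) = ⊤)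
    omega
  have hli : ∀ y : L, y ∉ (⊥ : Subalgebra k L) → LinearIndependent k ![(1 : L), y] := fun y hy =>
    (LinearIndependent.pair_iff' one_ne_zero).2 fun c hc =>
      hy (Algebra.mem_bot.2 ⟨c, by rw [Algebra.algebraMap_eq_smul_one, hc]⟩)
  have hspan : ∀ y : L, y ∉ (⊥ : Subalgebra k L) → ∀ z : L, ∃ p q : k, p • (1 : L) + q • y = z := fun y hy z => by
    have h := (hli y hy).span_eq_top_of_card_eq_finrank (by simp [hL2])
    rw [Matrix.range_cons_cons_empty] at h
    exact Submodule.mem_span_pair.1 (h ▸ Submodule.mem_top)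
  obtain ⟨p, q, hpq⟩ := hspan x hx (x * x)
  set y : L := x - (q / 2) • (1 : L) with hy
  have hyb : y ∉ (⊥ : Subalgebra k L) := fun h => hx (by
    have h1 := add_mem h ((⊥ : Subalgebra k L).smul_mem (one_mem _) (q / 2))
    rwa [hy, sub_add_cancel] at h1)
  set a : k := p + (q / 2) * (q / 2) with ha
  have hq : q / 2 + q / 2 = q := by field_simp; ring
  have hya : y * y = a • (1 : L) := by
    simp only [hy, ha, sub_mul, mul_sub, smul_mul_assoc, mul_smul_comm, one_mul, mul_one, smul_sub, smul_smul,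
      add_smul, ← hpq]
    nth_rewrite 1 [← hq]
    rw [add_smul]
    abel
  obtain ⟨z, hz⟩ : ∃ z : D, ι y * z ≠ z * ι y := by
    by_contra! h
    obtain ⟨c, hc⟩ := (Algebra.IsCentral.mem_center_iff k).1
      (Subalgebra.mem_center_iff.2 fun g => (h g).symm : ι y ∈ Subalgebra.center k D)
    exact hyb (Algebra.mem_bot.2 ⟨c, hι (by rw [AlgHom.commutes]; exact hc.symm)⟩)
  set i : D := ι y with hi
  set j : D := i * z - z * i with hj
  have hj0 : j ≠ 0 := sub_ne_zero.2 hz
  have hii : i * i = a • (1 : D) := by rw [hi, ← map_mul, hya, map_smul, map_one]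
  have hji : j * i = -(i * j) := by
    have h1 : i * (i * z) = a • z := by rw [← mul_assoc, hii, smul_mul_assoc, one_mul]
    have h2 : z * i * i = a • z := by rw [mul_assoc, hii, mul_smul_comm, mul_one]
    rw [hj, sub_mul, mul_sub, h1, h2, mul_assoc i z i]
    abel
  have hjy : ∀ w : L, ι w * (j * j) = j * j * ι w := fun w => by
    obtain ⟨c, e, rfl⟩ := hspan y hyb w
    have hc : i * (j * j) = j * j * i := by
      rw [mul_assoc, hji, mul_neg, ← mul_assoc, ← mul_assoc, hji, neg_mul, neg_neg]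
    simp only [map_add, map_smul, map_one, add_mul, mul_add, smul_mul_assoc, one_mul, mul_smul_comm, mul_one,
      ← hi, hc]
  obtain ⟨w, hw⟩ := mem_range_of_commute ι hD hL2 (j * j) hjy
  obtain ⟨b, e, rfl⟩ := hspan y hyb w
  change ι (b • 1 + e • y) = j * j at hw
  rw [map_add, map_smul, map_smul, map_one, ← hi] at hw
  have he : e = 0 := by
    have h3 : (j * j) * j = j * (j * j) := mul_assoc j j j
    rw [← hw, add_mul, mul_add, smul_mul_assoc, one_mul, mul_smul_comm, mul_one, smul_mul_assoc, mul_smul_comm,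
      hji, smul_neg, add_right_inj, eq_neg_iff_add_eq_zero, ← add_smul] at h3
    rcases smul_eq_zero.1 h3 with h | h
    · exact (mul_eq_zero.1 (show (2 : k) * e = 0 by rw [two_mul]; exact h)).resolve_left h2
    · rcases mul_eq_zero.1 h with h | h
      · exact absurd (Algebra.mem_bot.2 ⟨0, hι (by rw [map_zero, map_zero]; exact h.symm)⟩) hyb
      · exact absurd h hj0
  rw [he, zero_smul, add_zero] at hw
  let Q : QuaternionAlgebra.Basis D a 0 b :=
    { i := i, j := j, k := i * j
      i_mul_i := by rw [hii, zero_smul, add_zero]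
      j_mul_j := hw.symm
      i_mul_j := rfl
      j_mul_i := by rw [hji, zero_smul, zero_sub] }
  have hjL : ∀ u : L, ι u ≠ j := fun u hu => by
    have h1 : i * j = j * i := by rw [hi, ← hu, ← map_mul, ← map_mul, mul_comm]
    rw [hji, eq_neg_iff_add_eq_zero, ← two_smul k] at h1
    rcases smul_eq_zero.1 h1 with h | h
    · exact h2 h
    · rcases mul_eq_zero.1 h with h | h
      · exact hyb (Algebra.mem_bot.2 ⟨0, hι (by rw [map_zero, map_zero]; exact h.symm)⟩)
      · exact hj0 h
  let ψ : L × L →ₗ[k] D := ι.toLinearMap.coprod ((LinearMap.mulRight k j).comp ι.toLinearMap)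
  have hψ : Function.Injective ψ := by
    rw [injective_iff_map_eq_zero]
    rintro ⟨u, v⟩ h
    change ι u + ι v * j = 0 at h
    by_cases hv : v = 0
    · subst hv
      rw [map_zero, zero_mul, add_zero] at h
      exact Prod.ext (hι (h.trans (map_zero ι).symm)) rfl
    · refine absurd ?_ (hjL (-(v⁻¹ * u)))
      rw [map_neg, map_mul, eq_neg_of_add_eq_zero_left h, mul_neg, neg_neg, ← mul_assoc, ← map_mul,
        inv_mul_cancel₀ hv, map_one, one_mul]
  have hψs : Function.Surjective ψ :=
    (LinearMap.injective_iff_surjective_of_finrank_eq_finrank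
      (by rw [Module.finrank_prod, hL2, hD]; norm_num)).1 hψ
  have hsurj : Function.Surjective Q.liftHom := by
    intro d
    obtain ⟨⟨u, v⟩, rfl⟩ := hψs d
    obtain ⟨c1, c2, rfl⟩ := hspan y hyb u
    obtain ⟨d1, d2, rfl⟩ := hspan y hyb v
    refine ⟨⟨c1, c2, d1, d2⟩, ?_⟩
    show algebraMap k D c1 + c2 • i + d1 • j + d2 • (i * j) = ι (c1 • 1 + c2 • y) + ι (d1 • 1 + d2 • y) * j
    simp only [map_add, map_smul, map_one, ← hi, Algebra.algebraMap_eq_smul_one, add_mul, smul_mul_assoc, one_mul]
    abel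
  have hinj : Function.Injective Q.liftHom :=
    (LinearMap.injective_iff_surjective_of_finrank_eq_finrank (f := Q.liftHom.toLinearMap)
      (by rw [QuaternionAlgebra.finrank_eq_four, hD]; norm_num)).2 hsurj
  exact ⟨a, b, ⟨(AlgEquiv.ofBijective _ ⟨hinj, hsurj⟩).symm⟩⟩

theorem isCSA_quaternion (h2 : (2 : k) ≠ 0) (a b : k) (h : ∀ x : QuaternionAlgebra k a 0 b, x ≠ 0 → IsUnit x) :
    IsCSA k (QuaternionAlgebra k a 0 b) := by
  have ha : a ≠ 0 := fun ha => by
    have hne : (⟨0, 1, 0, 0⟩ : QuaternionAlgebra k a 0 b) ≠ 0 := fun h0 => by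
      simpa using congrArg QuaternionAlgebra.imI h0
    refine (h _ hne).ne_zero ((h _ hne).mul_left_cancel ?_)
    rw [mul_zero]
    ext <;> simp [ha]
  have hb : b ≠ 0 := fun hb => by
    have hne : (⟨0, 0, 1, 0⟩ : QuaternionAlgebra k a 0 b) ≠ 0 := fun h0 => by
      simpa using congrArg QuaternionAlgebra.imJ h0
    refine (h _ hne).ne_zero ((h _ hne).mul_left_cancel ?_)
    rw [mul_zero]
    ext <;> simp [hb]
  letI := DivisionRing.ofIsUnitOrEqZero fun x : QuaternionAlgebra k a 0 b =>
    (em (x = 0)).symm.imp (h x) id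
  refine ⟨⟨fun x hx => ?_⟩, inferInstance, inferInstance⟩
  have h0 : ∀ c : k, c + c = 0 → c = 0 := fun c hc =>
    (mul_eq_zero.1 (show 2 * c = 0 by rw [two_mul]; exact hc)).resolve_left h2
  have hi := Subalgebra.mem_center_iff.1 hx ⟨0, 1, 0, 0⟩
  have hj := Subalgebra.mem_center_iff.1 hx ⟨0, 0, 1, 0⟩
  have e1 := congrArg QuaternionAlgebra.imK hi
  have e2 := congrArg QuaternionAlgebra.imJ hi
  have e3 := congrArg QuaternionAlgebra.imK hj
  simp at e1 e2 e3
  have hJ : x.imJ = 0 := h0 _ (by linear_combination e1)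
  have hK : x.imK = 0 := by
    have := h0 (a * x.imK) (by linear_combination e2)
    exact (mul_eq_zero.1 this).resolve_left ha
  have hI : x.imI = 0 := h0 _ (by linear_combination -e3)
  refine Algebra.mem_bot.2 ⟨x.re, ?_⟩
  rw [QuaternionAlgebra.algebraMap_eq]
  ext <;> simp [hI, hJ, hK]

end Groth.Agent.CSA
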