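import Groth.Agent.CSA.RedNorm
import Mathlib.RingTheory.UniqueFactorizationDomain.NormalizedFactors
import Mathlib.Algebra.Polynomial.FieldDivision
import Mathlib.Algebra.Polynomial.Lifts
import Mathlib.Algebra.CharP.Lemmas
import Mathlib.RingTheory.Polynomial.Vieta
import Mathlib.FieldTheory.Minpoly.Field
import Mathlib.FieldTheory.IsAlgClosed.Spectrum
import Mathlib.LinearAlgebra.Matrix.Charpoly.Eigs

/-!
Reduced characteristic polynomials; elements with a central power.
-/

set_option autoImplicit false

universe u v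

open scoped TensorProduct
open Polynomial

namespace Groth.Agent.CSA

variable {k : Type u} [Field k]

/-- The reduced characteristic polynomial has coefficients in the base field. -/
theorem exists_redCharpoly {A : Type v} [Ring A] [Algebra k A] [Algebra.IsCentral k A] [IsSimpleRing A]
    [FiniteDimensional k A] (a : A) :
    ∃ P : k[X], P.Monic ∧ P.natDegree = deg k A ∧
      ∀ f : A →ₐ[k] Matrix (Fin (deg k A)) (Fin (deg k A)) (AlgebraicClosure k),
        P.map (algebraMap k (AlgebraicClosure k)) = (f a).charpoly := by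
  obtain ⟨L, _, _, _, _, n, hn0, ⟨e⟩⟩ := exists_galois_splitting k A
  obtain rfl := splits_size k A e
  set g := splittingHom k A e
  have hfix : ∀ i, (g a).charpoly.coeff i ∈ Set.range (algebraMap k L) := fun i => by
    obtain ⟨c, hc⟩ := IntermediateField.mem_bot.1 ((IsGalois.mem_bot_iff_fixed ((g a).charpoly.coeff i)).2 fun σ => by
      have h := charpoly_hom_eq (σ.toAlgHom.mapMatrix.comp g) g a
      rw [AlgHom.comp_apply, AlgHom.mapMatrix_apply] at h
      change ((g a).map σ.toAlgHom.toRingHom).charpoly = (g a).charpoly at h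
      rw [Matrix.charpoly_map] at h
      show σ.toAlgHom.toRingHom ((g a).charpoly.coeff i) = _
      rw [← Polynomial.coeff_map, h])
    exact ⟨c, hc⟩
  obtain ⟨P, hP, hdeg, hmon⟩ := Polynomial.lifts_and_degree_eq_and_monic
    ((Polynomial.lifts_iff_coeff_lifts _).2 hfix) (g a).charpoly_monic
  refine ⟨P, hmon, ?_, fun f => ?_⟩
  · rw [← Polynomial.natDegree_map (algebraMap k L) (p := P), hP, Matrix.charpoly_natDegree_eq_dim, Fintype.card_fin]
  · let σ : L →ₐ[k] AlgebraicClosure k := IsAlgClosed.lift
    rw [charpoly_hom_eq f (σ.mapMatrix.comp g) a, AlgHom.comp_apply, AlgHom.mapMatrix_apply]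
    change _ = ((g a).map σ.toRingHom).charpoly
    rw [Matrix.charpoly_map, ← hP, Polynomial.map_map]
    congr 1
    exact RingHom.ext fun c => (σ.commutes c).symm

/-- Over a field with all roots of unity, the roots of `X ^ m - c` have Kummer minimal polynomials
of the same degree. -/
theorem exists_binomial_of_irreducible_dvd (hK : ∀ n : ℕ, 0 < n → (X ^ n - 1 : k[X]).Splits) {m : ℕ} (hm : 0 < m)
    {c : k} (hc : c ≠ 0) :
    ∃ r : ℕ, 0 < r ∧ ∀ q : k[X], q.Monic → Irreducible q → q ∣ X ^ m - C c → ∃ a : k, q = X ^ r - C a := by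
  classical
  obtain ⟨α, hα⟩ := IsAlgClosed.exists_pow_nat_eq (algebraMap k (AlgebraicClosure k) c) hm
  have hα0 : α ≠ 0 := fun h => by
    rw [h, zero_pow hm.ne'] at hα
    exact hc ((algebraMap k (AlgebraicClosure k)).injective (hα.symm.trans (map_zero _).symm))
  have hunit : ∀ β : AlgebraicClosure k, β ^ m = algebraMap k _ c → ∃ ζ : k, β = algebraMap k _ ζ * α := by
    intro β hβ
    have h1 : (β / α) ^ m = 1 := by
      rw [div_pow, hβ, hα, div_self]
      exact fun h => hc ((algebraMap k (AlgebraicClosure k)).injective (h.trans (map_zero _).symm))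
    have hne : (X ^ m - 1 : k[X]) ≠ 0 := by
      rw [← Polynomial.C_1]; exact Polynomial.X_pow_sub_C_ne_zero hm _
    have hroot : β / α ∈ ((X ^ m - 1 : k[X]).map (algebraMap k (AlgebraicClosure k))).roots := by
      rw [Polynomial.mem_roots (Polynomial.map_ne_zero hne)]
      simp [h1]
    rw [(hK m hm).roots_map (algebraMap k (AlgebraicClosure k)), Multiset.mem_map] at hroot
    obtain ⟨ζ, -, hζ⟩ := hroot
    exact ⟨ζ, by rw [hζ, div_mul_cancel₀ _ hα0]⟩
  have hex : ∃ r : ℕ, 0 < r ∧ α ^ r ∈ (algebraMap k (AlgebraicClosure k)).range := ⟨m, hm, c, hα.symm⟩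
  obtain ⟨r, ⟨hr, hrange⟩, hmin⟩ : ∃ r, (0 < r ∧ α ^ r ∈ (algebraMap k (AlgebraicClosure k)).range) ∧
      ∀ s, (0 < s ∧ α ^ s ∈ (algebraMap k (AlgebraicClosure k)).range) → r ≤ s :=
    ⟨Nat.find hex, Nat.find_spec hex, fun s hs => Nat.find_min' hex hs⟩
  refine ⟨r, hr, fun q hq hirr hdvd => ?_⟩
  set φ := algebraMap k (AlgebraicClosure k)
  have hsplit : (q.map φ).Splits := IsAlgClosed.splits _
  have hd : 0 < q.natDegree := hirr.natDegree_pos
  obtain ⟨β, hβ⟩ := IsAlgClosed.exists_root (q.map φ) (by
    rw [Polynomial.degree_map]; exact ne_of_gt (Polynomial.natDegree_pos_iff_degree_pos.1 hd))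
  have hroots : ∀ x ∈ (q.map φ).roots, ∃ ζ : k, x = φ ζ * α := fun x hx => by
    refine hunit x ?_
    have h1 : ((X ^ m - C c : k[X]).map φ).IsRoot x :=
      (Polynomial.mem_roots'.1 hx).2.dvd (Polynomial.map_dvd φ hdvd)
    simpa [sub_eq_zero] using h1
  choose! z hz using hroots
  have hprod : (q.map φ).roots.prod = φ ((q.map φ).roots.map z).prod * α ^ q.natDegree := by
    have h1 : (q.map φ).roots = (q.map φ).roots.map fun x => φ (z x) * α := by
      conv_lhs => rw [← Multiset.map_id (q.map φ).roots]
      exact Multiset.map_congr rfl fun x hx => hz x hx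
    conv_lhs => rw [h1]
    rw [Multiset.prod_map_mul, Multiset.map_const', Multiset.prod_replicate, ← hsplit.natDegree_eq_card_roots,
      Polynomial.natDegree_map, map_multiset_prod, Multiset.map_map]
    rfl
  have hcoeff : φ (q.coeff 0) = (-1) ^ q.natDegree * (q.map φ).roots.prod := by
    rw [← Polynomial.coeff_map, hsplit.coeff_zero_eq_prod_roots_of_monic (hq.map φ), Polynomial.natDegree_map]
  have hz0 : ((q.map φ).roots.map z).prod ≠ 0 := fun h => by
    rw [hprod, h, map_zero, zero_mul, mul_zero] at hcoeff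
    have h0 : q.coeff 0 = 0 := φ.injective (hcoeff.trans (map_zero φ).symm)
    have hX : X ∣ (X ^ m - C c : k[X]) := (Polynomial.X_dvd_iff.2 h0).trans hdvd
    rw [Polynomial.X_dvd_iff] at hX
    exact hc (by simpa [Polynomial.coeff_X_pow, hm.ne] using hX)
  have hle : r ≤ q.natDegree := by
    refine hmin _ ⟨hd, (-1) ^ q.natDegree * q.coeff 0 / ((q.map φ).roots.map z).prod, ?_⟩
    rw [map_div₀, map_mul, hcoeff, hprod, map_pow, map_neg, map_one, ← mul_assoc, ← mul_pow, neg_one_mul, neg_neg,
      one_pow, one_mul, mul_div_cancel_left₀ _ (fun h => hz0 (φ.injective (h.trans (map_zero φ).symm)))]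
  obtain ⟨ζ, hζ⟩ := hunit β (by
    have h1 : ((X ^ m - C c : k[X]).map φ).IsRoot β := hβ.dvd (Polynomial.map_dvd φ hdvd)
    simpa [sub_eq_zero] using h1)
  obtain ⟨e, he⟩ := hrange
  have hann : aeval β (X ^ r - C (ζ ^ r * e) : k[X]) = 0 := by
    simp [φ, hζ, mul_pow, ← he]
  have hdvd2 : q ∣ X ^ r - C (ζ ^ r * e) := by
    rw [minpoly.eq_of_irreducible_of_monic hirr (show aeval β q = 0 by rw [aeval_def, ← eval_map]; exact hβ) hq]
    exact minpoly.dvd k β hann
  refine ⟨ζ ^ r * e, (Polynomial.eq_of_monic_of_dvd_of_natDegree_le hq (monic_X_pow_sub_C _ hr.ne') hdvd2 ?_).symm⟩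
  rwa [natDegree_X_pow_sub_C]

variable {A : Type v} [Ring A] [Algebra k A] [Algebra.IsCentral k A] [IsSimpleRing A] [FiniteDimensional k A]

/-- Shape of the minimal and reduced characteristic polynomial of a unit with a central power. -/
theorem exists_binomial_factors (hK : ∀ n : ℕ, 0 < n → (X ^ n - 1 : k[X]).Splits) {x : A} (hx : IsUnit x)
    {m : ℕ} (hm : 0 < m) (hxm : x ^ m ∈ (algebraMap k A).range) :
    ∃ r : ℕ, 0 < r ∧ r ∣ deg k A ∧
      ∀ q : k[X], q.Monic → Irreducible q → q ∣ minpoly k x → ∃ a : k, q = X ^ r - C a := by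
  classical
  obtain ⟨c, hc⟩ := hxm
  have hc0 : c ≠ 0 := fun h => (hx.pow m).ne_zero (by rw [← hc, h, map_zero])
  obtain ⟨r, hr, hq⟩ := exists_binomial_of_irreducible_dvd hK hm hc0
  have hdvd : minpoly k x ∣ X ^ m - C c := minpoly.dvd k x (by simp [hc])
  have hq' : ∀ q : k[X], q.Monic → Irreducible q → q ∣ minpoly k x → ∃ a : k, q = X ^ r - C a :=
    fun q h1 h2 h3 => hq q h1 h2 (h3.trans hdvd)
  refine ⟨r, hr, ?_, hq'⟩
  obtain ⟨P, hP, hPd, hPf⟩ := exists_redCharpoly (k := k) x
  obtain ⟨N, hN⟩ := exists_redNorm (k := k) (A := A)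
  obtain ⟨f, -⟩ := exists_hom_of_isRedNorm hN
  -- every irreducible factor of `P` has degree `r`
  have hfac : ∀ q ∈ UniqueFactorizationMonoid.normalizedFactors P, q.natDegree = r := by
    intro q hq2
    have hirr := UniqueFactorizationMonoid.irreducible_of_normalized_factor q hq2
    have hdP := UniqueFactorizationMonoid.dvd_of_mem_normalizedFactors hq2
    have hmon : q.Monic := by
      have h := UniqueFactorizationMonoid.normalize_normalized_factor q hq2
      rw [← h]; exact Polynomial.monic_normalize hirr.ne_zero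
    obtain ⟨β, hβ⟩ := IsAlgClosed.exists_root (q.map (algebraMap k (AlgebraicClosure k))) (by
      rw [Polynomial.degree_map]
      exact ne_of_gt (Polynomial.natDegree_pos_iff_degree_pos.1 hirr.natDegree_pos))
    have hspec : β ∈ spectrum (AlgebraicClosure k) (f x) := by
      rw [Matrix.mem_spectrum_iff_isRoot_charpoly, ← hPf f]
      exact hβ.dvd (Polynomial.map_dvd _ hdP)
    have hmin : aeval β (minpoly k x) = 0 := by
      have : NeZero (deg k A) := ⟨(deg_pos k A).ne'⟩
      have h := spectrum.subset_polynomial_aeval (f x) ((minpoly k x).map (algebraMap k (AlgebraicClosure k)))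
        ⟨β, hspec, rfl⟩
      rw [Polynomial.aeval_map_algebraMap, Polynomial.aeval_algHom_apply, minpoly.aeval, map_zero,
        spectrum.zero_eq, Set.mem_singleton_iff] at h
      change Polynomial.eval β _ = 0 at h
      rw [Polynomial.eval_map] at h
      exact h
    obtain ⟨a, rfl⟩ := hq' q hmon hirr (by
      rw [minpoly.eq_of_irreducible_of_monic hirr (show aeval β q = 0 by rw [aeval_def, ← eval_map]; exact hβ) hmon]
      exact minpoly.dvd k β hmin)
    exact natDegree_X_pow_sub_C
  have h := UniqueFactorizationMonoid.prod_normalizedFactors hP.ne_zero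
  have h2 : P.natDegree = ((UniqueFactorizationMonoid.normalizedFactors P).map Polynomial.natDegree).sum := by
    rw [← Polynomial.natDegree_eq_of_degree_eq (Polynomial.degree_eq_degree_of_associated h),
      Polynomial.natDegree_multiset_prod _ (fun h0 => UniqueFactorizationMonoid.zero_notMem_normalizedFactors _ h0)]
  rw [← hPd, h2]
  exact Multiset.dvd_sum fun d hd => by
    obtain ⟨q, hq2, rfl⟩ := Multiset.mem_map.1 hd
    exact (hfac q hq2).symm.dvd

/-- In a division algebra the minimal polynomial is binomial and `P` is a power of it. -/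
theorem exists_binomial_minpoly {D : Type v} [DivisionRing D] [Algebra k D] [Algebra.IsCentral k D] [FiniteDimensional k D]
    (hK : ∀ n : ℕ, 0 < n → (X ^ n - 1 : k[X]).Splits) {x : D} (hx : x ≠ 0)
    {m : ℕ} (hm : 0 < m) (hxm : x ^ m ∈ (algebraMap k D).range) :
    ∃ (r : ℕ) (a : k), 0 < r ∧ r ∣ deg k D ∧ minpoly k x = X ^ r - C a ∧
      ∀ f : D →ₐ[k] Matrix (Fin (deg k D)) (Fin (deg k D)) (AlgebraicClosure k),
        (f x).charpoly = ((X ^ r - C a) ^ (deg k D / r)).map (algebraMap k (AlgebraicClosure k)) := by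
  classical
  obtain ⟨r, hr, hrd, hq⟩ := exists_binomial_factors hK (isUnit_iff_ne_zero.2 hx) hm hxm
  have hint : IsIntegral k x := Algebra.IsIntegral.isIntegral x
  obtain ⟨a, ha⟩ := hq _ (minpoly.monic hint) (minpoly.irreducible hint) dvd_rfl
  refine ⟨r, a, hr, hrd, ha, fun f => ?_⟩
  rw [← ha]
  have h1 : (minpoly k x).natDegree = r := by rw [ha, natDegree_X_pow_sub_C]
  obtain ⟨P, hP, hPd, hPf⟩ := exists_redCharpoly (k := k) x
  rw [← hPf f]
  congr 1
  -- all irreducible factors of `P` are the minimal polynomial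
  have hfac : ∀ q ∈ UniqueFactorizationMonoid.normalizedFactors P, q = minpoly k x := by
    intro q hq2
    have hirr := UniqueFactorizationMonoid.irreducible_of_normalized_factor q hq2
    have hdP := UniqueFactorizationMonoid.dvd_of_mem_normalizedFactors hq2
    have hmon : q.Monic := by
      have h := UniqueFactorizationMonoid.normalize_normalized_factor q hq2
      rw [← h]; exact Polynomial.monic_normalize hirr.ne_zero
    obtain ⟨β, hβ⟩ := IsAlgClosed.exists_root (q.map (algebraMap k (AlgebraicClosure k))) (by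
      rw [Polynomial.degree_map]
      exact ne_of_gt (Polynomial.natDegree_pos_iff_degree_pos.1 hirr.natDegree_pos))
    have hspec : β ∈ spectrum (AlgebraicClosure k) (f x) := by
      rw [Matrix.mem_spectrum_iff_isRoot_charpoly, ← hPf f]
      exact hβ.dvd (Polynomial.map_dvd _ hdP)
    have hmin : aeval β (minpoly k x) = 0 := by
      have : NeZero (deg k D) := ⟨(deg_pos k D).ne'⟩
      have h := spectrum.subset_polynomial_aeval (f x) ((minpoly k x).map (algebraMap k (AlgebraicClosure k)))
        ⟨β, hspec, rfl⟩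
      rw [Polynomial.aeval_map_algebraMap, Polynomial.aeval_algHom_apply, minpoly.aeval, map_zero,
        spectrum.zero_eq, Set.mem_singleton_iff] at h
      change Polynomial.eval β _ = 0 at h
      rw [Polynomial.eval_map] at h
      exact h
    rw [minpoly.eq_of_irreducible_of_monic hirr (show aeval β q = 0 by rw [aeval_def, ← eval_map]; exact hβ) hmon]
    exact (minpoly.eq_of_irreducible_of_monic (minpoly.irreducible hint) hmin (minpoly.monic hint)).symm
  have hrep := Multiset.eq_replicate_card.2 hfac
  have h := UniqueFactorizationMonoid.prod_normalizedFactors hP.ne_zero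
  rw [hrep, Multiset.prod_replicate] at h
  have heq := Polynomial.eq_of_monic_of_associated hP ((minpoly.monic hint).pow _) h.symm
  have hdeg := congrArg Polynomial.natDegree heq
  rw [hPd, Polynomial.natDegree_pow, h1] at hdeg
  conv_lhs => rw [heq]
  congr 1
  rw [hdeg, Nat.mul_div_cancel _ hr]

/-- An element outside the centre whose `p`-th power is central is not separable. -/
theorem not_isSeparable_of_pow_char {D : Type v} [DivisionRing D] [Algebra k D] [FiniteDimensional k D] (p : ℕ)
    [Fact p.Prime] [CharP k p] {v : D} (hv : v ^ p ∈ (algebraMap k D).range) (hvk : v ∉ (algebraMap k D).range) :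
    ¬ IsSeparable k v := by
  intro hs
  obtain ⟨c, hc⟩ := hv
  have : CharP (AlgebraicClosure k) p := charP_of_injective_algebraMap (algebraMap k _).injective p
  obtain ⟨γ, hγ⟩ := IsAlgClosed.exists_pow_nat_eq (algebraMap k (AlgebraicClosure k) c) (Fact.out : p.Prime).pos
  have hint : IsIntegral k v := Algebra.IsIntegral.isIntegral v
  have hmap : (minpoly k v).map (algebraMap k (AlgebraicClosure k)) ∣ (X - C γ) ^ p := by
    rw [sub_pow_char, ← C_pow, hγ, ← Polynomial.map_X (algebraMap k (AlgebraicClosure k)), ← Polynomial.map_pow,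
      ← Polynomial.map_C, ← Polynomial.map_sub]
    exact Polynomial.map_dvd _ (minpoly.dvd k v (by simp [hc]))
  obtain ⟨i, hi, hass⟩ := (dvd_prime_pow (Polynomial.prime_X_sub_C γ) _).1 hmap
  have hsq : ((minpoly k v).map (algebraMap k (AlgebraicClosure k))).Separable := Polynomial.Separable.map hs
  have hi1 : i ≤ 1 := by
    by_contra h
    exact (Polynomial.prime_X_sub_C γ).not_unit (hsq.squarefree (X - C γ)
      ((sq (X - C γ) ▸ pow_dvd_pow _ (by omega : 2 ≤ i)).trans hass.symm.dvd))
  have hle : (minpoly k v).natDegree ≤ 1 := by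
    rw [← Polynomial.natDegree_map (algebraMap k (AlgebraicClosure k)),
      Polynomial.natDegree_eq_of_degree_eq (Polynomial.degree_eq_degree_of_associated hass), Polynomial.natDegree_pow,
      Polynomial.natDegree_X_sub_C, mul_one]
    exact hi1
  exact hvk (minpoly.natDegree_eq_one_iff.1 (le_antisymm hle (minpoly.natDegree_pos hint)))

end Groth.Agent.CSA
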