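import Groth.Agent.CSA.Brauer
import Groth.Agent.CSA.Centralizer

/-!
A splitting field embeds into a similar algebra as a subfield of maximal degree.
-/

set_option autoImplicit false

universe u v w x

open scoped TensorProduct

namespace Groth.Agent.CSA

variable {k : Type u} [Field k] {A : Type v} [Ring A] [Algebra k A]

theorem brEq_of_commuting {C : Type x} [Ring C] [Algebra k C] (hC : IsCSA k C) (hA : IsCSA k A) (V : Type w)
    [AddCommGroup V] [Module k V] [FiniteDimensional k V] [Nontrivial V] (f : C →ₐ[k] Module.End k V)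
    (g : Aᵐᵒᵖ →ₐ[k] Module.End k V) (hcomm : ∀ c a, Commute (f c) (g a))
    (hd : Module.finrank k C * Module.finrank k A = Module.finrank k V ^ 2) : BrEq k C A := by
  obtain ⟨c1, c2, c3⟩ := hC
  obtain ⟨j1, j2, j3⟩ := hA.op
  have : IsSimpleRing (C ⊗[k] Aᵐᵒᵖ) := isSimpleRing_tensor_right
  let φ : C ⊗[k] Aᵐᵒᵖ →ₐ[k] Module.End k V := Algebra.TensorProduct.lift f g hcomm
  have hφ : Function.Bijective φ := by
    refine ⟨φ.toRingHom.injective, (LinearMap.injective_iff_surjective_of_finrank_eq_finrank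
      (f := φ.toLinearMap) ?_).1 φ.toRingHom.injective⟩
    rw [Module.finrank_tensorProduct, ← (MulOpposite.opLinearEquiv k : A ≃ₗ[k] Aᵐᵒᵖ).finrank_eq,
      Module.finrank_linearMap, hd, sq]
  have hsplit : BrEq k (C ⊗[k] Aᵐᵒᵖ) k :=
    .of_matrix ((AlgEquiv.ofBijective φ hφ).trans (algEquivMatrix (Module.finBasis k V)))
      (Module.finrank_pos (R := k) (M := V)).ne'
  exact BrEq.tensor_right_base.symm.trans ((BrEq.refl.tensor
    ((BrEq.tensor_comm.trans (BrEq.tensor_op hA)).symm)).trans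
      ((BrEq.tensor_assoc (k := k) (A := C) (B := Aᵐᵒᵖ) (C := A)).symm.trans
        ((hsplit.tensor .refl).trans BrEq.tensor_left_base)))

theorem exists_brEq_of_splits (hA : IsCSA k A) (K : Type w) [Field K] [Algebra k K] [FiniteDimensional k K]
    (h : Curves.Splits k A K) :
    ∃ (C : Type w) (_ : Ring C) (_ : Algebra k C) (_ : K →ₐ[k] C),
      IsCSA k C ∧ Module.finrank k C = Module.finrank k K ^ 2 ∧ BrEq k C A := by
  obtain ⟨n, hn, ⟨e⟩⟩ := h
  have hAop := hA.op
  obtain ⟨i1, i2, i3⟩ := hA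
  obtain ⟨j1, j2, j3⟩ := hAop
  obtain rfl := splits_size k A e
  have : NeZero (deg k A) := ⟨hn⟩
  let V := Fin (deg k A) → K
  let g : Aᵐᵒᵖ →ₐ[k] Matrix (Fin (deg k A)) (Fin (deg k A)) K :=
    AlgHom.ofLinearMap
      (((Matrix.transposeLinearEquiv (Fin (deg k A)) (Fin (deg k A)) k K).toLinearMap).comp
        ((splittingHom k A e).toLinearMap.comp (MulOpposite.opLinearEquiv k).symm.toLinearMap))
      (by simp [splittingHom_apply, ← Algebra.TensorProduct.one_def])
      (fun a b => by simp [Matrix.transpose_mul])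
  let res : Module.End K V →ₐ[k] Module.End k V :=
    { toFun := LinearMap.restrictScalars k, map_one' := rfl, map_mul' := fun _ _ => rfl,
      map_zero' := rfl, map_add' := fun _ _ => rfl, commutes' := fun c => LinearMap.ext fun v => rfl }
  let ρ : Aᵐᵒᵖ →ₐ[k] Module.End k V :=
    res.comp ((Matrix.toLinAlgEquiv' (R := K)).toAlgHom.restrictScalars k |>.comp g)
  have hinj : Function.Injective ρ := ρ.toRingHom.injective
  let eB := AlgEquiv.ofInjective ρ hinj
  obtain ⟨b1, b2, b3⟩ := (IsCSA.of k Aᵐᵒᵖ).of_algEquiv (B := ↥(ρ.range)) eB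
  obtain ⟨e1, e2, e3⟩ := ((IsCSA.self k).matrix _ (Module.finrank_pos (R := k) (M := V)).ne').of_algEquiv
    (algEquivMatrix (Module.finBasis k V)).symm
  obtain ⟨hsimp, hdim⟩ := centralizer_isSimpleRing_and_finrank ρ.range
  set C := Subalgebra.centralizer k (ρ.range : Set (Module.End k V)) with hCdef
  have hK : ∀ c : K, (Algebra.lsmul k k V c : Module.End k V) ∈ C := fun c =>
    (Subalgebra.mem_centralizer_iff k).2 fun b hb => by
      obtain ⟨a, rfl⟩ := hb
      refine LinearMap.ext fun v => ?_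
      show ρ a (c • v) = c • ρ a v
      exact (Matrix.toLinAlgEquiv' (R := K) (g a)).map_smul c v
  have hC : IsCSA k C := by
    refine ⟨⟨fun x hx => ?_⟩, hsimp, FiniteDimensional.finiteDimensional_submodule (Subalgebra.toSubmodule C)⟩
    have h1 : (x : Module.End k V) ∈ Subalgebra.centralizer k (C : Set (Module.End k V)) :=
      (Subalgebra.mem_centralizer_iff k).2 fun c hc =>
        congrArg Subtype.val (Subalgebra.mem_center_iff.1 hx ⟨c, hc⟩)
    rw [centralizer_centralizer ρ.range] at h1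
    have h2 : (⟨(x : Module.End k V), h1⟩ : ρ.range) ∈ Subalgebra.center k ρ.range :=
      Subalgebra.mem_center_iff.2 fun b => Subtype.ext ((Subalgebra.mem_centralizer_iff k).1 x.2 b b.2)
    obtain ⟨r, hr⟩ := (Algebra.IsCentral.mem_center_iff k).1 h2
    exact Algebra.mem_bot.2 ⟨r, Subtype.ext (congrArg Subtype.val hr).symm⟩
  have hsqC : Module.finrank k C = Module.finrank k K ^ 2 := by
    rw [← eB.toLinearEquiv.finrank_eq, ← (MulOpposite.opLinearEquiv k : A ≃ₗ[k] Aᵐᵒᵖ).finrank_eq,
      Module.finrank_linearMap, Module.finrank_pi_fintype, Finset.sum_const, Finset.card_univ, Fintype.card_fin,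
      smul_eq_mul, finrank_eq_deg_sq k A] at hdim
    refine Nat.eq_of_mul_eq_mul_left (pow_pos (Nat.pos_of_ne_zero hn) 2) ?_
    exact hdim.symm.trans (by ring)
  refine ⟨C, inferInstance, inferInstance, (Algebra.lsmul k k V).codRestrict C hK, hC, hsqC, ?_⟩
  refine brEq_of_commuting hC (IsCSA.of k A) V C.val ρ
    (fun c a => ((Subalgebra.mem_centralizer_iff k).1 c.2 (ρ a) ⟨a, rfl⟩).symm) ?_
  rw [hsqC, finrank_eq_deg_sq k A, Module.finrank_pi_fintype, Finset.sum_const, Finset.card_univ, Fintype.card_fin,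
    smul_eq_mul]
  ring

end Groth.Agent.CSA
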