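import Groth.Agent.CSA.Center
import Mathlib.RingTheory.Unramified.Field
import Mathlib.RingTheory.TensorProduct.Pi
import Mathlib.RingTheory.SimpleModule.WedderburnArtin
import Mathlib.RingTheory.Artinian.Module
import Mathlib.Algebra.Azumaya.Defs
import Mathlib.Algebra.Algebra.Subalgebra.Centralizer

/-!
Base change of semisimple algebras with separable centre.
-/

set_option autoImplicit false

universe u v w

open scoped TensorProduct

namespace Groth.Agent.CSA

variable {k : Type u} [Field k] {A : Type v} [Ring A] [Algebra k A]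

/-- In a central simple algebra every linear map is a sum of left-right multiplications. -/
theorem mulLeftRight_surjective [Algebra.IsCentral k A] [IsSimpleRing A] [FiniteDimensional k A] :
    Function.Surjective (AlgHom.mulLeftRight k A) := by
  have : IsSimpleRing (A ⊗[k] Aᵐᵒᵖ) := isSimpleRing_tensor_right
  exact ((AlgHom.mulLeftRight k A).toLinearMap.injective_iff_surjective_of_finrank_eq_finrank (by
    rw [Module.finrank_tensorProduct, Module.finrank_linearMap, (MulOpposite.opLinearEquiv k).finrank_eq])).1
    (AlgHom.mulLeftRight k A).toRingHom.injective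

variable (L : Type w) [Field L] [Algebra k L]

/-- The inclusion of `L ⊗ centre` into `L ⊗ A`. -/
noncomputable def centerIncl : L ⊗[k] Subalgebra.center k A →ₐ[L] L ⊗[k] A :=
  Algebra.TensorProduct.map (AlgHom.id L L) (Subalgebra.center k A).val

theorem centerIncl_injective : Function.Injective (centerIncl (k := k) (A := A) L) :=
  Module.Flat.lTensor_preserves_injective_linearMap (Subalgebra.center k A).val.toLinearMap Subtype.val_injective

theorem centerIncl_mem_center (z : L ⊗[k] Subalgebra.center k A) :
    centerIncl (k := k) (A := A) L z ∈ Subalgebra.center L (L ⊗[k] A) := by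
  induction z using TensorProduct.induction_on with
  | zero => rw [map_zero]; exact zero_mem _
  | add a b ha hb => rw [map_add]; exact add_mem ha hb
  | tmul l z =>
      rw [Subalgebra.mem_center_iff]
      intro y
      induction y using TensorProduct.induction_on with
      | zero => rw [zero_mul, mul_zero]
      | add a b ha hb => rw [add_mul, mul_add, ha, hb]
      | tmul l' a =>
          simp [centerIncl, mul_comm l', Subalgebra.mem_center_iff.1 z.2 a]

theorem exists_centerIncl_eq {x : L ⊗[k] A} (hx : x ∈ Subalgebra.center L (L ⊗[k] A)) :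
    ∃ z, centerIncl (k := k) (A := A) L z = x := by
  have h : x ∈ Subalgebra.centralizer k (Algebra.TensorProduct.includeRight '' (Set.univ : Set A)) := by
    rw [Subalgebra.mem_centralizer_iff]
    rintro _ ⟨a, -, rfl⟩
    exact Subalgebra.mem_center_iff.1 hx _
  rw [Subalgebra.centralizer_coe_image_includeRight_eq_center_tensorProduct k L A] at h
  obtain ⟨w, rfl⟩ := h
  let f : Subalgebra.centralizer k (Set.univ : Set A) →ₐ[k] Subalgebra.center k A :=
    Subalgebra.inclusion (Subalgebra.centralizer_univ (R := k) (A := A)).le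
  refine ⟨Algebra.TensorProduct.map (AlgHom.id L L) f w, ?_⟩
  have key : (centerIncl (k := k) (A := A) L).toLinearMap.restrictScalars k ∘ₗ
      (Algebra.TensorProduct.map (AlgHom.id L L) f).toLinearMap.restrictScalars k =
      (Algebra.TensorProduct.map (AlgHom.id k L) (Subalgebra.centralizer k (Set.univ : Set A)).val).toLinearMap :=
    TensorProduct.ext' fun l a => rfl
  exact LinearMap.congr_fun key w

/-- Two-sided ideals of `L ⊗ A`, `A` central simple over an intermediate field `F`, are generated from `L ⊗ F`. -/
theorem eq_zero_of_mem_twoSided_field (F : Type*) [Field F] [Algebra k F] [Algebra F A] [IsScalarTower k F A]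
    [Algebra.IsCentral F A] [IsSimpleRing A] [FiniteDimensional F A] (S : Set (L ⊗[k] A))
    (h0 : (0 : L ⊗[k] A) ∈ S) (hadd : ∀ x ∈ S, ∀ y ∈ S, x + y ∈ S) (hmul : ∀ a b, ∀ x ∈ S, a * x * b ∈ S)
    (hF : ∀ z : L ⊗[k] F, LinearMap.lTensor L (IsScalarTower.toAlgHom k F A).toLinearMap z ∈ S →
      LinearMap.lTensor L (IsScalarTower.toAlgHom k F A).toLinearMap z = 0)
    {x : L ⊗[k] A} (hx : x ∈ S) : x = 0 := by
  classical
  set i : F →ₗ[k] A := (IsScalarTower.toAlgHom k F A).toLinearMap with hi
  have hi' : ∀ r, i r = algebraMap F A r := fun r => rfl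
  let b := Module.Free.chooseBasis F A
  let ψ : Module.Free.ChooseBasisIndex F A → A →ₗ[k] F := fun j => (b.coord j).restrictScalars k
  have hstable : ∀ (t : A ⊗[F] Aᵐᵒᵖ), ∀ y ∈ S,
      LinearMap.lTensor L ((AlgHom.mulLeftRight F A t).restrictScalars k) y ∈ S := by
    intro t
    induction t using TensorProduct.induction_on with
    | zero => intro y _; simpa using h0
    | add t t' ht ht' =>
        intro y hy
        rw [map_add, LinearMap.restrictScalars_add, LinearMap.lTensor_add, LinearMap.add_apply]
        exact hadd _ (ht y hy) _ (ht' y hy)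
    | tmul a c =>
        intro y hy
        have : ∀ y, LinearMap.lTensor L ((AlgHom.mulLeftRight F A (a ⊗ₜ c)).restrictScalars k) y =
            ((1 : L) ⊗ₜ[k] a) * y * ((1 : L) ⊗ₜ[k] MulOpposite.unop c) := by
          intro y
          induction y using TensorProduct.induction_on with
          | zero => simp
          | add u v hu hv => rw [map_add, hu, hv, mul_add, add_mul]
          | tmul l u => simp [AlgHom.mulLeftRight_apply]
        rw [this]
        exact hmul _ _ _ hy
  have hzero : ∀ j, LinearMap.lTensor L i (LinearMap.lTensor L (ψ j) x) = 0 := fun j => by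
    refine hF _ ?_
    obtain ⟨t, ht⟩ := mulLeftRight_surjective (k := F) (A := A) ((Algebra.linearMap F A).comp (b.coord j))
    have h := hstable t x hx
    rw [ht] at h
    rw [← LinearMap.lTensor_comp_apply]
    exact h
  have hsum : ∀ x : L ⊗[k] A, x = ∑ j, LinearMap.lTensor L i (LinearMap.lTensor L (ψ j) x) * ((1 : L) ⊗ₜ[k] b j) := by
    intro x
    induction x using TensorProduct.induction_on with
    | zero => simp
    | add u v hu hv => simp only [map_add, add_mul, Finset.sum_add_distrib, ← hu, ← hv]
    | tmul l u =>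
        simp only [LinearMap.lTensor_tmul, Algebra.TensorProduct.tmul_mul_tmul, mul_one, ← TensorProduct.tmul_sum,
          hi', ← Algebra.smul_def]
        exact congrArg (l ⊗ₜ[k] ·) (b.sum_repr u).symm
  rw [hsum x]
  simp [hzero]

/-- A simple algebra stays semiprime: a two-sided ideal of `L ⊗ A` meeting `L ⊗ centre` trivially is zero. -/
theorem eq_zero_of_mem_twoSided_of_simple [IsSimpleRing A] [FiniteDimensional k A] (S : Set (L ⊗[k] A))
    (h0 : (0 : L ⊗[k] A) ∈ S) (hadd : ∀ x ∈ S, ∀ y ∈ S, x + y ∈ S) (hmul : ∀ a b, ∀ x ∈ S, a * x * b ∈ S)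
    (hcenter : ∀ z, centerIncl (k := k) (A := A) L z ∈ S → centerIncl (k := k) (A := A) L z = 0)
    {x : L ⊗[k] A} (hx : x ∈ S) : x = 0 := by
  letI : Field (Subalgebra.center k A) := (isField_center k A).toField
  letI := centerAlgebra k A
  exact @eq_zero_of_mem_twoSided_field k _ A _ _ L _ _ (Subalgebra.center k A) _ _ (centerAlgebra k A)
    (IsScalarTower.of_algebraMap_eq fun _ => rfl) (isCentral_center k A) _ (finiteDimensional_center k A)
    S h0 hadd hmul hcenter x hx

theorem isReduced_tensor_center [IsSimpleRing A] [FiniteDimensional k A]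
    [Algebra.IsSeparable k (Subalgebra.center k A)] : IsReduced (L ⊗[k] Subalgebra.center k A) := by
  letI : Field (Subalgebra.center k A) := (isField_center k A).toField
  haveI : Algebra.FormallyUnramified k (Subalgebra.center k A) := Algebra.FormallyUnramified.of_isSeparable k _
  exact Algebra.FormallyUnramified.isReduced_of_field L _

theorem isSemisimpleRing_baseChange_simple [IsSimpleRing A] [FiniteDimensional k A]
    [Algebra.IsSeparable k (Subalgebra.center k A)] : IsSemisimpleRing (L ⊗[k] A) := by
  haveI : IsArtinianRing (L ⊗[k] A) := IsArtinianRing.of_finite L _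
  haveI := isReduced_tensor_center (k := k) (A := A) L
  refine (IsArtinianRing.isSemisimpleRing_iff_jacobson).2 (eq_bot_iff.2 fun x hx => Ideal.mem_bot.2 ?_)
  refine eq_zero_of_mem_twoSided_of_simple L (Ring.jacobson (L ⊗[k] A) : Set _) (zero_mem _)
    (fun _ h _ h' => add_mem h h') (fun a c y hy => Ideal.mul_mem_right _ _ (Ideal.mul_mem_left _ a hy)) ?_ hx
  intro z hz
  obtain ⟨n, hn⟩ := IsSemiprimaryRing.isNilpotent (R := L ⊗[k] A)
  have hzn : centerIncl (k := k) (A := A) L (z ^ n) = 0 := by
    rw [map_pow]
    exact (Ideal.mem_bot).1 ((show Ring.jacobson (L ⊗[k] A) ^ n = ⊥ from hn) ▸ Ideal.pow_mem_pow hz n)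
  have hz' : IsNilpotent z := ⟨n, centerIncl_injective L (hzn.trans (map_zero _).symm)⟩
  rw [hz'.eq_zero, map_zero]

theorem isSeparable_center_of_surjective {B : Type*} [Ring B] [Algebra k B] (f : A →ₐ[k] B)
    [Algebra.IsSeparable k (Subalgebra.center k A)]
    (h : ∀ z ∈ Subalgebra.center k B, ∃ w ∈ Subalgebra.center k A, f w = z) :
    Algebra.IsSeparable k (Subalgebra.center k B) := by
  refine ⟨fun z => ?_⟩
  obtain ⟨w, hw, hwz⟩ := h z z.2
  have h1 : (minpoly k (⟨w, hw⟩ : Subalgebra.center k A)).Separable := Algebra.IsSeparable.isSeparable k _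
  refine h1.of_dvd (minpoly.dvd k z (Subtype.ext ?_))
  have h2 : Polynomial.aeval w (minpoly k (⟨w, hw⟩ : Subalgebra.center k A)) = 0 := by
    exact (Polynomial.aeval_algHom_apply (Subalgebra.center k A).val ⟨w, hw⟩ _).trans (by rw [minpoly.aeval, map_zero])
  rw [Polynomial.aeval_subalgebra_coe, ← hwz, Polynomial.aeval_algHom_apply, h2, map_zero]
  rfl

theorem isSemisimpleRing_baseChange [IsSemisimpleRing A] [FiniteDimensional k A]
    [Algebra.IsSeparable k (Subalgebra.center k A)] : IsSemisimpleRing (L ⊗[k] A) := by
  classical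
  obtain ⟨n, D, d, _, _, _, hd, ⟨e⟩⟩ := IsSemisimpleRing.exists_algEquiv_pi_matrix_divisionRing_finite k A
  haveI := hd
  have hi : ∀ i, IsSemisimpleRing (L ⊗[k] Matrix (Fin (d i)) (Fin (d i)) (D i)) := fun i => by
    haveI : Nonempty (Fin (d i)) := ⟨0⟩
    haveI : IsSimpleRing (Matrix (Fin (d i)) (Fin (d i)) (D i)) := inferInstance
    haveI : Algebra.IsSeparable k (Subalgebra.center k (Matrix (Fin (d i)) (Fin (d i)) (D i))) :=
      isSeparable_center_of_surjective ((Pi.evalAlgHom k _ i).comp e.toAlgHom) fun z hz => by
        refine ⟨e.symm (Function.update 0 i z), Subalgebra.mem_center_iff.2 fun x => e.injective ?_, by simp⟩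
        rw [map_mul, map_mul, e.apply_symm_apply]
        funext j
        rcases eq_or_ne j i with rfl | hj
        · simp [Subalgebra.mem_center_iff.1 hz]
        · simp [Function.update_of_ne hj]
    exact isSemisimpleRing_baseChange_simple L
  exact ((Algebra.TensorProduct.congr AlgEquiv.refl e).trans
    (Algebra.TensorProduct.piRight k L L _)).symm.toRingEquiv.isSemisimpleRing

end Groth.Agent.CSA
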