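import Mathlib.Algebra.Central.Basic
import Mathlib.Algebra.Central.TensorProduct
import Mathlib.RingTheory.SimpleRing.Basic
import Mathlib.RingTheory.SimpleRing.Congr
import Mathlib.RingTheory.SimpleRing.Matrix
import Mathlib.Algebra.Central.Matrix
import Mathlib.Algebra.Azumaya.Defs
import Mathlib.LinearAlgebra.TensorProduct.Basis
import Mathlib.LinearAlgebra.Dimension.Constructions
import Mathlib.LinearAlgebra.FiniteDimensional.Basic
import Mathlib.LinearAlgebra.Matrix.ToLin
import Mathlib.LinearAlgebra.Matrix.BaseChange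
import Mathlib.LinearAlgebra.FiniteDimensional.Lemmas
import Mathlib.LinearAlgebra.FreeModule.Finite.Matrix
import Mathlib.RingTheory.TensorProduct.Maps

/-!
Tensor products of simple algebras with central simple algebras over a field.
-/

set_option autoImplicit false

universe u v w

open scoped TensorProduct

namespace Groth.Agent.CSA

variable {k : Type u} [Field k] {B : Type v} [Ring B] [Algebra k B] {A : Type w} [Ring A] [Algebra k A]

section

variable {ι : Type*} [DecidableEq ι] (ℬ : Module.Basis ι k B)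

theorem coeff_mul_right (x : B ⊗[k] A) (a : A) (i : ι) :
    TensorProduct.equivFinsuppOfBasisLeft ℬ (x * ((1 : B) ⊗ₜ[k] a)) i =
      TensorProduct.equivFinsuppOfBasisLeft ℬ x i * a := by
  induction x using TensorProduct.induction_on with
  | zero => simp
  | tmul b c => simp
  | add x y hx hy => simp only [add_mul, map_add, Finsupp.add_apply, hx, hy]

theorem coeff_mul_left (x : B ⊗[k] A) (a : A) (i : ι) :
    TensorProduct.equivFinsuppOfBasisLeft ℬ (((1 : B) ⊗ₜ[k] a) * x) i =
      a * TensorProduct.equivFinsuppOfBasisLeft ℬ x i := by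
  induction x using TensorProduct.induction_on with
  | zero => simp
  | tmul b c => simp
  | add x y hx hy => simp only [mul_add, map_add, Finsupp.add_apply, hx, hy]

end

/-- In `B ⊗ A` with `A` central, the centralizer of `1 ⊗ A` is `B ⊗ 1`. -/
theorem exists_eq_tmul_one_of_commute [Algebra.IsCentral k A] (x : B ⊗[k] A)
    (h : ∀ a : A, ((1 : B) ⊗ₜ[k] a) * x = x * ((1 : B) ⊗ₜ[k] a)) :
    ∃ b : B, x = b ⊗ₜ[k] (1 : A) := by
  classical
  obtain ⟨⟨ι, ℬ⟩⟩ := Module.Free.exists_basis (R := k) (M := B)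
  set φ := TensorProduct.equivFinsuppOfBasisLeft (N := A) ℬ with hφ
  have hc : ∀ i, ∃ c : k, φ x i = algebraMap k A c := fun i => by
    refine (Algebra.IsCentral.mem_center_iff k).1 (Subalgebra.mem_center_iff.2 fun a => ?_)
    rw [← coeff_mul_left, h a, coeff_mul_right]
  choose c hc using hc
  refine ⟨(φ x).sum fun i _ => c i • ℬ i, ?_⟩
  have hx : x = φ.symm (φ x) := (φ.symm_apply_apply x).symm
  conv_lhs => rw [hx]
  rw [hφ, TensorProduct.equivFinsuppOfBasisLeft_symm_apply, ← hφ]
  simp only [Finsupp.sum, TensorProduct.sum_tmul]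
  refine Finset.sum_congr rfl fun i _ => ?_
  rw [hc i, Algebra.algebraMap_eq_smul_one, TensorProduct.smul_tmul]

/-- A nonzero two-sided ideal of `B ⊗ A`, with `A` central simple, meets `B ⊗ 1`. -/
theorem exists_tmul_one_mem [Algebra.IsCentral k A] [IsSimpleRing A]
    (I : TwoSidedIdeal (B ⊗[k] A)) (hI : I ≠ ⊥) :
    ∃ b : B, b ≠ 0 ∧ b ⊗ₜ[k] (1 : A) ∈ I := by
  classical
  obtain ⟨⟨ι, ℬ⟩⟩ := Module.Free.exists_basis (R := k) (M := B)
  set φ := TensorProduct.equivFinsuppOfBasisLeft (N := A) ℬ with hφ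
  have hex : ∃ n : ℕ, ∃ x ∈ I, x ≠ 0 ∧ (φ x).support.card = n := by
    obtain ⟨x, hx, hx0⟩ := SetLike.exists_of_lt (bot_lt_iff_ne_bot.mpr hI)
    exact ⟨_, x, hx, by simpa [TwoSidedIdeal.mem_bot] using hx0, rfl⟩
  obtain ⟨x, hxI, hx0, hcard⟩ := Nat.find_spec hex
  have hmin : ∀ y ∈ I, (φ y).support ⊂ (φ x).support → y = 0 := by
    intro y hy hss
    by_contra hy0
    exact Nat.find_min hex (by rw [← hcard]; exact Finset.card_lt_card hss) ⟨y, hy, hy0, rfl⟩
  obtain ⟨i₀, hi₀⟩ : (φ x).support.Nonempty :=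
    Finsupp.support_nonempty_iff.2 (fun h => hx0 (φ.injective (by simpa using h)))
  let J : TwoSidedIdeal A := TwoSidedIdeal.mk'
    {a | ∃ y ∈ I, (φ y).support ⊆ (φ x).support ∧ φ y i₀ = a}
    ⟨0, I.zero_mem, by simp, by simp⟩
    (by
      rintro a b ⟨y, hy, hys, rfl⟩ ⟨z, hz, hzs, rfl⟩
      refine ⟨y + z, I.add_mem hy hz, ?_, by simp⟩
      rw [map_add]
      exact Finsupp.support_add.trans (Finset.union_subset hys hzs))
    (by
      rintro a ⟨y, hy, hys, rfl⟩
      exact ⟨-y, I.neg_mem hy, by simpa using hys, by simp⟩)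
    (by
      rintro a b ⟨y, hy, hys, rfl⟩
      refine ⟨((1 : B) ⊗ₜ[k] a) * y, I.mul_mem_left _ _ hy, fun i hi => hys ?_, coeff_mul_left ℬ y a i₀⟩
      simp only [Finsupp.mem_support_iff, ne_eq, hφ, coeff_mul_left] at hi ⊢
      exact right_ne_zero_of_mul hi)
    (by
      rintro a b ⟨y, hy, hys, rfl⟩
      refine ⟨y * ((1 : B) ⊗ₜ[k] b), I.mul_mem_right _ _ hy, fun i hi => hys ?_, coeff_mul_right ℬ y b i₀⟩
      simp only [Finsupp.mem_support_iff, ne_eq, hφ, coeff_mul_right] at hi ⊢
      exact left_ne_zero_of_mul hi)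
  have hmemJ : φ x i₀ ∈ J := (TwoSidedIdeal.mem_mk' ..).2 ⟨x, hxI, subset_rfl, rfl⟩
  have h1 : (1 : A) ∈ J := IsSimpleRing.one_mem_of_ne_zero_mem J (Finsupp.mem_support_iff.1 hi₀) hmemJ
  obtain ⟨y, hyI, hys, hy1⟩ := (TwoSidedIdeal.mem_mk' ..).1 h1
  have hcomm : ∀ a : A, ((1 : B) ⊗ₜ[k] a) * y = y * ((1 : B) ⊗ₜ[k] a) := by
    intro a
    refine sub_eq_zero.1 (hmin _ (I.sub_mem (I.mul_mem_left _ _ hyI) (I.mul_mem_right _ _ hyI)) ?_)
    refine (Finset.ssubset_iff_of_subset ?_).2 ⟨i₀, hi₀, ?_⟩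
    · intro i hi
      apply hys
      simp only [Finsupp.mem_support_iff, ne_eq, map_sub, Finsupp.sub_apply, hφ, coeff_mul_left,
        coeff_mul_right] at hi ⊢
      contrapose! hi
      simp [hi]
    · simp only [Finsupp.mem_support_iff, ne_eq, map_sub, Finsupp.sub_apply, hφ, coeff_mul_left,
        coeff_mul_right, not_not]
      rw [← hφ, hy1]
      simp
  obtain ⟨b, rfl⟩ := exists_eq_tmul_one_of_commute y hcomm
  refine ⟨b, ?_, hyI⟩
  rintro rfl
  simp at hy1

theorem isSimpleRing_tensor_right [Algebra.IsCentral k A] [IsSimpleRing A] [IsSimpleRing B] :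
    IsSimpleRing (B ⊗[k] A) := by
  have : Nontrivial (B ⊗[k] A) :=
    (Algebra.TensorProduct.includeLeft_injective (S := k) (FaithfulSMul.algebraMap_injective k A)).nontrivial
  refine .of_eq_bot_or_eq_top fun I => or_iff_not_imp_left.2 fun hI => ?_
  obtain ⟨b, hb, hbI⟩ := exists_tmul_one_mem I hI
  have := IsSimpleRing.one_mem_of_ne_zero_mem
    (I.comap (Algebra.TensorProduct.includeLeft : B →ₐ[k] B ⊗[k] A)) hb
    (by simpa [TwoSidedIdeal.mem_comap] using hbI)
  rw [← I.one_mem_iff]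
  simpa [TwoSidedIdeal.mem_comap, Algebra.TensorProduct.one_def] using this

theorem isSimpleRing_tensor_left [Algebra.IsCentral k A] [IsSimpleRing A] [IsSimpleRing B] :
    IsSimpleRing (A ⊗[k] B) :=
  have := isSimpleRing_tensor_right (k := k) (B := B) (A := A)
  .of_ringEquiv (Algebra.TensorProduct.comm k B A).toRingEquiv this

theorem isCentral_tensor [Algebra.IsCentral k A] [Algebra.IsCentral k B] [Nontrivial A] :
    Algebra.IsCentral k (B ⊗[k] A) where
  out x hx := by
    rw [Subalgebra.mem_center_iff] at hx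
    obtain ⟨b, rfl⟩ := exists_eq_tmul_one_of_commute x fun a => hx _
    have hb : b ∈ Subalgebra.center k B := Subalgebra.mem_center_iff.2 fun b' => by
      refine Algebra.TensorProduct.includeLeft_injective (S := k) (A := B)
        (FaithfulSMul.algebraMap_injective k A) ?_
      simpa using hx (b' ⊗ₜ[k] 1)
    obtain ⟨c, rfl⟩ := (Algebra.IsCentral.mem_center_iff k).1 hb
    exact Algebra.mem_bot.2 ⟨c, Algebra.TensorProduct.algebraMap_apply c⟩

theorem isCentral_baseChange {K : Type v} [Field K] [Algebra k K] [Algebra.IsCentral k A] :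
    Algebra.IsCentral K (K ⊗[k] A) where
  out x hx := by
    rw [Subalgebra.mem_center_iff] at hx
    obtain ⟨b, rfl⟩ := exists_eq_tmul_one_of_commute x fun a => hx _
    exact Algebra.mem_bot.2 ⟨b, by simp [Algebra.TensorProduct.algebraMap_apply]⟩

theorem isSimpleRing_baseChange {K : Type v} [Field K] [Algebra k K] [Algebra.IsCentral k A]
    [IsSimpleRing A] : IsSimpleRing (K ⊗[k] A) :=
  isSimpleRing_tensor_right

theorem isSimpleRing_op [IsSimpleRing A] : IsSimpleRing Aᵐᵒᵖ := inferInstance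

theorem mulLeftRight_bijective [Algebra.IsCentral k A] [IsSimpleRing A] [FiniteDimensional k A] :
    Function.Bijective (AlgHom.mulLeftRight k A) := by
  have : IsSimpleRing (A ⊗[k] Aᵐᵒᵖ) := isSimpleRing_tensor_left
  have hinj : Function.Injective (AlgHom.mulLeftRight k A) :=
    (AlgHom.mulLeftRight k A).toRingHom.injective
  refine ⟨hinj, ?_⟩
  have h : Module.finrank k (A ⊗[k] Aᵐᵒᵖ) = Module.finrank k (Module.End k A) := by
    rw [Module.finrank_tensorProduct, Module.finrank_linearMap,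
      (MulOpposite.opLinearEquiv k : A ≃ₗ[k] Aᵐᵒᵖ).finrank_eq]
  exact (LinearMap.injective_iff_surjective_of_finrank_eq_finrank
    (f := (AlgHom.mulLeftRight k A).toLinearMap) h).1 hinj

theorem isAzumaya [Algebra.IsCentral k A] [IsSimpleRing A] [FiniteDimensional k A] :
    IsAzumaya k A where
  eq_of_smul_eq_smul {_ _} h :=
    smul_left_injective k (one_ne_zero : (1 : A) ≠ 0) (h 1)
  bij := mulLeftRight_bijective

end Groth.Agent.CSA
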