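import Groth.Agent.CSA.LocalAzu
import Mathlib.RingTheory.Etale.Basic

/-!
An Azumaya algebra over a local ring is split by a maximal finite étale subalgebra.
-/

set_option autoImplicit false
set_option linter.style.haveILetI false

universe u

open scoped TensorProduct
open IsLocalRing

namespace Groth.Agent.CSA.SplitEtale

variable {R : Type u} [CommRing R] [IsLocalRing R] {A : Type u} [Ring A] [Algebra R A] [IsAzumaya R A]
  {r : ℕ} (hA : Module.finrank R A = r ^ 2) {E : Type u} [CommRing E] [Algebra R E] [Algebra.Etale R E]
  [Module.Finite R E] [Module.Free R E] (hE : Module.finrank R E = r) (u : E →ₐ[R] A)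
  (hu : Function.Injective (u.toLinearMap.lTensor (ResidueField R))) [Module E A]
  (hmod : ∀ (e : E) (a : A), e • a = a * u e)

include hA hE hu hmod in
theorem free_and_split :
    Module.Free E A ∧ Module.finrank E A = r ∧ Nonempty ((E ⊗[R] A) ≃ₐ[E] Module.End E A) := by
  classical
  let k := ResidueField R
  have := LocalAzu.free R A
  obtain ⟨_, _, _⟩ := LocalAzu.isCSA_fibre R A
  have hST := MaxEtale.isScalarTower u hmod
  let L := k ⊗[R] E
  let ι : L →ₐ[k] k ⊗[R] A := Algebra.TensorProduct.map (AlgHom.id k k) u
  have hι : Function.Injective ι := by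
    have he : ∀ t : L, ι t = u.toLinearMap.lTensor k t := fun t => by
      induction t using TensorProduct.induction_on with
      | zero => simp
      | tmul a b => rfl
      | add a b ha hb => rw [map_add, map_add, ha, hb]
    exact fun s t h => hu (by rw [← he, ← he, h])
  have hL : Module.finrank k L = r := by rw [Module.finrank_baseChange, hE]
  have : IsReduced L := Algebra.FormallyUnramified.isReduced_of_field k L
  have hAk : Module.finrank k (k ⊗[R] A) = r ^ 2 := by rw [LocalAzu.finrank_fibre, hA]
  letI := MaxEtale.rightModule ι
  have hmodk : ∀ (l : L) (a : k ⊗[R] A), l • a = a * ι l := fun _ _ => rfl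
  have hSTk := MaxEtale.isScalarTower ι hmodk
  obtain ⟨hfree, hrk⟩ := MaxEtale.free_of_finrank ι hι hmodk hAk hL
  have : Module.Finite L (k ⊗[R] A) := Module.Finite.of_restrictScalars_finite k L _
  have : Nontrivial L := ι.toRingHom.domain_nontrivial
  let β := Module.finBasisOfFinrankEq L (k ⊗[R] A) hrk
  have hmk : Function.Surjective (TensorProduct.mk R k A 1) :=
    TensorProduct.mk_surjective R A k Ideal.Quotient.mk_surjective
  choose a ha using fun i => hmk (β i)
  let e := Module.Free.chooseBasis R E
  let v : Module.Free.ChooseBasisIndex R E × Fin r → A := fun p => e p.1 • a p.2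
  have hv : TensorProduct.mk R k A 1 ∘ v = (e.baseChange k).smulTower β := funext fun p => by
    rw [Function.comp_apply, Module.Basis.smulTower_apply, Module.Basis.baseChange_apply, hmodk, ← ha]
    simp only [v, hmod, TensorProduct.mk_apply, ι, Algebra.TensorProduct.map_tmul, AlgHom.id_apply,
      Algebra.TensorProduct.tmul_mul_tmul, one_mul]
    exact ((congrArg (fun t => (1 : k) ⊗ₜ[R] a p.2 * t) (Algebra.TensorProduct.map_tmul _ _ _ _)).trans
      ((Algebra.TensorProduct.tmul_mul_tmul _ _ _ _).trans (by rw [AlgHom.id_apply, one_mul]))).symm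
  have hbij : Function.Bijective (Finsupp.linearCombination R v) :=
    Module.IsLocalRing.linearCombination_bijective_of_flat v (by
      rw [hv, show (Finsupp.linearCombination (ResidueField R) ⇑((e.baseChange k).smulTower β) : _ → _) =
          ((e.baseChange k).smulTower β).repr.symm from
        funext fun f => (((e.baseChange k).smulTower β).repr_symm_apply f).symm]
      exact ((e.baseChange k).smulTower β).repr.symm.bijective)
  let bR : Module.Basis _ R A := .ofRepr (LinearEquiv.ofBijective _ hbij).symm
  have hbR : ∀ p, bR p = v p := fun p => by simp [bR, Module.Basis.coe_ofRepr]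
  have hliE : LinearIndependent E a := by
    rw [Fintype.linearIndependent_iff]
    intro g hg i
    have h1 : ∑ p : Module.Free.ChooseBasisIndex R E × Fin r, e.repr (g p.2) p.1 • v p = 0 := by
      rw [Fintype.sum_prod_type_right, ← hg]
      refine Finset.sum_congr rfl fun i _ => ?_
      simp only [v, ← smul_assoc, ← Finset.sum_smul, e.sum_repr]
    have h2 := Fintype.linearIndependent_iff.1 (by simpa [← funext hbR] using bR.linearIndependent) _ h1
    exact e.repr.injective (by ext j; simpa using h2 (j, i))
  have hspan : ⊤ ≤ Submodule.span E (Set.range a) := fun x _ => by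
    rw [← bR.sum_repr x]
    refine Submodule.sum_mem _ fun p _ => ?_
    rw [hbR]
    simp only [v, ← smul_assoc]
    exact Submodule.smul_mem _ _ (Submodule.subset_span ⟨p.2, rfl⟩)
  let bE := Module.Basis.mk hliE hspan
  have : Module.Free E A := .of_basis bE
  have : Nontrivial E := (Algebra.TensorProduct.includeRight : E →ₐ[R] L).toRingHom.domain_nontrivial
  have hrkE : Module.finrank E A = r := by rw [Module.finrank_eq_card_basis bE, Fintype.card_fin]
  have : Module.Finite E A := Module.Finite.of_basis bE
  refine ⟨inferInstance, hrkE, ⟨AlgEquiv.ofBijective (MaxEtale.action u hmod) ?_⟩⟩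
  let bEnd := e.smulTower ((Matrix.stdBasis E (Fin r) (Fin r)).map (LinearMap.toMatrix bE bE).symm)
  have : Module.Free R (Module.End E A) := .of_basis bEnd
  have : Module.Finite R (Module.End E A) := Module.Finite.of_basis bEnd
  have hrkEnd : Module.finrank k (k ⊗[R] Module.End E A) = r * r ^ 2 := by
    rw [Module.finrank_baseChange, Module.finrank_eq_card_basis bEnd]
    simp only [Fintype.card_prod, Fintype.card_fin, ← Module.finrank_eq_card_basis e, hE, sq]
  let bA := Module.Free.chooseBasis R A
  let w := e.tensorProduct bA
  let F : Module.End E A →ₗ[R] Module.End k (k ⊗[R] A) :=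
    { toFun := fun g => (g.restrictScalars R).baseChange k
      map_add' := fun g g' => by
        rw [LinearMap.restrictScalars_add, LinearMap.baseChange_add]
      map_smul' := fun c g => by
        rw [LinearMap.restrictScalars_smul, LinearMap.baseChange_smul]; rfl }
  let Θ : k ⊗[R] Module.End E A →ₗ[k] Module.End k (k ⊗[R] A) := F.liftBaseChange k
  let famk : Module.Free.ChooseBasisIndex R E × Module.Free.ChooseBasisIndex R A → k ⊗[R] Module.End E A :=
    fun p => 1 ⊗ₜ MaxEtale.action u hmod (w p)
  let wk := (e.baseChange k).tensorProduct (bA.baseChange k)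
  have hΘ : ∀ p, Θ (famk p) = (MaxEtale.action ι hmodk (wk p)).restrictScalars k := fun p => by
    simp only [Θ, famk, LinearMap.liftBaseChange_tmul, one_smul, wk, w, Module.Basis.tensorProduct_apply',
      Module.Basis.baseChange_apply]
    ext x
    simp [F, MaxEtale.action_tmul, ι, Algebra.TensorProduct.tmul_mul_tmul]
    exact ((congrArg (fun t => (1 : k) ⊗ₜ[R] (bA p.2 * x) * t) (Algebra.TensorProduct.map_tmul _ _ _ _)).trans
      ((Algebra.TensorProduct.tmul_mul_tmul _ _ _ _).trans (by rw [AlgHom.id_apply, one_mul]))).symm
  have hli : LinearIndependent k famk := by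
    refine LinearIndependent.of_comp Θ ?_
    have h0 : LinearIndependent k (fun p => MaxEtale.action ι hmodk (wk p)) :=
      wk.linearIndependent.map' ((MaxEtale.action ι hmodk).toLinearMap.restrictScalars k)
        (LinearMap.ker_eq_bot.2 (MaxEtale.action_injective ι hι hmodk))
    have h1 := h0.map' (LinearMap.restrictScalarsₗ k L (k ⊗[R] A) (k ⊗[R] A) k)
      (LinearMap.ker_eq_bot.2 (LinearMap.restrictScalars_injective k))
    rw [show Θ ∘ famk = fun p => (MaxEtale.action ι hmodk (wk p)).restrictScalars k from funext hΘ]
    exact h1
  have hcard : Fintype.card (Module.Free.ChooseBasisIndex R E × Module.Free.ChooseBasisIndex R A) =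
      r * r ^ 2 := by
    rw [Fintype.card_prod, ← Module.finrank_eq_card_basis e, ← Module.finrank_eq_card_basis bA, hA, hE]
  have hbk : Function.Bijective (Finsupp.linearCombination k famk) := by
    refine ⟨hli, (LinearMap.injective_iff_surjective_of_finrank_eq_finrank
      (f := Finsupp.linearCombination k famk) ?_).1 hli⟩
    rw [Module.finrank_finsupp, Module.finrank_self, hrkEnd, mul_one, hcard]
  have hbR2 : Function.Bijective (Finsupp.linearCombination R (fun p => MaxEtale.action u hmod (w p))) :=
    Module.IsLocalRing.linearCombination_bijective_of_flat _ hbk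
  have hcomp : ⇑(MaxEtale.action u hmod) =
      Finsupp.linearCombination R (fun p => MaxEtale.action u hmod (w p)) ∘ w.repr := funext fun t => by
    conv_lhs => rw [← w.linearCombination_repr t]
    exact (Finsupp.apply_linearCombination R ((MaxEtale.action u hmod).toLinearMap.restrictScalars R) w (w.repr t))
  rw [hcomp]
  exact hbR2.comp w.repr.bijective

end Groth.Agent.CSA.SplitEtale
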