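import Groth.Agent.CSA.Division
import Groth.Prelude.Def_Curves
import Mathlib.RingTheory.SimpleModule.IsAlgClosed
import Mathlib.FieldTheory.IsAlgClosed.AlgebraicClosure
import Mathlib.FieldTheory.Normal.Closure
import Mathlib.FieldTheory.SeparableClosure

/-!
Splitting fields of central simple algebras; degree; separable and Galois splitting fields.
-/

set_option autoImplicit false

universe u v w x

open scoped TensorProduct

namespace Groth.Agent.CSA

variable (k : Type u) [Field k] (A : Type v) [Ring A] [Algebra k A]

section CSA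

variable [Algebra.IsCentral k A] [IsSimpleRing A] [FiniteDimensional k A]

theorem exists_algEquiv_matrix_divisionRing :
    ∃ (n : ℕ) (_ : NeZero n) (D : Type v) (_ : DivisionRing D) (_ : Algebra k D),
      FiniteDimensional k D ∧ Algebra.IsCentral k D ∧ Nonempty (A ≃ₐ[k] Matrix (Fin n) (Fin n) D) := by
  have := IsArtinianRing.of_finite k A
  obtain ⟨n, hn, D, _, _, hfin, ⟨e⟩⟩ := IsSimpleRing.exists_algEquiv_matrix_divisionRing_finite k A
  have := Algebra.IsCentral.of_algEquiv k A _ e
  have : Nonempty (Fin n) := ⟨0⟩
  exact ⟨n, hn, D, _, _, hfin, isCentral_of_matrix (ι := Fin n), ⟨e⟩⟩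

theorem splits_of_isSepClosed (K : Type w) [Field K] [Algebra k K] [IsSepClosed K] :
    Curves.Splits k A K := by
  have : IsSimpleRing (K ⊗[k] A) := isSimpleRing_tensor_right
  have : Algebra.IsCentral K (K ⊗[k] A) := isCentral_baseChange
  exact exists_algEquiv_matrix_of_isSepClosed (K ⊗[k] A)

/-- The degree of a central simple algebra. -/
noncomputable def deg : ℕ := Nat.sqrt (Module.finrank k A)

theorem exists_finrank_eq_sq : ∃ n : ℕ, n ≠ 0 ∧ Module.finrank k A = n ^ 2 := by
  obtain ⟨n, hn, ⟨e⟩⟩ := splits_of_isSepClosed k A (AlgebraicClosure k)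
  refine ⟨n, hn, ?_⟩
  have h := e.toLinearEquiv.finrank_eq
  rw [Module.finrank_baseChange, Module.finrank_matrix, Module.finrank_self] at h
  simpa [sq] using h

theorem finrank_eq_deg_sq : Module.finrank k A = deg k A ^ 2 := by
  obtain ⟨n, _, hn⟩ := exists_finrank_eq_sq k A
  rw [deg, hn, Nat.sqrt_eq']

theorem deg_pos : 0 < deg k A := by
  obtain ⟨n, hn0, hn⟩ := exists_finrank_eq_sq k A
  rw [deg, hn, Nat.sqrt_eq']
  exact Nat.pos_of_ne_zero hn0

omit [Algebra.IsCentral k A] [IsSimpleRing A] [FiniteDimensional k A] in
theorem deg_eq_of_finrank {n : ℕ} (h : Module.finrank k A = n ^ 2) : deg k A = n := by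
  rw [deg, h, Nat.sqrt_eq']

theorem splits_of_algHom_matrix (K : Type w) [Field K] [Algebra k K] (n : ℕ) (hn : Module.finrank k A = n ^ 2)
    (f : A →ₐ[k] Matrix (Fin n) (Fin n) K) : Curves.Splits k A K := by
  have hn0 : n ≠ 0 := by
    rintro rfl
    have := Module.finrank_pos (R := k) (M := A)
    simp [hn] at this
  have : IsSimpleRing (K ⊗[k] A) := isSimpleRing_tensor_right
  have : NeZero n := ⟨hn0⟩
  let F : K ⊗[k] A →ₐ[K] Matrix (Fin n) (Fin n) K :=
    Algebra.TensorProduct.lift (Algebra.ofId K _) f fun c a => Algebra.commutes c _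
  have hinj : Function.Injective F := F.toRingHom.injective
  refine ⟨n, hn0, ⟨AlgEquiv.ofBijective F ⟨hinj, ?_⟩⟩⟩
  refine (LinearMap.injective_iff_surjective_of_finrank_eq_finrank (f := F.toLinearMap) ?_).1 hinj
  rw [Module.finrank_baseChange, Module.finrank_matrix, Module.finrank_self, hn]
  simp [sq]

omit [Algebra.IsCentral k A] [IsSimpleRing A] [FiniteDimensional k A] in
theorem splits_size {K : Type w} [Field K] [Algebra k K] {n : ℕ}
    (e : K ⊗[k] A ≃ₐ[K] Matrix (Fin n) (Fin n) K) : n = deg k A := by
  have h := e.toLinearEquiv.finrank_eq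
  rw [Module.finrank_baseChange, Module.finrank_matrix, Module.finrank_self] at h
  exact (deg_eq_of_finrank k A (by simpa [sq] using h)).symm

omit [Algebra.IsCentral k A] [IsSimpleRing A] [FiniteDimensional k A] in
/-- The homomorphism `A → M_n K` of a splitting. -/
noncomputable def splittingHom {K : Type w} [Field K] [Algebra k K] {n : ℕ}
    (e : K ⊗[k] A ≃ₐ[K] Matrix (Fin n) (Fin n) K) : A →ₐ[k] Matrix (Fin n) (Fin n) K :=
  (e.restrictScalars k).toAlgHom.comp Algebra.TensorProduct.includeRight

omit [Algebra.IsCentral k A] [IsSimpleRing A] [FiniteDimensional k A] in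
theorem splittingHom_apply {K : Type w} [Field K] [Algebra k K] {n : ℕ}
    (e : K ⊗[k] A ≃ₐ[K] Matrix (Fin n) (Fin n) K) (a : A) : splittingHom k A e a = e (1 ⊗ₜ[k] a) := rfl

theorem splits_of_splits_algHom {K : Type w} [Field K] [Algebra k K] {L : Type x} [Field L] [Algebra k L]
    (σ : K →ₐ[k] L) (h : Curves.Splits k A K) : Curves.Splits k A L := by
  obtain ⟨n, _, ⟨e⟩⟩ := h
  refine splits_of_algHom_matrix k A L n ?_ (σ.mapMatrix.comp (splittingHom k A e))
  rw [splits_size k A e]
  exact finrank_eq_deg_sq k A

open IntermediateField in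
/-- A splitting over an algebraic extension descends to a finite subextension. -/
theorem exists_finite_intermediateField_splits (Ω : Type w) [Field Ω] [Algebra k Ω]
    [Algebra.IsAlgebraic k Ω] (h : Curves.Splits k A Ω) :
    ∃ L : IntermediateField k Ω, FiniteDimensional k L ∧ Curves.Splits k A L := by
  classical
  obtain ⟨n, _, ⟨e⟩⟩ := h
  let f := splittingHom k A e
  let b := Module.finBasis k A
  let S : Set Ω := Set.range fun p : Fin (Module.finrank k A) × Fin n × Fin n => f (b p.1) p.2.1 p.2.2
  let L : IntermediateField k Ω := adjoin k S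
  have hfin : FiniteDimensional k L :=
    finiteDimensional_adjoin fun x _ => (Algebra.IsAlgebraic.isAlgebraic x).isIntegral
  have hmem : ∀ a i j, f a i j ∈ L := fun a i j => by
    rw [← b.sum_repr a, map_sum, Matrix.sum_apply]
    refine sum_mem fun l _ => ?_
    rw [map_smul, Matrix.smul_apply, Algebra.smul_def]
    exact L.mul_mem (L.algebraMap_mem _) (subset_adjoin k S ⟨(l, i, j), rfl⟩)
  let g : A →ₐ[k] Matrix (Fin n) (Fin n) L :=
    { toFun := fun a => Matrix.of fun i j => ⟨f a i j, hmem a i j⟩
      map_one' := by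
        ext i j
        simp [Matrix.one_apply]
        split <;> simp
      map_mul' := fun a a' => by
        ext i j
        simp [Matrix.mul_apply]
      map_zero' := by ext i j; simp
      map_add' := fun a a' => by ext i j; simp
      commutes' := fun c => by
        ext i j
        simp [Matrix.algebraMap_matrix_apply]
        split <;> simp }
  exact ⟨L, hfin, splits_of_algHom_matrix k A L n (by rw [splits_size k A e]; exact finrank_eq_deg_sq k A) g⟩

/-- A finite Galois splitting field. -/
theorem exists_galois_intermediateField_splits :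
    ∃ L : IntermediateField k (SeparableClosure k),
      FiniteDimensional k L ∧ IsGalois k L ∧ Curves.Splits k A L := by
  obtain ⟨L, hL, hs⟩ := exists_finite_intermediateField_splits k A (SeparableClosure k)
    (splits_of_isSepClosed k A _)
  let N := IntermediateField.normalClosure k L (SeparableClosure k)
  have hle : L ≤ N := IntermediateField.le_normalClosure L
  exact ⟨N, inferInstance, inferInstance, splits_of_splits_algHom k A (IntermediateField.inclusion hle) hs⟩

theorem exists_galois_splitting :
    ∃ (L : Type u) (_ : Field L) (_ : Algebra k L), FiniteDimensional k L ∧ IsGalois k L ∧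
      Curves.Splits k A L := by
  obtain ⟨L, h1, h2, h3⟩ := exists_galois_intermediateField_splits k A
  exact ⟨L, _, _, h1, h2, h3⟩

end CSA

end Groth.Agent.CSA
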